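import Cfsg.Agent.Lib.Classical.Dickson.PSL

/-!
# `PSL₂` inside `PGL₂`, transitivity, stabilisers
-/

set_option autoImplicit false
set_option linter.unusedSectionVars false
set_option linter.style.haveILetI false

namespace CfsgLib.Classical.Dickson

open Matrix OnePoint MulAction
open scoped MatrixGroups

variable (F : Type*) [Field F] [Fintype F] [DecidableEq F]

/-- `PSL₂` inside `PGL₂`. -/
def sln : Subgroup (ProjGenLinGroup (Fin 2) F) := (SpecialLinearGroup.toPGL (n := Fin 2) (R := F)).range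

/-- the index of `PSL₂` in `PGL₂` -/
abbrev dd : ℕ := Nat.gcd 2 (Fintype.card F - 1)

variable {F}

theorem dd_cases : (dd F = 1 ∧ Fintype.card F % 2 = 0) ∨ (dd F = 2 ∧ Fintype.card F % 2 = 1) := by
  have h := Fintype.one_lt_card (α := F)
  rcases Nat.mod_two_eq_zero_or_one (Fintype.card F) with e | e
  · refine Or.inl ⟨?_, e⟩
    show Nat.gcd 2 (Fintype.card F - 1) = 1
    rw [Nat.gcd_comm, ← Nat.coprime_iff_gcd_eq_one, Nat.coprime_two_right, Nat.odd_iff]
    omega
  · exact Or.inr ⟨Nat.gcd_eq_left (by omega), e⟩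

theorem mem_sln_iff {g : GL (Fin 2) F} :
    ProjGenLinGroup.mk g ∈ sln F ↔ IsSquare (g : Matrix (Fin 2) (Fin 2) F).det := by
  constructor
  · rintro ⟨s, hs⟩
    obtain ⟨u, hu⟩ := ProjGenLinGroup.mk_eq_mk_iff.mp hs
    refine ⟨u, ?_⟩
    rw [← hu]
    simp [GeneralLinearGroup.coe_scalar]
    ring
  · rintro ⟨r, hr⟩
    have hr0 : r ≠ 0 := fun e => g.det_ne_zero (by rw [hr, e, mul_zero])
    refine ⟨⟨r⁻¹ • (g : Matrix (Fin 2) (Fin 2) F), ?_⟩, ?_⟩
    · rw [det_smul, Fintype.card_fin, hr]; field_simp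
    · show ProjGenLinGroup.mk _ = ProjGenLinGroup.mk g
      rw [ProjGenLinGroup.mk_eq_mk_iff]
      refine ⟨Units.mk0 r hr0, Units.ext ?_⟩
      ext i j
      show ((r⁻¹ • (g : Matrix (Fin 2) (Fin 2) F)) * (GeneralLinearGroup.scalar (Fin 2) (Units.mk0 r hr0) : Matrix (Fin 2) (Fin 2) F)) i j = _
      simp [GeneralLinearGroup.coe_scalar]
      field_simp

instance sln_normal : (sln F).Normal := by
  rw [sln, show (SpecialLinearGroup.toPGL (n := Fin 2) (R := F)).range =
    (SpecialLinearGroup.toGL (n := Fin 2) (R := F)).range.map ProjGenLinGroup.mk from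
      MonoidHom.range_comp _ _, ← CfsgLib.Classical.ker_glDet_eq_range_toGL]
  exact Subgroup.Normal.map inferInstance _ ProjGenLinGroup.mk_surjective

theorem card_sln : dd F * Nat.card (sln F) = (Fintype.card F + 1) * Fintype.card F * (Fintype.card F - 1) := by
  have := card_range_toPGL F
  rw [Nat.card_eq_fintype_card] at this
  exact this

theorem card_pgl_eq : Nat.card (ProjGenLinGroup (Fin 2) F) =
    (Fintype.card F + 1) * Fintype.card F * (Fintype.card F - 1) := by
  rw [card_pgl2, Nat.card_eq_fintype_card]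

theorem index_sln : (sln F).index = dd F := by
  have h := (sln F).card_mul_index
  rw [card_pgl_eq, ← card_sln, mul_comm (dd F)] at h
  exact Nat.eq_of_mul_eq_mul_left Nat.card_pos h

theorem sq_mem_sln (g : ProjGenLinGroup (Fin 2) F) : g ^ 2 ∈ sln F := by
  induction g using ProjGenLinGroup.induction_on with | mk g =>
  rw [← map_pow, mem_sln_iff]
  exact ⟨(g : Matrix (Fin 2) (Fin 2) F).det, by rw [Units.val_pow_eq_pow_val, det_pow, sq]⟩

theorem mem_sln_of_odd {g : ProjGenLinGroup (Fin 2) F} (h : Odd (orderOf g)) : g ∈ sln F := by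
  obtain ⟨r, hr⟩ := h
  have := pow_mem (sq_mem_sln g) (r + 1)
  rwa [← pow_mul, show 2 * (r + 1) = orderOf g + 1 by omega, pow_succ, pow_orderOf_eq_one, one_mul] at this

theorem aff_mem_sln_iff {a : Fˣ} {b : F} : aff a b ∈ sln F ↔ IsSquare (a : F) := by
  rw [aff, mem_sln_iff]
  simp [affGL, det_fin_two]

/-- `PSL₂` is transitive on the line. -/
theorem exists_sln_to_infty (x : OnePoint F) : ∃ h ∈ sln F, h • (∞ : OnePoint F) = x := by
  cases x with
  | infty => exact ⟨1, one_mem _, one_smul _ _⟩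
  | coe k =>
    refine ⟨ProjGenLinGroup.mk (GeneralLinearGroup.mkOfDetNeZero !![k, -1; 1, 0]
      (by simp [det_fin_two])), ?_, ?_⟩
    · rw [mem_sln_iff]; simp [det_fin_two]
    · rw [mk_smul, smul_infty_eq_ite]; simp

theorem exists_sln_pair {x y : OnePoint F} (hxy : x ≠ y) :
    ∃ h ∈ sln F, h • (∞ : OnePoint F) = x ∧ h • ((0 : F) : OnePoint F) = y := by
  obtain ⟨h, hh, e⟩ := exists_sln_to_infty x
  cases e' : h⁻¹ • y with
  | infty => exact absurd ((inv_smul_eq_iff.mp e').trans e).symm hxy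
  | coe b =>
    refine ⟨h * aff 1 b, mul_mem hh (aff_mem_sln_iff.mpr ⟨1, by simp⟩), ?_, ?_⟩
    · rw [mul_smul, aff_smul_infty, e]
    · rw [mul_smul, aff_smul_coe, mul_zero, zero_add, ← e', smul_inv_smul]

/-- An element of `PSL₂` exchanging two given points. -/
theorem exists_sln_swap {x y : OnePoint F} (hxy : x ≠ y) :
    ∃ h ∈ sln F, h • x = y ∧ h • y = x := by
  obtain ⟨m, hm, e1, e2⟩ := exists_sln_pair hxy
  let w : ProjGenLinGroup (Fin 2) F := ProjGenLinGroup.mk
    (GeneralLinearGroup.mkOfDetNeZero !![0, -1; 1, 0] (by simp [det_fin_two]))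
  have hw : w ∈ sln F := by rw [mem_sln_iff]; simp [det_fin_two]
  have w1 : w • (∞ : OnePoint F) = ((0 : F) : OnePoint F) := by
    rw [mk_smul, smul_infty_eq_ite]; simp
  have w2 : w • ((0 : F) : OnePoint F) = ∞ := by
    rw [mk_smul, smul_some_eq_ite]; simp
  refine ⟨m * w * m⁻¹, mul_mem (mul_mem hm hw) (inv_mem hm), ?_, ?_⟩
  · rw [mul_smul, mul_smul, ← e1, inv_smul_smul, w1, e2]
  · rw [mul_smul, mul_smul, ← e2, inv_smul_smul, w2, e1]

/-- The stabiliser in `Γ` of a point. -/
def stabIn (Γ : Subgroup (ProjGenLinGroup (Fin 2) F)) (x : OnePoint F) : Subgroup (ProjGenLinGroup (Fin 2) F) :=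
  Γ ⊓ stabilizer (ProjGenLinGroup (Fin 2) F) x

theorem mem_stabIn {Γ : Subgroup (ProjGenLinGroup (Fin 2) F)} {x : OnePoint F}
    {g : ProjGenLinGroup (Fin 2) F} : g ∈ stabIn Γ x ↔ g ∈ Γ ∧ g • x = x := Iff.rfl

theorem card_stabIn {Γ : Subgroup (ProjGenLinGroup (Fin 2) F)} (hΓ : sln F ≤ Γ) (x : OnePoint F) :
    Nat.card (stabIn Γ x) * (Fintype.card F + 1) = Nat.card Γ := by
  have htr : orbit Γ x = Set.univ := Set.eq_univ_of_forall fun y => by
    obtain ⟨h, hh, e⟩ := exists_sln_to_infty x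
    obtain ⟨h', hh', e'⟩ := exists_sln_to_infty y
    exact ⟨⟨h' * h⁻¹, mul_mem (hΓ hh') (inv_mem (hΓ hh))⟩,
      show (h' * h⁻¹) • x = y by rw [mul_smul, ← e, inv_smul_smul, e']⟩
  have h1 := TwoFixed.o_mul_e (G := Γ) x
  rw [TwoFixed.o, TwoFixed.e, htr, Nat.card_congr (Equiv.Set.univ _), natCard_points,
    Nat.card_eq_fintype_card (α := F), mul_comm] at h1
  rw [← h1]
  congr 1
  exact Nat.card_congr
    { toFun := fun g => ⟨⟨g.1, g.2.1⟩, g.2.2⟩
      invFun := fun g => ⟨g.1.1, g.1.2, g.2⟩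
      left_inv := fun _ => rfl
      right_inv := fun _ => rfl }

theorem stabIn_ne {Γ : Subgroup (ProjGenLinGroup (Fin 2) F)} (hΓ : sln F ≤ Γ) (x : OnePoint F) :
    stabIn Γ x ≠ Γ := by
  intro e
  have h := card_stabIn hΓ x
  rw [e] at h
  have := Nat.card_pos (α := Γ)
  have := Fintype.one_lt_card (α := F)
  nlinarith

theorem map_injective_subfield (A : Subfield F) :
    Function.Injective (ProjGenLinGroup.map (n := Fin 2) A.subtype) := by
  rw [injective_iff_map_eq_one]
  intro g hg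
  refine eq_one_of_fix_all fun x => Option.map_injective A.subtype.injective ?_
  show OnePoint.map A.subtype (g • x) = OnePoint.map A.subtype x
  induction g using ProjGenLinGroup.induction_on with | mk g =>
  rw [mk_smul, OnePoint.map_smul, ← mk_smul, ← ProjGenLinGroup.map_mk, hg, one_smul]

theorem two_eq_zero_of_even (A : Subfield F) (h : 2 ∣ Nat.card A) : (2 : F) = 0 := by
  obtain ⟨x, hx⟩ := exists_prime_orderOf_dvd_card' (G := Multiplicative A) 2
    (by rw [Nat.card_congr Multiplicative.toAdd]; exact h)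
  have h1 : (Multiplicative.toAdd x : A) + Multiplicative.toAdd x = 0 := by
    have := congrArg Multiplicative.toAdd (orderOf_dvd_iff_pow_eq_one.mp (dvd_of_eq hx))
    rw [toAdd_pow, toAdd_one, two_nsmul] at this
    exact this
  have hne : (Multiplicative.toAdd x : A) ≠ 0 := fun e => by
    have : x = 1 := Multiplicative.toAdd.injective (by simpa using e)
    rw [this, orderOf_one] at hx; omega
  have h2 : (2 : F) * ((Multiplicative.toAdd x : A) : F) = 0 := by
    rw [two_mul]; exact congrArg Subtype.val h1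
  exact (mul_eq_zero.mp h2).resolve_right fun e => hne (Subtype.ext e)

theorem char_of_card_five (p : ℕ) [hp : Fact p.Prime] [CharP F p] (A : Subfield F)
    (hb : Nat.card A = 4 + 1) : p = 5 := by
  haveI := Fintype.ofFinite A
  haveI : CharP A p := (RingHom.charP_iff A.subtype A.subtype.injective p).mpr inferInstance
  obtain ⟨n, -, hn⟩ := FiniteField.card A p
  rw [← Nat.card_eq_fintype_card, hb] at hn
  exact (Nat.prime_dvd_prime_iff_eq hp.out Nat.prime_five).mp
    (by rw [show (5 : ℕ) = 4 + 1 from rfl, hn]; exact dvd_pow_self p n.ne_zero)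

end CfsgLib.Classical.Dickson
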