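import Cfsg.Agent.Lib.Classical.Dickson.Groups

/-!
# The models of `A₄`, `S₄`, `A₅`
-/

set_option autoImplicit false
set_option linter.unusedSectionVars false
set_option linter.style.haveILetI false

namespace CfsgLib.Classical.Dickson

open Matrix OnePoint MulAction
open scoped MatrixGroups

variable {F : Type*} [Field F] [Fintype F] [DecidableEq F]

theorem two_pow_cases (h2 : (2 : F) ≠ 0) : (1 : F) ≠ 0 ∧ (-1 : F) ≠ 0 ∧ (4 : F) ≠ 0 ∧ (-2 : F) ≠ 0 ∧ (-4 : F) ≠ 0 :=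
  ⟨one_ne_zero, by simp, by rw [show (4 : F) = 2 * 2 by norm_num]; exact mul_ne_zero h2 h2,
    by simpa using h2, by rw [show (4 : F) = 2 * 2 by norm_num]; simpa using mul_ne_zero h2 h2⟩

namespace Frame

variable (Φ : Frame F)

/-- integers into `F` -/
def evZ : EvMap ℤ F where
  ev n := (n : F)
  add := Int.cast_add
  sub := Int.cast_sub
  mul := Int.cast_mul
  zero := Int.cast_zero

/-- `ℤ[φ]` into `F` -/
def evP (φ : F) (hφ : φ * φ = φ + 1) : EvMap Zphi F where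
  ev x := (x.u : F) + (x.v : F) * φ
  add x y := by
    show ((x.u + y.u : ℤ) : F) + ((x.v + y.v : ℤ) : F) * φ = _
    push_cast; ring
  sub x y := by
    show ((x.u - y.u : ℤ) : F) + ((x.v - y.v : ℤ) : F) * φ = _
    push_cast; ring
  mul x y := by
    show ((x.u * y.u + x.v * y.v : ℤ) : F) + ((x.u * y.v + x.v * y.u + x.v * y.v : ℤ) : F) * φ = _
    push_cast; linear_combination (-((x.v : F) * y.v)) * hφ
  zero := by show ((0 : ℤ) : F) + ((0 : ℤ) : F) * φ = 0; simp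

/-- model of `A₄` -/
noncomputable def g12 : Subgroup (ProjGenLinGroup (Fin 2) F) := Φ.gen evZ gens12

/-- model of `S₄` -/
noncomputable def g24 : Subgroup (ProjGenLinGroup (Fin 2) F) := Φ.gen evZ gens24

/-- model of `A₅` -/
noncomputable def g60 (φ : F) (hφ : φ * φ = φ + 1) : Subgroup (ProjGenLinGroup (Fin 2) F) :=
  Φ.gen (evP φ hφ) gens60

theorem facts12 : Nat.card Φ.g12 ≤ 12 ∧ ∀ g ∈ Φ.g12, ∃ n ∈ [1, 2, 3], g ^ n = 1 := by
  obtain ⟨a, b, c, d, e⟩ := two_pow_cases Φ.two_ne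
  have h := Φ.table_facts (evZ (F := F)) check12
    (by simp [lsZ, evZ, a, b, c, d, e, Φ.two_ne]) (by simp [evZ, a, c])
    one_ne_zero (by simp [ev4, evZ])
  exact h

theorem facts24 : Nat.card Φ.g24 ≤ 24 ∧ ∀ g ∈ Φ.g24, ∃ n ∈ [1, 2, 3, 4], g ^ n = 1 := by
  obtain ⟨a, b, c, d, e⟩ := two_pow_cases Φ.two_ne
  have h := Φ.table_facts (evZ (F := F)) check24
    (by simp [lsZ, evZ, a, b, c, d, e, Φ.two_ne]) (by simp [evZ, a, c, Φ.two_ne])
    one_ne_zero (by simp [ev4, evZ])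
  exact h

theorem facts60 (φ : F) (hφ : φ * φ = φ + 1) :
    Nat.card (Φ.g60 φ hφ) ≤ 60 ∧ ∀ g ∈ Φ.g60 φ hφ, ∃ n ∈ [1, 2, 3, 5], g ^ n = 1 := by
  obtain ⟨a, b, c, d, e⟩ := two_pow_cases Φ.two_ne
  have h := Φ.table_facts (evP φ hφ) check60
    (by simp [lsP, lsZ, evP, a, b, c, d, e, Φ.two_ne]) (by simp [evP, c])
    (u := 2) Φ.two_ne (by
      have hz : (evP φ hφ).ev 0 = 0 := (evP φ hφ).zero
      simp only [ev4, hz]
      simp [evP])
  exact h

theorem vI_mem12 : Φ.vI ∈ Φ.g12 := by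
  have := Φ.mem_gen (evZ (F := F)) (gens := gens12) (X := (0, 1, 0, 0)) (by simp [gens12])
  simpa [el, ev4, evZ, vI, g12] using this

theorem vJ_mem12 : Φ.vJ ∈ Φ.g12 := by
  have := Φ.mem_gen (evZ (F := F)) (gens := gens12) (X := (0, 0, 1, 0)) (by simp [gens12])
  simpa [el, ev4, evZ, vJ, g12] using this

theorem klein_le12 : Φ.klein ≤ Φ.g12 := by
  intro g hg
  rcases hg with rfl | rfl | rfl | rfl
  exacts [one_mem _, Φ.vI_mem12, Φ.vJ_mem12, mul_mem Φ.vI_mem12 Φ.vJ_mem12]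

theorem g12_le24 : Φ.g12 ≤ Φ.g24 :=
  Subgroup.closure_mono fun g ⟨X, hX, hg⟩ => ⟨X, by
    simp [gens12, gens24] at hX ⊢
    tauto, hg⟩

theorem klein_le60 (φ : F) (hφ : φ * φ = φ + 1) : Φ.klein ≤ Φ.g60 φ hφ := by
  have hz : (evP φ hφ).ev 0 = 0 := (evP φ hφ).zero
  have h2 : (evP φ hφ).ev ⟨2, 0⟩ = 2 := by simp [evP]
  have hI : Φ.vI ∈ Φ.g60 φ hφ := by
    have := Φ.mem_gen (evP φ hφ) (gens := gens60) (X := (0, ⟨2, 0⟩, 0, 0)) (by simp [gens60])
    rw [el] at this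
    simp only [ev4, hz, h2] at this
    have e := Φ.qpg_smul Φ.two_ne (X := (0, 1, 0, 0)) (by simp [fnorm])
    rw [fsmul, mul_zero, mul_one] at e
    rwa [e] at this
  have hJ : Φ.vJ ∈ Φ.g60 φ hφ := by
    have := Φ.mem_gen (evP φ hφ) (gens := gens60) (X := (0, 0, ⟨2, 0⟩, 0)) (by simp [gens60])
    rw [el] at this
    simp only [ev4, hz, h2] at this
    have e := Φ.qpg_smul Φ.two_ne (X := (0, 0, 1, 0)) (by simp [fnorm])
    rw [fsmul, mul_zero, mul_one] at e
    rwa [e] at this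
  intro g hg
  rcases hg with rfl | rfl | rfl | rfl
  exacts [one_mem _, hI, hJ, mul_mem hI hJ]

theorem orderOf_three : ∃ g ∈ Φ.g12, orderOf g = 3 := by
  have h4 := (two_pow_cases Φ.two_ne).2.2.1
  have hn : fnorm (((1 : F), (-1 : F), (-1 : F), (-1 : F))) ≠ 0 := by
    simp [fnorm]; norm_num; exact h4
  have hm : Φ.qpg ((1 : F), (-1 : F), (-1 : F), (-1 : F)) ∈ Φ.g12 := by
    have := Φ.mem_gen (evZ (F := F)) (gens := gens12) (X := (1, -1, -1, -1)) (by simp [gens12])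
    simpa [el, ev4, evZ, g12] using this
  refine ⟨_, hm, orderOf_eq_prime (hp := ⟨Nat.prime_three⟩) ?_ (Φ.qpg_ne_one hn (Or.inl (by simp)))⟩
  rw [pow_succ, pow_two, Φ.qpg_mul hn hn, Φ.qpg_mul (by rw [fnorm_mul]; exact mul_ne_zero hn hn) hn]
  simp [fmul]
  norm_num
  refine Φ.qpg_scalar ?_
  rw [show (8 : F) = 2 * 2 * 2 by norm_num]
  simp [Φ.two_ne]

theorem card_g12 : Nat.card Φ.g12 = 12 := by
  obtain ⟨g, hg, hord⟩ := Φ.orderOf_three
  have h4 := Subgroup.card_dvd_of_le Φ.klein_le12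
  rw [Φ.card_klein] at h4
  have h3 := orderOf_dvd_natCard (⟨g, hg⟩ : Φ.g12)
  rw [← Subgroup.orderOf_coe] at h3
  change orderOf g ∣ _ at h3
  rw [hord] at h3
  have := Nat.Coprime.mul_dvd_of_dvd_of_dvd (by norm_num : Nat.Coprime 4 3) h4 h3
  have := Nat.le_of_dvd Nat.card_pos this
  have := Φ.facts12.1
  omega

theorem card_g24 : Nat.card Φ.g24 = 24 := by
  have hn : fnorm (((1 : F), (1 : F), (0 : F), (0 : F))) ≠ 0 := by
    simp [fnorm]; norm_num; exact Φ.two_ne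
  have hs : Φ.qpg ((1 : F), (1 : F), (0 : F), (0 : F)) ∈ Φ.g24 := by
    have := Φ.mem_gen (evZ (F := F)) (gens := gens24) (X := (1, 1, 0, 0)) (by simp [gens24])
    simpa [el, ev4, evZ, g24] using this
  have hnot : Φ.qpg ((1 : F), (1 : F), (0 : F), (0 : F)) ∉ Φ.g12 := by
    intro h
    obtain ⟨n, hn', he⟩ := Φ.facts12.2 _ h
    have hsq : fnorm (fmul ((1 : F), (1 : F), (0 : F), (0 : F)) (1, 1, 0, 0)) ≠ 0 := by
      rw [fnorm_mul]; exact mul_ne_zero hn hn
    have h2 : Φ.qpg ((1 : F), (1 : F), (0 : F), (0 : F)) ^ 2 ≠ 1 := by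
      rw [pow_two, Φ.qpg_mul hn hn]
      simp [fmul] at hsq ⊢
      exact Φ.qpg_ne_one hsq (Or.inl (by norm_num; exact Φ.two_ne))
    have h1 := Φ.qpg_ne_one hn (Or.inl one_ne_zero)
    have h3 : Φ.qpg ((1 : F), (1 : F), (0 : F), (0 : F)) ^ 3 ≠ 1 := by
      rw [pow_succ, pow_two, Φ.qpg_mul hn hn, Φ.qpg_mul hsq hn]
      have hc : fnorm (fmul (fmul ((1 : F), (1 : F), (0 : F), (0 : F)) (1, 1, 0, 0)) (1, 1, 0, 0)) ≠ 0 := by
        rw [fnorm_mul]; exact mul_ne_zero hsq hn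
      simp [fmul] at hc ⊢
      exact Φ.qpg_ne_one hc (Or.inl (by norm_num; exact Φ.two_ne))
    simp at hn'
    rcases hn' with rfl | rfl | rfl
    · exact h1 (by simpa using he)
    · exact h2 he
    · exact h3 he
  have hne : Φ.g12 ≠ Φ.g24 := fun e => hnot (e ▸ hs)
  have hd := Subgroup.card_dvd_of_le Φ.g12_le24
  have hlt : Nat.card Φ.g12 ≠ Nat.card Φ.g24 := fun e =>
    hne (Subgroup.eq_of_le_of_card_ge Φ.g12_le24 e.symm.le)
  rw [Φ.card_g12] at hd hlt
  obtain ⟨m, hm⟩ := hd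
  have := Φ.facts24.1
  have := Nat.card_pos (α := Φ.g24)
  rcases m with _ | _ | m <;> omega

theorem g24_iso : Nonempty (Φ.g24 ≃* Equiv.Perm (Fin 4)) := by
  refine Cfsg.Agent.S1012.result Φ.card_g24 fun g hg => ?_
  obtain ⟨n, hn, he⟩ := Φ.facts24.2 g g.2
  have hd := orderOf_dvd_of_pow_eq_one he
  rw [Subgroup.orderOf_coe, hg] at hd
  simp at hn
  rcases hn with rfl | rfl | rfl | rfl <;> norm_num at hd

theorem g12_iso : Nonempty (Φ.g12 ≃* alternatingGroup (Fin 4)) := by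
  obtain ⟨f⟩ := Φ.g24_iso
  let A := (Φ.g12.subgroupOf Φ.g24).map f.toMonoidHom
  have hidx : A.index = 2 := by
    show (Subgroup.map f.toMonoidHom _).index = 2
    rw [Subgroup.index_map_of_bijective f.bijective]
    have := (Φ.g12.subgroupOf Φ.g24).card_mul_index
    rw [Nat.card_congr (Subgroup.subgroupOfEquivOfLe Φ.g12_le24).toEquiv, Φ.card_g12, Φ.card_g24] at this
    omega
  exact ⟨((Subgroup.subgroupOfEquivOfLe Φ.g12_le24).symm.trans
    (Subgroup.equivMapOfInjective _ _ f.injective)).trans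
      (MulEquiv.subgroupCongr (Equiv.Perm.eq_alternatingGroup_of_index_eq_two hidx))⟩

theorem g12_le_sln : Φ.g12 ≤ sln F := by
  refine (Subgroup.closure_le _).mpr ?_
  rintro g ⟨X, hX, rfl⟩
  have h4 := (two_pow_cases Φ.two_ne).2.2.1
  simp [gens12] at hX
  rcases hX with rfl | rfl | rfl
  · rw [SetLike.mem_coe, el, Φ.qpg_mem_sln_iff] <;> simp [ev4, evZ, fnorm]
  · rw [SetLike.mem_coe, el, Φ.qpg_mem_sln_iff] <;> simp [ev4, evZ, fnorm]
  · rw [SetLike.mem_coe, el, Φ.qpg_mem_sln_iff] <;> simp [ev4, evZ, fnorm] <;> norm_num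
    · exact ⟨2, by norm_num⟩
    · exact h4

theorem g24_le_sln_iff : Φ.g24 ≤ sln F ↔ IsSquare (2 : F) := by
  have h4 := (two_pow_cases Φ.two_ne).2.2.1
  constructor
  · intro h
    have := h (Φ.mem_gen (evZ (F := F)) (gens := gens24) (X := (1, 1, 0, 0)) (by simp [gens24]))
    rw [el, Φ.qpg_mem_sln_iff] at this <;> simp [ev4, evZ, fnorm] at this ⊢ <;> norm_num at this ⊢
    · exact this
    · exact Φ.two_ne
  · intro h2
    refine (Subgroup.closure_le _).mpr ?_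
    rintro g ⟨X, hX, rfl⟩
    simp [gens24] at hX
    rcases hX with rfl | rfl | rfl | rfl
    · exact Φ.g12_le_sln (Φ.mem_gen _ (by simp [gens12]))
    · exact Φ.g12_le_sln (Φ.mem_gen _ (by simp [gens12]))
    · exact Φ.g12_le_sln (Φ.mem_gen _ (by simp [gens12]))
    · rw [SetLike.mem_coe, el, Φ.qpg_mem_sln_iff] <;> simp [ev4, evZ, fnorm] <;> norm_num
      · exact h2
      · exact Φ.two_ne

theorem g60_le_sln (φ : F) (hφ : φ * φ = φ + 1) : Φ.g60 φ hφ ≤ sln F := by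
  refine (Subgroup.closure_le _).mpr ?_
  rintro g ⟨X, hX, rfl⟩
  have h4 := (two_pow_cases Φ.two_ne).2.2.1
  have key : fnorm (ev4 (evP φ hφ) X) = 4 := by
    have hz : (evP φ hφ).ev 0 = 0 := (evP φ hφ).zero
    simp [gens60] at hX
    rcases hX with rfl | rfl | rfl | rfl <;> simp only [ev4, hz] <;> simp [fnorm, evP] <;>
      first | (norm_num; done) | linear_combination 2 * hφ
  rw [SetLike.mem_coe, el, Φ.qpg_mem_sln_iff] <;> rw [key]
  · exact ⟨2, by norm_num⟩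
  · exact h4

variable (p : ℕ) [hp : Fact p.Prime] [CharP F p]

include hp in
theorem g60_iso (φ : F) (hφ : φ * φ = φ + 1) (hp5 : p ≠ 5) :
    Nat.card (Φ.g60 φ hφ) = 60 ∧ Nonempty (Φ.g60 φ hφ ≃* alternatingGroup (Fin 5)) := by
  have h4 := (two_pow_cases Φ.two_ne).2.2.1
  set G := Φ.g60 φ hφ
  have hz : (evP φ hφ).ev 0 = 0 := (evP φ hφ).zero
  -- an element of order three and one of order five
  have hw : ∃ g ∈ G, orderOf g = 3 := by
    have hm := Φ.mem_gen (evP φ hφ) (gens := gens60) (X := (⟨1, 0⟩, ⟨-1, 0⟩, ⟨-1, 0⟩, ⟨-1, 0⟩)) (by simp [gens60])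
    rw [el] at hm
    simp [ev4, evP] at hm
    obtain ⟨g, hg, hgo⟩ := Φ.orderOf_three
    refine ⟨_, hm, orderOf_eq_prime (hp := ⟨Nat.prime_three⟩) ?_ (Φ.qpg_ne_one (by simp [fnorm]; norm_num; exact h4) (Or.inl (by simp)))⟩
    have hn : fnorm (((1 : F), (-1 : F), (-1 : F), (-1 : F))) ≠ 0 := by simp [fnorm]; norm_num; exact h4
    rw [pow_succ, pow_two, Φ.qpg_mul hn hn, Φ.qpg_mul (by rw [fnorm_mul]; exact mul_ne_zero hn hn) hn]
    simp [fmul]
    norm_num
    refine Φ.qpg_scalar ?_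
    rw [show (8 : F) = 2 * 2 * 2 by norm_num]
    simp [Φ.two_ne]
  have hu : ∃ g ∈ G, orderOf g = 5 := by
    have hm := Φ.mem_gen (evP φ hφ) (gens := gens60) (X := (⟨0, 1⟩, ⟨-1, 1⟩, ⟨1, 0⟩, 0)) (by simp [gens60])
    rw [el] at hm
    simp only [ev4, hz] at hm
    simp [evP] at hm
    have hn : fnorm (φ, -1 + φ, (1 : F), (0 : F)) ≠ 0 := by
      simp [fnorm]
      rw [show φ * φ + (-1 + φ) * (-1 + φ) + 1 = 4 by linear_combination 2 * hφ]
      exact h4
    refine ⟨_, hm, ?_⟩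
    obtain ⟨n, hn', he⟩ := (Φ.facts60 φ hφ).2 _ hm
    have h1 := Φ.qpg_ne_one hn (Or.inr (Or.inl one_ne_zero))
    have hsq : fnorm (fmul (φ, -1 + φ, (1 : F), (0 : F)) (φ, -1 + φ, 1, 0)) ≠ 0 := by
      rw [fnorm_mul]; exact mul_ne_zero hn hn
    have hφ0 : φ ≠ 0 := fun e => by rw [e] at hφ; simp at hφ
    simp at hn'
    rcases hn' with rfl | rfl | rfl | rfl
    · exact absurd (by simpa using he) h1
    · exfalso
      rw [pow_two, Φ.qpg_mul hn hn] at he
      simp [fmul] at he hsq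
      exact Φ.qpg_ne_one hsq (Or.inr (Or.inl (by
        rw [show φ + φ = 2 * φ by ring]; exact mul_ne_zero Φ.two_ne hφ0))) he
    · exfalso
      rw [pow_succ, pow_two, Φ.qpg_mul hn hn, Φ.qpg_mul hsq hn] at he
      have hc : fnorm (fmul (fmul (φ, -1 + φ, (1 : F), (0 : F)) (φ, -1 + φ, 1, 0)) (φ, -1 + φ, 1, 0)) ≠ 0 := by
        rw [fnorm_mul]; exact mul_ne_zero hsq hn
      simp [fmul] at he hc
      refine Φ.qpg_ne_one hc (Or.inr (Or.inl ?_)) he
      intro e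
      have : (4 : F) * φ = 0 := by linear_combination e - 2 * hφ
      exact mul_ne_zero h4 hφ0 this
    · exact orderOf_eq_prime (hp := ⟨Nat.prime_five⟩) he h1
  obtain ⟨w, hwG, hw3⟩ := hw
  obtain ⟨u, huG, hu5⟩ := hu
  have d4 : 4 ∣ Nat.card G := Φ.card_klein ▸ Subgroup.card_dvd_of_le (Φ.klein_le60 φ hφ)
  have d3 : 3 ∣ Nat.card G := hw3 ▸ (Subgroup.orderOf_coe (⟨w, hwG⟩ : G)).symm ▸ orderOf_dvd_natCard _
  have d5 : 5 ∣ Nat.card G := hu5 ▸ (Subgroup.orderOf_coe (⟨u, huG⟩ : G)).symm ▸ orderOf_dvd_natCard _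
  have hcard : Nat.card G = 60 := by
    have h60 : 60 ∣ Nat.card G := Nat.Coprime.mul_dvd_of_dvd_of_dvd (by norm_num : Nat.Coprime 12 5)
      (Nat.Coprime.mul_dvd_of_dvd_of_dvd (by norm_num : Nat.Coprime 4 3) d4 d3) d5
    have := Nat.le_of_dvd Nat.card_pos h60
    have : Nat.card G ≤ 60 := (Φ.facts60 φ hφ).1
    omega
  refine ⟨hcard, ?_⟩
  have hord : ∀ g ∈ G, orderOf g ≤ 5 := fun g hg => by
    obtain ⟨n, hn, he⟩ := (Φ.facts60 φ hφ).2 g hg
    simp at hn
    have := Nat.le_of_dvd (by omega) (orderOf_dvd_of_pow_eq_one he)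
    omega
  have hK := Φ.klein_le60 φ hφ
  cases kind p G with
  | fixed x h =>
    exact (no_fixed_of_klein p Φ.two_ne Φ.orderOf_vI Φ.orderOf_vJ Φ.vI_ne_vJ Φ.vI_comm_vJ
      (h _ (hK (Or.inr (Or.inl rfl)))) (h _ (hK (Or.inr (Or.inr (Or.inl rfl)))))).elim
  | cyclic c hc _ =>
    exfalso
    have := hord c (hc ▸ Subgroup.mem_zpowers c)
    rw [hc, Nat.card_zpowers] at hcard
    omega
  | dihedral c hc _ h2 h =>
    exfalso
    have hcc := Nat.card_congr h.some.toEquiv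
    rw [hcard, DihedralGroup.nat_card] at hcc
    have := hord c hc
    omega
  | a4 h =>
    exfalso
    have hcc := Nat.card_congr h.some.toEquiv
    rw [hcard, nat_card_alternatingGroup, Nat.card_fin] at hcc
    norm_num [Nat.factorial] at hcc
  | s4 h =>
    exfalso
    have hcc := Nat.card_congr h.some.toEquiv
    rw [hcard, Nat.card_perm, Nat.card_fin] at hcc
    norm_num [Nat.factorial] at hcc
  | a5 h => exact h
  | pgl A h hG =>
    exfalso
    have hinj : Function.Injective (ProjGenLinGroup.map (n := Fin 2) A.subtype) := map_injective_subfield A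
    have hcc : Nat.card (G.map (MulAut.conj h).toMonoidHom) =
        Nat.card (ProjGenLinGroup.map (n := Fin 2) A.subtype).range := congrArg (fun H : Subgroup _ => Nat.card H) hG
    rw [Subgroup.card_map_of_injective (MulEquiv.injective _), hcard,
      ← Nat.card_congr (MonoidHom.ofInjective hinj).toEquiv, card_pgl2] at hcc
    obtain ⟨b, hb⟩ : ∃ b, Nat.card A = b + 1 := ⟨Nat.card A - 1, by have := Nat.card_pos (α := A); omega⟩
    rw [hb, Nat.add_sub_cancel] at hcc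
    have hb4 : b ≤ 3 := by
      by_contra hh
      have : 6 * 5 * 4 ≤ (b + 1 + 1) * (b + 1) * b :=
        Nat.mul_le_mul (Nat.mul_le_mul (by omega) (by omega)) (by omega)
      omega
    interval_cases b <;> norm_num at hcc
    have h4' : Nat.card A = 4 := by rw [hb]
    exact Φ.two_ne (two_eq_zero_of_even A (by rw [h4']; norm_num))
  | psl A hA h hG =>
    exfalso
    have hinj : Function.Injective (ProjGenLinGroup.map (n := Fin 2) A.subtype) := map_injective_subfield A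
    have hcc : Nat.card (G.map (MulAut.conj h).toMonoidHom) = _ := congrArg (fun H : Subgroup _ => Nat.card H) hG
    rw [Subgroup.card_map_of_injective (MulEquiv.injective _), hcard, MonoidHom.range_comp,
      Subgroup.card_map_of_injective hinj] at hcc
    have hs := card_range_toPGL A
    rw [← hcc] at hs
    have hgcd : Nat.gcd 2 (Nat.card A - 1) = 2 := Nat.gcd_eq_left (by omega)
    rw [hgcd] at hs
    obtain ⟨b, hb⟩ : ∃ b, Nat.card A = b + 1 := ⟨Nat.card A - 1, by have := Nat.card_pos (α := A); omega⟩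
    rw [hb, Nat.add_sub_cancel] at hs
    have hb4 : b ≤ 4 := by
      by_contra hh
      have : 7 * 6 * 5 ≤ (b + 1 + 1) * (b + 1) * b :=
        Nat.mul_le_mul (Nat.mul_le_mul (by omega) (by omega)) (by omega)
      omega
    interval_cases b <;> norm_num at hs
    exact hp5 (char_of_card_five p A hb)

end Frame

end CfsgLib.Classical.Dickson
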