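import Cfsg.Agent.Lib.Classical.Dickson.Data
import Cfsg.Agent.Lib.Classical.SL2Tori
import Cfsg.Agent.Lib.Perm.SL2Unipotent

/-!
# The subfield case of Dickson's classification
-/

set_option autoImplicit false
set_option linter.unusedSectionVars false
set_option linter.style.haveILetI false

namespace CfsgLib.Classical.Dickson

open Matrix OnePoint MulAction
open scoped MatrixGroups

variable {F : Type*} [Field F] [Fintype F] [DecidableEq F] (p : ℕ) [hp : Fact p.Prime] [CharP F p]

local notation "PG" => ProjGenLinGroup (Fin 2) F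

theorem card_pgl2 (K : Type*) [Field K] [Finite K] :
    Nat.card (ProjGenLinGroup (Fin 2) K) = (Nat.card K + 1) * Nat.card K * (Nat.card K - 1) := by
  haveI := Fintype.ofFinite K
  have h1 := card_pgl_mul (F := K) (n := Fin 2)
  rw [← card_units_mul_card_sl (F := K) (n := Fin 2), card_sl2', mul_comm (Nat.card Kˣ)] at h1
  rw [Nat.eq_of_mul_eq_mul_right Nat.card_pos h1, Nat.card_eq_fintype_card]
  ring

theorem card_range_toPGL (K : Type*) [Field K] [Finite K] :
    Nat.gcd 2 (Nat.card K - 1) * Nat.card (SpecialLinearGroup.toPGL (n := Fin 2) (R := K)).range =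
      (Nat.card K + 1) * Nat.card K * (Nat.card K - 1) := by
  haveI := Fintype.ofFinite K
  rw [← Subgroup.index_ker, SpecialLinearGroup.toPGL_ker, Nat.card_eq_fintype_card (α := K),
    ← card_center_sl (F := K) 2 (by norm_num), Subgroup.card_mul_index, card_sl2']
  ring

/-- Translations contained in `G`. -/
def transl (G : Subgroup PG) : AddSubgroup F where
  carrier := {b | aff 1 b ∈ G}
  zero_mem' := by simp [aff_one]
  add_mem' := fun {a b} (ha : aff 1 a ∈ G) (hb : aff 1 b ∈ G) => by
    have := mul_mem hb ha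
    rw [aff_mul, one_mul, Units.val_one, one_mul] at this
    exact this
  neg_mem' := fun {a} ha => by
    have h : aff 1 (-a) = (aff (1 : Fˣ) a)⁻¹ := eq_inv_of_mul_eq_one_left (by
      rw [aff_mul, one_mul, Units.val_one, one_mul, add_neg_cancel, aff_one])
    show aff 1 (-a) ∈ G
    rw [h]; exact inv_mem ha

theorem mem_transl {G : Subgroup PG} {b : F} : b ∈ transl G ↔ aff 1 b ∈ G := Iff.rfl

/-- A conjugate of `PGL₂` or `PSL₂` of a subfield: the normalised case. -/
theorem subfield_std (G : Subgroup PG) {P t : ℕ} (hP : Nat.card (unipAt p G (∞ : OnePoint F)) = P)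
    (hP2 : 2 ≤ P) (he : Nat.card (stabilizer G (∞ : OnePoint F)) = P * t)
    (ho : Nat.card (orbit G (∞ : OnePoint F)) = P + 1) (ht : t = P - 1 ∨ 2 * t = P - 1)
    (h0 : ((0 : F) : OnePoint F) ∈ orbit G (∞ : OnePoint F)) (h1 : (1 : F) ∈ transl G) :
    ∃ A : Subfield F, Nat.card A = P ∧
      ((t = P - 1 ∧ G = (ProjGenLinGroup.map (n := Fin 2) A.subtype).range) ∨
       (2 * t = P - 1 ∧
          G = ((ProjGenLinGroup.map (n := Fin 2) A.subtype).comp
            (SpecialLinearGroup.toPGL (n := Fin 2) (R := A))).range)) := by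
  classical
  set T := transl G with hT
  have hcardT : Nat.card T = P := by
    rw [← hP]
    refine Nat.card_congr (Equiv.ofBijective (fun b : T => (⟨⟨aff 1 b.1, b.2⟩, aff_smul_infty _ _,
      (aff_pow_char_eq_one_iff p 1 b.1).mpr rfl⟩ : unipAt p G (∞ : OnePoint F))) ⟨?_, ?_⟩)
    · intro a b h
      exact Subtype.ext (aff_injective (congrArg (fun u : unipAt p G (∞ : OnePoint F) => ((u.1 : G) : PG)) h)).2
    · rintro ⟨⟨g, hg⟩, hgi, hgp⟩
      obtain ⟨a, b, hab⟩ := exists_aff hgi
      obtain rfl : a = 1 := (aff_pow_char_eq_one_iff p a b).mp (by rw [← hab]; exact hgp)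
      exact ⟨⟨b, show aff 1 b ∈ G from (show g = aff 1 b from hab) ▸ hg⟩, Subtype.ext (Subtype.ext hab.symm)⟩
  -- the orbit of `∞`
  let ψ : Option T → orbit G (∞ : OnePoint F) := fun b => b.elim ⟨∞, mem_orbit_self _⟩
    (fun b => ⟨((b.1 : F) : OnePoint F), by
      obtain ⟨g, hg⟩ := h0
      refine ⟨⟨aff 1 b.1, b.2⟩ * g, ?_⟩
      show (⟨aff 1 b.1, b.2⟩ * g : G) • (∞ : OnePoint F) = _
      rw [mul_smul, show g • (∞ : OnePoint F) = ((0 : F) : OnePoint F) from hg]
      show aff 1 b.1 • ((0 : F) : OnePoint F) = _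
      rw [aff_smul_coe, mul_zero, zero_add]⟩)
  have hψ : Function.Bijective ψ := by
    haveI := Fintype.ofFinite T
    haveI := Fintype.ofFinite (orbit G (∞ : OnePoint F))
    rw [Fintype.bijective_iff_injective_and_card]
    refine ⟨?_, ?_⟩
    · rintro (_ | a) (_ | b) h
      · rfl
      · exact absurd (congrArg Subtype.val h) (infty_ne_coe _)
      · exact absurd (congrArg Subtype.val h) (coe_ne_infty _)
      · exact congrArg Option.some (Subtype.ext (coe_eq_coe.mp (congrArg Subtype.val h)))
    · rw [← Nat.card_eq_fintype_card, ← Nat.card_eq_fintype_card, Finite.card_option, hcardT, ho]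
  have horb : ∀ z ∈ orbit G (∞ : OnePoint F), z = ∞ ∨ ∃ b ∈ T, z = ((b : F) : OnePoint F) := by
    intro z hz
    obtain ⟨(_ | b), hb⟩ := hψ.2 ⟨z, hz⟩
    · exact Or.inl (congrArg Subtype.val hb).symm
    · exact Or.inr ⟨b.1, b.2, (congrArg Subtype.val hb).symm⟩
  have horb' : ∀ b ∈ T, ((b : F) : OnePoint F) ∈ orbit G (∞ : OnePoint F) := fun b hb =>
    (ψ (Option.some ⟨b, hb⟩)).2
  -- the multipliers of `T`
  let R : Subring F :=
    { carrier := {r | ∀ a ∈ T, r * a ∈ T}
      one_mem' := fun a ha => by rwa [one_mul]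
      mul_mem' := fun {r s} hr hs a ha => by rw [mul_assoc]; exact hr _ (hs a ha)
      zero_mem' := fun a _ => by rw [zero_mul]; exact zero_mem T
      add_mem' := fun {r s} hr hs a ha => by rw [add_mul]; exact add_mem (hr a ha) (hs a ha)
      neg_mem' := fun {r} hr a ha => by rw [neg_mul]; exact neg_mem (hr a ha) }
  let RF : Subfield F :=
    { R with
      inv_mem' := fun r hr => by
        by_cases h : r = 0
        · simpa [h] using zero_mem R
        · have : r⁻¹ = r ^ (Fintype.card F - 2) := by
            apply inv_eq_of_mul_eq_one_right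
            rw [← pow_succ', show Fintype.card F - 2 + 1 = Fintype.card F - 1 by
              have := Fintype.one_lt_card (α := F); omega]
            exact FiniteField.pow_card_sub_one_eq_one r h
          show r⁻¹ ∈ R
          rw [this]
          exact pow_mem hr _ }
  have hRT : ∀ r : F, r ∈ RF → r ∈ T := fun r hr => by
    have := hr 1 h1
    rwa [mul_one] at this
  -- the multiplier group
  let μ : stabilizer G (∞ : OnePoint F) →* Fˣ := (multi (E := F)).comp
    { toFun := fun g => ⟨((g : G) : PG), g.2⟩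
      map_one' := rfl
      map_mul' := fun _ _ => rfl }
  have hμ : ∀ g, μ g = 1 ↔ (g : G) ∈ unipAt p G (∞ : OnePoint F) := fun g => by
    rw [MonoidHom.comp_apply, multi_eq_one_iff p]
    exact ⟨fun h => ⟨g.2, h⟩, fun h => h.2⟩
  have hμc : Nat.card μ.range = t := by
    have h := μ.ker.card_mul_index
    rw [Subgroup.index_ker, he] at h
    have hk : Nat.card μ.ker = P := by
      rw [← hP, show μ.ker = (unipAt p G (∞ : OnePoint F)).subgroupOf (stabilizer G (∞ : OnePoint F)) by
        ext g; rw [MonoidHom.mem_ker, hμ, Subgroup.mem_subgroupOf]]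
      exact Nat.card_congr (Subgroup.subgroupOfEquivOfLe (fun g (hg : g ∈ unipAt p G (∞ : OnePoint F)) => hg.1)).toEquiv
    rw [hk] at h
    exact Nat.eq_of_mul_eq_mul_left (by omega) h
  have hμR : ∀ a ∈ μ.range, (a : F) ∈ RF := by
    rintro a ⟨g, rfl⟩ d hd
    obtain ⟨b, hb⟩ := multi_spec (⟨((g : G) : PG), g.2⟩ : stabilizer PG (∞ : OnePoint F))
    have hgG : aff (μ g) b ∈ G := hb ▸ (g : G).2
    show aff 1 ((μ g : F) * d) ∈ G
    have h2 : aff (μ g) b * aff 1 d * (aff (μ g) b)⁻¹ = aff 1 ((μ g : F) * d) := by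
      rw [mul_inv_eq_iff_eq_mul, aff_mul, aff_mul]
      simp [add_comm]
    rw [← h2]
    exact mul_mem (mul_mem hgG hd) (inv_mem hgG)
  have hRcard : t + 1 ≤ Nat.card RF := by
    let f : Option μ.range → RF := fun a => a.elim 0 (fun a => ⟨(a.1 : F), hμR a.1 a.2⟩)
    have hf : Function.Injective f := by
      rintro (_ | a) (_ | b) h
      · rfl
      · exact absurd (congrArg Subtype.val h).symm b.1.ne_zero
      · exact absurd (congrArg Subtype.val h) a.1.ne_zero
      · exact congrArg Option.some (Subtype.ext (Units.ext (congrArg Subtype.val h)))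
    have := Nat.card_le_card_of_injective f hf
    rwa [Finite.card_option, hμc] at this
  let M : Submodule RF F :=
    { T with smul_mem' := fun r a ha => r.2 a ha }
  have hPM : ∃ k, P = Nat.card RF ^ k := by
    exact ⟨Module.finrank RF M, by
      rw [← Module.natCard_eq_pow_finrank]; exact hcardT.symm⟩
  have hR1 : 2 ≤ Nat.card RF := Finite.one_lt_card
  have hRP : Nat.card RF = P := by
    obtain ⟨k, hk⟩ := hPM
    match k with
    | 0 => rw [pow_zero] at hk; omega
    | 1 => rw [hk, pow_one]
    | k + 2 =>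
      exfalso
      have : Nat.card RF ^ 2 ≤ P := hk ▸ Nat.pow_le_pow_right (by omega) (by omega)
      rw [pow_two] at this
      have h2 : Nat.card RF * 2 ≤ Nat.card RF * Nat.card RF := Nat.mul_le_mul_left _ hR1
      rcases ht with h | h
      · omega
      · by_cases h3 : Nat.card RF = 2
        · rw [h3] at hRcard this; omega
        · have : Nat.card RF * 3 ≤ Nat.card RF * Nat.card RF := Nat.mul_le_mul_left _ (by omega)
          omega
  have hTR : ∀ a ∈ T, a ∈ RF := by
    intro a ha
    have heq : (RF : Set F) = T := by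
      refine Set.eq_of_subset_of_ncard_le (fun r hr => hRT r hr) ?_ (Set.toFinite _)
      rw [← Nat.card_coe_set_eq, ← Nat.card_coe_set_eq]
      exact (hcardT.trans hRP.symm).le
    exact (Set.ext_iff.mp heq a).mpr ha
  refine ⟨RF, hRP, ?_⟩
  set j := ProjGenLinGroup.map (n := Fin 2) RF.subtype
  have hjs : ∀ (g : ProjGenLinGroup (Fin 2) RF) (x : OnePoint RF),
      j g • x.map RF.subtype = (g • x).map RF.subtype := by
    intro g x
    induction g using ProjGenLinGroup.induction_on with | mk g =>
    rw [ProjGenLinGroup.map_mk, mk_smul, mk_smul, OnePoint.map_smul]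
  have hjinj : Function.Injective j := by
    rw [injective_iff_map_eq_one]
    intro g hg
    refine eq_one_of_fix_all fun x => Option.map_injective RF.subtype.injective ?_
    show (g • x).map RF.subtype = x.map RF.subtype
    rw [← hjs, hg, one_smul]
  -- every element of `G` is rational over `RF`
  have hle : G ≤ j.range := by
    intro g hg
    have hpt : ∀ z ∈ orbit G (∞ : OnePoint F), ∃ w : OnePoint RF,
        g • z = w.map RF.subtype := by
      intro z hz
      rcases horb _ (mem_orbit_of_mem_orbit (⟨g, hg⟩ : G) hz) with h | ⟨b, hb, h⟩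
      · exact ⟨∞, h⟩
      · exact ⟨((⟨b, hTR b hb⟩ : RF) : OnePoint RF), h⟩
    obtain ⟨w1, hw1⟩ := hpt _ (mem_orbit_self _)
    obtain ⟨w2, hw2⟩ := hpt _ h0
    obtain ⟨w3, hw3⟩ := hpt _ (horb' 1 h1)
    obtain ⟨h, e1, e2, e3⟩ := exists_move (x := w1) (y := w2) (z := w3)
      (fun e => infty_ne_coe _ (MulAction.injective g (hw1.trans ((congrArg _ e).trans hw2.symm))))
      (fun e => infty_ne_coe _ (MulAction.injective g (hw1.trans ((congrArg _ e).trans hw3.symm))))
      (fun e => zero_ne_one (coe_eq_coe.mp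
        (MulAction.injective g (hw2.trans ((congrArg _ e).trans hw3.symm)))))
    refine ⟨h, eq_of_smul_three (x := (∞ : OnePoint F)) (y := ((0 : F) : OnePoint F))
      (z := ((1 : F) : OnePoint F)) (by simp) (by simp) (by simp) ?_ ?_ ?_⟩
    · rw [hw1, ← e1, ← hjs]; rfl
    · rw [hw2, ← e2, ← hjs]; simp
    · rw [hw3, ← e3, ← hjs]; simp
  have hcardG : Nat.card G = (P + 1) * (P * t) := by
    rw [← ho, ← he, Nat.card_congr (orbitEquivQuotientStabilizer G (∞ : OnePoint F)),
      ← Subgroup.card_eq_card_quotient_mul_card_subgroup]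
  have hcardj : Nat.card j.range = (P + 1) * P * (P - 1) := by
    rw [← Nat.card_congr (MonoidHom.ofInjective hjinj).toEquiv, card_pgl2, hRP]
  rcases ht with ht | ht
  · exact Or.inl ⟨ht, Subgroup.eq_of_le_of_card_ge hle (by rw [hcardG, hcardj, ht, mul_assoc])⟩
  · refine Or.inr ⟨ht, ?_⟩
    -- `G` contains the translations and their conjugates
    have hup : ∀ c : RF, j (SpecialLinearGroup.toPGL (CfsgLib.Perm.SL2Unipotent.up c)) ∈ G := by
      intro c
      have : j (SpecialLinearGroup.toPGL (CfsgLib.Perm.SL2Unipotent.up c)) = aff 1 (c : F) := by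
        rw [SpecialLinearGroup.toPGL, MonoidHom.comp_apply, ProjGenLinGroup.map_mk, aff]
        congr 1
        apply Units.ext
        ext a b
        fin_cases a <;> fin_cases b <;> simp [affGL, CfsgLib.Perm.SL2Unipotent.up_val]
      rw [this]
      exact hRT _ c.2
    have hlow : ∀ c : RF, j (SpecialLinearGroup.toPGL (CfsgLib.Perm.SL2Unipotent.low c)) ∈ G := by
      intro c
      obtain ⟨g, hg⟩ := h0
      obtain ⟨h, hh⟩ := hle g.2
      set m := SpecialLinearGroup.toPGL (CfsgLib.Perm.SL2Unipotent.low c) with hm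
      set n := h⁻¹ * m * h with hn
      have hm0 : m • ((0 : RF) : OnePoint RF) = ((0 : RF) : OnePoint RF) := by
        rw [hm, SpecialLinearGroup.toPGL, MonoidHom.comp_apply, mk_smul, smul_some_eq_ite]
        simp [CfsgLib.Perm.SL2Unipotent.low_val]
      have hh0 : h • (∞ : OnePoint RF) = ((0 : RF) : OnePoint RF) := by
        apply Option.map_injective RF.subtype.injective
        show (h • (∞ : OnePoint RF)).map RF.subtype = ((0 : RF) : OnePoint RF).map RF.subtype
        rw [← hjs, hh, OnePoint.map_infty, OnePoint.map_some]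
        exact hg
      have hn0 : n • (∞ : OnePoint RF) = ∞ := by
        rw [hn, mul_smul, mul_smul, hh0, hm0, ← hh0, inv_smul_smul]
      haveI : CharP RF p := (RingHom.charP_iff RF.subtype RF.subtype.injective p).mpr inferInstance
      have hnp : n ^ p = 1 := by
        rw [hn, show h⁻¹ * m * h = MulAut.conj h⁻¹ m by simp, ← map_pow]
        have : m ^ p = 1 := by
          rw [hm, ← map_pow]
          have hl : ∀ n : ℕ, (CfsgLib.Perm.SL2Unipotent.low c) ^ n =
              CfsgLib.Perm.SL2Unipotent.low ((n : RF) * c) := by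
            intro n
            induction n with
            | zero => simp [CfsgLib.Perm.SL2Unipotent.low_zero]
            | succ n ih => rw [pow_succ, ih, CfsgLib.Perm.SL2Unipotent.low_mul, Nat.cast_succ, add_mul, one_mul]
          rw [hl, CharP.cast_eq_zero, zero_mul, CfsgLib.Perm.SL2Unipotent.low_zero, map_one]
        rw [this, map_one]
      obtain ⟨a, b, hab⟩ := exists_aff hn0
      obtain rfl : a = 1 := (aff_pow_char_eq_one_iff p a b).mp (hab ▸ hnp)
      have hjn : j n ∈ G := by
        have : j n = aff 1 (b : F) := by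
          rw [hab, aff, ProjGenLinGroup.map_mk, aff]
          congr 1
          apply Units.ext
          ext a b
          fin_cases a <;> fin_cases b <;> simp [affGL]
        rw [this]; exact hRT _ b.2
      have : m = h * n * h⁻¹ := by rw [hn]; group
      rw [this, map_mul, map_mul, map_inv, hh]
      exact mul_mem (mul_mem g.2 hjn) (inv_mem g.2)
    have hsub : (j.comp (SpecialLinearGroup.toPGL (n := Fin 2) (R := RF))).range ≤ G := by
      rw [MonoidHom.range_eq_map, Subgroup.map_le_iff_le_comap]
      · rw [← CfsgLib.Perm.SL2Unipotent.sup_eq_top]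
        refine sup_le ?_ ?_
        · intro x hx
          obtain ⟨c, rfl⟩ := CfsgLib.Perm.SL2Unipotent.mem_lower.mp hx
          exact hlow c
        · intro x hx
          obtain ⟨c, rfl⟩ := CfsgLib.Perm.SL2Unipotent.mem_upper.mp hx
          exact hup c
    refine (Subgroup.eq_of_le_of_card_ge hsub ?_).symm
    rw [MonoidHom.range_comp, Subgroup.card_map_of_injective hjinj]
    have hs := card_range_toPGL RF
    rw [hRP, show Nat.gcd 2 (P - 1) = 2 from Nat.gcd_eq_left (by omega)] at hs
    rw [hcardG]
    rw [← ht] at hs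
    have : (P + 1) * P * (2 * t) = 2 * ((P + 1) * (P * t)) := by ring
    omega

end CfsgLib.Classical.Dickson
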