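import Cfsg.Agent.Lib.Classical.Dickson.Main

/-!
# Transport of Dickson's classification to `PSL₂(q)`
-/

set_option autoImplicit false
set_option linter.unusedSectionVars false
set_option linter.style.haveILetI false

namespace CfsgLib.Classical.Dickson

open Matrix OnePoint MulAction
open scoped MatrixGroups

variable {F : Type*} [Field F] [Fintype F] [DecidableEq F] (p : ℕ) [hp : Fact p.Prime] [CharP F p]

/-- A finite field is isomorphic to one in `Type`. -/
theorem exists_small_field (K : Type*) [Field K] [Finite K] :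
    ∃ (K₀ : Type) (_ : Field K₀) (_ : Fintype K₀), Fintype.card K₀ = Nat.card K ∧ Nonempty (K ≃+* K₀) := by
  haveI := Fintype.ofFinite K
  haveI : Small.{0} K := Countable.toSmall K
  exact ⟨Shrink.{0} K, inferInstance, Fintype.ofEquiv K (equivShrink K), by
      rw [← Nat.card_eq_fintype_card]; exact Nat.card_congr (equivShrink K).symm,
    ⟨(Shrink.ringEquiv K).symm⟩⟩

/-- `PGL₂` of isomorphic fields. -/
noncomputable def pglCongr {K L : Type*} [Field K] [Field L] (e : K ≃+* L) :
    ProjGenLinGroup (Fin 2) K ≃* ProjGenLinGroup (Fin 2) L :=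
  MonoidHom.toMulEquiv (ProjGenLinGroup.map e.toRingHom) (ProjGenLinGroup.map e.symm.toRingHom)
    (by rw [← ProjGenLinGroup.map_comp]; simp)
    (by rw [← ProjGenLinGroup.map_comp]; simp)

theorem psl_congr {K L : Type*} [Field K] [Field L] (e : K ≃+* L) :
    Nonempty ((SpecialLinearGroup.toPGL (n := Fin 2) (R := K)).range ≃*
      ProjectiveSpecialLinearGroup (Fin 2) L) := by
  have h : ((SpecialLinearGroup.toPGL (n := Fin 2) (R := K)).range).map (pglCongr e).toMonoidHom =
      (SpecialLinearGroup.toPGL (n := Fin 2) (R := L)).range := by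
    rw [MonoidHom.map_range]
    apply le_antisymm
    · rintro _ ⟨g, rfl⟩
      refine ⟨SpecialLinearGroup.map e.toRingHom g, ?_⟩
      show ProjGenLinGroup.mk (SpecialLinearGroup.toGL _) =
        ProjGenLinGroup.map e.toRingHom (ProjGenLinGroup.mk (SpecialLinearGroup.toGL g))
      rw [ProjGenLinGroup.map_mk]
      apply congrArg ProjGenLinGroup.mk
      apply Units.ext
      ext i j
      simp
    · rintro _ ⟨g, rfl⟩
      refine ⟨SpecialLinearGroup.map e.symm.toRingHom g, ?_⟩
      show ProjGenLinGroup.map e.toRingHom (ProjGenLinGroup.mk (SpecialLinearGroup.toGL _)) = _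
      rw [ProjGenLinGroup.map_mk]
      show ProjGenLinGroup.mk _ = ProjGenLinGroup.mk (SpecialLinearGroup.toGL g)
      apply congrArg ProjGenLinGroup.mk
      apply Units.ext
      ext i j
      simp
  have h2 : (SpecialLinearGroup.toPGL (n := Fin 2) (R := L)).range =
      (ProjectiveSpecialLinearGroup.toPGL (n := Fin 2) (R := L)).range := by
    apply le_antisymm
    · rintro _ ⟨g, rfl⟩; exact ⟨(g : ProjectiveSpecialLinearGroup (Fin 2) L), rfl⟩
    · rintro _ ⟨g, rfl⟩
      induction g using QuotientGroup.induction_on with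
      | H g => exact ⟨g, rfl⟩
  exact ⟨((Subgroup.equivMapOfInjective _ _ (pglCongr e).injective).trans
    (MulEquiv.subgroupCongr (h.trans h2))).trans
      (MonoidHom.ofInjective ProjectiveSpecialLinearGroup.toPGL_injective).symm⟩

/-- The subgroup of `PGL₂` corresponding to one of `PSL₂`. -/
noncomputable def inPGL (H : Subgroup (ProjectiveSpecialLinearGroup (Fin 2) F)) :
    Subgroup (ProjGenLinGroup (Fin 2) F) :=
  H.map ProjectiveSpecialLinearGroup.toPGL

noncomputable def inPGLEquiv (H : Subgroup (ProjectiveSpecialLinearGroup (Fin 2) F)) : H ≃* inPGL H :=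
  H.equivMapOfInjective _ ProjectiveSpecialLinearGroup.toPGL_injective

theorem toPGL_mk' (g : SL(2, F)) :
    ProjectiveSpecialLinearGroup.toPGL (g : ProjectiveSpecialLinearGroup (Fin 2) F) =
      ProjGenLinGroup.mk (SpecialLinearGroup.toGL g) := rfl

theorem psl_order_dvd {c : ProjectiveSpecialLinearGroup (Fin 2) F} (hk : ¬ p ∣ orderOf c) :
    orderOf c ∣ (Fintype.card F - 1) / Nat.gcd 2 (Fintype.card F - 1) ∨
    orderOf c ∣ (Fintype.card F + 1) / Nat.gcd 2 (Fintype.card F - 1) := by
  induction c using QuotientGroup.induction_on with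
  | H g =>
    rw [← orderOf_injective _ ProjectiveSpecialLinearGroup.toPGL_injective, toPGL_mk'] at hk ⊢
    exact order_dvd_psl p g hk

/-- A point stabiliser lies in the normaliser of a Sylow `p`-subgroup. -/
theorem exists_sylow_of_fixed (x : OnePoint F)
    (H : Subgroup (ProjectiveSpecialLinearGroup (Fin 2) F))
    (h : ∀ g ∈ inPGL H, g • x = x) :
    ∃ P : Sylow p (ProjectiveSpecialLinearGroup (Fin 2) F),
      H ≤ Subgroup.normalizer ((P : Subgroup (ProjectiveSpecialLinearGroup (Fin 2) F)) : Set _) := by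
  classical
  let ι := ProjectiveSpecialLinearGroup.toPGL (n := Fin 2) (R := F)
  have hι : Function.Injective ι := ProjectiveSpecialLinearGroup.toPGL_injective
  let U : Subgroup (ProjectiveSpecialLinearGroup (Fin 2) F) :=
    { carrier := {g | ι g • x = x ∧ ι g ^ p = 1}
      one_mem' := by simp
      mul_mem' := fun {a b} ha hb => ⟨by rw [map_mul, mul_smul, hb.1, ha.1],
        by rw [map_mul]; exact (unip_mul p ha.1 hb.1 ha.2 hb.2).1⟩
      inv_mem' := fun {a} ha => ⟨by rw [map_inv, inv_smul_eq_iff, ha.1], by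
        rw [map_inv, inv_pow, ha.2, inv_one]⟩ }
  have hU : IsPGroup p U := fun u => ⟨1, Subtype.ext (hι (by
    rw [pow_one, Subgroup.coe_pow, map_pow, Subgroup.coe_one, map_one]; exact u.2.2))⟩
  obtain ⟨P, hP⟩ := hU.exists_le_sylow
  -- `U` is the whole Sylow subgroup: a `p`-group containing it fixes the point
  have hUne : ∃ u ∈ U, ι u ≠ 1 := by
    obtain ⟨m, hm⟩ := exists_to_infty x
    let t : SL(2, F) := ⟨!![1, 1; 0, 1], by simp⟩
    have htr : ProjGenLinGroup.mk (SpecialLinearGroup.toGL t) = aff (1 : Fˣ) (1 : F) := by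
      rw [aff]; congr 1; apply Units.ext; ext i j; fin_cases i <;> fin_cases j <;> simp [affGL, t] <;> rfl
    -- move the translation to `x`
    have hmem : m * aff 1 1 * m⁻¹ ∈ ι.range := by
      have hn : ι.range.Normal := by
        have hr : ι.range = (SpecialLinearGroup.toPGL (n := Fin 2) (R := F)).range := by
          apply le_antisymm
          · rintro _ ⟨g, rfl⟩
            induction g using QuotientGroup.induction_on with
            | H g => exact ⟨g, rfl⟩
          · rintro _ ⟨g, rfl⟩; exact ⟨(g : ProjectiveSpecialLinearGroup (Fin 2) F), rfl⟩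
        rw [hr, show (SpecialLinearGroup.toPGL (n := Fin 2) (R := F)).range =
          (SpecialLinearGroup.toGL (n := Fin 2) (R := F)).range.map ProjGenLinGroup.mk from
            MonoidHom.range_comp _ _, ← CfsgLib.Classical.ker_glDet_eq_range_toGL]
        exact Subgroup.Normal.map inferInstance _ ProjGenLinGroup.mk_surjective
      exact hn.conj_mem _ ⟨(t : ProjectiveSpecialLinearGroup (Fin 2) F), htr⟩ _
    obtain ⟨u, hu⟩ := hmem
    refine ⟨u, ⟨?_, ?_⟩, ?_⟩
    · show ι u • x = x
      rw [hu, ← hm, mul_smul, mul_smul, inv_smul_smul, aff_smul_infty]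
    · show ι u ^ p = 1
      rw [hu, conj_pow, (aff_pow_char_eq_one_iff p 1 1).mpr rfl]; simp
    · rw [hu]; intro e
      rw [conj_eq_one_iff, aff_eq_one_iff] at e
      exact one_ne_zero e.2
  obtain ⟨u, hu, hu1⟩ := hUne
  have hPx : ∀ g ∈ (P : Subgroup (ProjectiveSpecialLinearGroup (Fin 2) F)), ι g • x = x := by
    intro g hg
    haveI : Nontrivial (P : Subgroup (ProjectiveSpecialLinearGroup (Fin 2) F)) :=
      ⟨⟨⟨u, hP hu⟩, 1, fun e => hu1 (by
        have : u = 1 := congrArg Subtype.val e
        rw [this, map_one])⟩⟩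
    haveI : Nontrivial (Subgroup.center (P : Subgroup (ProjectiveSpecialLinearGroup (Fin 2) F))) :=
      P.isPGroup'.center_nontrivial
    obtain ⟨⟨z, hz⟩, hz1⟩ := exists_ne (1 : Subgroup.center (P : Subgroup (ProjectiveSpecialLinearGroup (Fin 2) F)))
    have hzne : ι z.1 ≠ 1 := fun e => hz1 (Subtype.ext (Subtype.ext (hι (by rw [e]; exact (map_one ι).symm))))
    -- the central element fixes `x`
    have hzu : ι u • ι z.1 • x = ι z.1 • x := by
      rw [← mul_smul, ← map_mul, show u * z.1 = z.1 * u from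
        congrArg Subtype.val (Subgroup.mem_center_iff.mp hz ⟨u, hP hu⟩), map_mul, mul_smul, hu.1]
    have hzx : ι z.1 • x = x := fix_of_unip p hu1 hu.2 hu.1 hzu
    have hgx : ι z.1 • ι g • x = ι g • x := by
      rw [← mul_smul, ← map_mul, ← show g * z.1 = z.1 * g from
        congrArg Subtype.val (Subgroup.mem_center_iff.mp hz ⟨g, hg⟩), map_mul, mul_smul, hzx]
    by_cases hzp : ι z.1 ^ p = 1
    · exact fix_of_unip p hzne hzp hzx hgx
    · exfalso
      obtain ⟨y, hyx, hy⟩ := two_fix_of_not_unip p hzp hzx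
      exact not_commute_unip p hu1 hu.2 hu.1 hzx hzp (by
        rw [← map_mul, ← map_mul]; exact congrArg ι (congrArg Subtype.val
          (Subgroup.mem_center_iff.mp hz ⟨u, hP hu⟩)).symm)
  have hUP : U = (P : Subgroup (ProjectiveSpecialLinearGroup (Fin 2) F)) := by
    refine le_antisymm hP fun g hg => ⟨hPx g hg, ?_⟩
    by_contra hgp
    -- a `p`-element fixing a point is unipotent
    have hg1 : g ≠ 1 := fun e => hgp (by rw [e]; simp)
    obtain ⟨k, hk⟩ := P.isPGroup' ⟨g, hg⟩
    obtain ⟨y, hyx, hy⟩ := two_fix_of_not_unip p hgp (hPx g hg)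
    haveI : Nontrivial (Subgroup.center (P : Subgroup (ProjectiveSpecialLinearGroup (Fin 2) F))) := by
      haveI : Nontrivial (P : Subgroup (ProjectiveSpecialLinearGroup (Fin 2) F)) :=
        ⟨⟨⟨g, hg⟩, 1, fun e => hg1 (congrArg Subtype.val e)⟩⟩
      exact P.isPGroup'.center_nontrivial
    obtain ⟨⟨z, hz⟩, hz1⟩ := exists_ne (1 : Subgroup.center (P : Subgroup (ProjectiveSpecialLinearGroup (Fin 2) F)))
    have hcz : ι g * ι z.1 = ι z.1 * ι g := by
      rw [← map_mul, ← map_mul]; exact congrArg ι (congrArg Subtype.val (Subgroup.mem_center_iff.mp hz ⟨g, hg⟩))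
    have hzne : ι z.1 ≠ 1 := fun e => hz1 (Subtype.ext (Subtype.ext (hι (by rw [e]; exact (map_one ι).symm))))
    by_cases hzp : ι z.1 ^ p = 1
    · exact not_commute_unip p hzne hzp (hPx _ z.2) (hPx g hg) hgp hcz
    · exact not_commute_unip p hu1 hu.2 hu.1 (hPx _ z.2) hzp (by
        rw [← map_mul, ← map_mul]
        exact congrArg ι (congrArg Subtype.val (Subgroup.mem_center_iff.mp hz ⟨u, hP hu⟩)).symm)
  refine ⟨P, fun g hg => ?_⟩
  rw [← hUP, Subgroup.mem_normalizer_iff]
  intro n
  have hgx := h _ ⟨g, hg, rfl⟩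
  have hfx : ι g • x = x := hgx
  constructor
  · rintro ⟨hn1, hn2⟩
    exact ⟨by rw [map_mul, map_mul, map_inv, mul_smul, mul_smul, inv_smul_eq_iff.mpr hfx.symm, hn1, hfx],
      by rw [map_mul, map_mul, map_inv, conj_pow, hn2]; simp⟩
  · rintro ⟨hn1, hn2⟩
    rw [map_mul, map_mul, map_inv, mul_smul, mul_smul, inv_smul_eq_iff.mpr hfx.symm] at hn1
    rw [map_mul, map_mul, map_inv, conj_pow] at hn2
    exact ⟨MulAction.injective (ι g) (hn1.trans hfx.symm), conj_eq_one_iff.mp hn2⟩

end CfsgLib.Classical.Dickson
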