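import Cfsg.Agent.Lib.Classical.Dickson.Count
import Cfsg.Agent.Lib.TwoGroups.CyclicMax
import Cfsg.Agent.Lib.SmallGroups.SimpleTools
import Cfsg.Agent.S0219
import Cfsg.Agent.S0494
import Cfsg.Agent.S1012

/-!
# The isomorphism types in Dickson's classification
-/

set_option autoImplicit false
set_option linter.unusedSectionVars false
set_option linter.style.haveILetI false

namespace CfsgLib.Classical.Dickson

open MulAction

variable {G X : Type*} [Group G] [Finite G] [MulAction G X] [Finite X]

namespace TwoFixed

variable (D : TwoFixed G X)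
include D

theorem exists_fixed {g : G} (hg : g ≠ 1) : ∃ x : X, g • x = x := by
  by_contra h
  push Not at h
  have h1 : Nat.card {x : X // g • x = x} = 0 := by
    rw [Nat.card_eq_zero]; exact Or.inl ⟨fun x => h x.1 x.2⟩
  have h2 : Nat.card {x : X // g ∈ D.Q x} = 0 := by
    rw [Nat.card_eq_zero]; exact Or.inl ⟨fun x => h x.1 (D.le_stab _ x.2)⟩
  have := D.two g hg
  omega

theorem fixed_le_two {g : G} (hg : g ≠ 1) {x y z : X} (hxy : x ≠ y) (hx : g • x = x)
    (hy : g • y = y) (hz : g • z = z) : z = x ∨ z = y := by
  classical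
  haveI := Fintype.ofFinite X
  by_contra h
  push Not at h
  have h2 := D.two g hg
  have h3 : 3 ≤ Nat.card {x : X // g • x = x} := by
    rw [Nat.card_eq_fintype_card, Fintype.card_subtype]
    have hs : ({x, y, z} : Finset X) ⊆ Finset.univ.filter fun x => g • x = x := by
      intro w hw
      simp only [Finset.mem_insert, Finset.mem_singleton] at hw
      simp only [Finset.mem_filter, Finset.mem_univ, true_and]
      rcases hw with rfl | rfl | rfl <;> assumption
    have hc : ({x, y, z} : Finset X).card = 3 :=
      Finset.card_eq_three.mpr ⟨x, y, z, hxy, fun e => h.1 e.symm, fun e => h.2 e.symm, rfl⟩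
    exact hc ▸ Finset.card_le_card hs
  omega

theorem orderOf_le_stab {g : G} (hg : g ≠ 1) :
    ∃ x : X, e (G := G) x ≠ 1 ∧ orderOf g ∣ e (G := G) x := by
  obtain ⟨x, hx⟩ := D.exists_fixed hg
  have hd : orderOf g ∣ e (G := G) x := by
    have := orderOf_dvd_natCard (⟨g, hx⟩ : stabilizer G x)
    rwa [← Subgroup.orderOf_coe] at this
  refine ⟨x, fun h1 => hg ?_, hd⟩
  rwa [h1, Nat.dvd_one, orderOf_eq_one_iff] at hd

theorem dihedral {y : X} (he : 2 * e (G := G) y = Nat.card G) [IsCyclic (stabilizer G y)] :
    Nonempty (G ≃* DihedralGroup (e (G := G) y)) := by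
  classical
  obtain ⟨⟨c, hc⟩, hgen⟩ := IsCyclic.exists_generator (α := stabilizer G y)
  have hcc : Subgroup.zpowers c = stabilizer G y := by
    apply le_antisymm (Subgroup.zpowers_le.mpr hc)
    intro g hg
    obtain ⟨k, hk⟩ := Subgroup.mem_zpowers_iff.mp (hgen ⟨g, hg⟩)
    exact Subgroup.mem_zpowers_iff.mpr ⟨k, congrArg Subtype.val hk⟩
  have hord : orderOf c = e (G := G) y := by rw [← Nat.card_zpowers, hcc]; rfl
  have ho : o (G := G) y = 2 := by
    have := o_mul_e (G := G) y
    rw [← he] at this
    exact Nat.eq_of_mul_eq_mul_right (e_pos y) this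
  obtain ⟨b, hb⟩ : ∃ b : G, b • y ≠ y := by
    by_contra h
    push Not at h
    have : stabilizer G y = ⊤ := eq_top_iff.mpr fun g _ => h g
    have h2 : e (G := G) y = Nat.card G := by rw [e, this, Subgroup.card_top]
    have := e_pos (G := G) y
    omega
  have horb : ∀ z ∈ orbit G y, z = y ∨ z = b • y := by
    intro z hz
    haveI := Fintype.ofFinite X
    by_contra h
    push Not at h
    have hs : ({y, b • y, z} : Finset X) ⊆ Finset.univ.filter (· ∈ orbit G y) := by
      intro w hw
      simp only [Finset.mem_insert, Finset.mem_singleton] at hw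
      simp only [Finset.mem_filter, Finset.mem_univ, true_and]
      rcases hw with rfl | rfl | rfl
      exacts [mem_orbit_self _, mem_orbit _ _, hz]
    have h3 := Finset.card_le_card hs
    rw [Finset.card_eq_three.mpr ⟨y, b • y, z, hb.symm, h.1.symm, h.2.symm, rfl⟩,
      ← Fintype.card_subtype, ← Nat.card_eq_fintype_card] at h3
    have : Nat.card {x // x ∈ orbit G y} = 2 := ho
    omega
  -- elements outside the stabiliser are involutions
  have hinv : ∀ g : G, g • y ≠ y → g * g = 1 := by
    intro g hg
    by_contra h2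
    have hgy : g • y = b • y := (horb _ (mem_orbit y g)).resolve_left hg
    have hggy : g • g • y = y := by
      rcases horb _ (mem_orbit_of_mem_orbit g (mem_orbit y g)) with h | h
      · exact h
      · exact absurd (MulAction.injective g (h.trans hgy.symm)) hg
    obtain ⟨z, hz⟩ := D.exists_fixed (g := g) (fun e => hg (by rw [e, one_smul]))
    have hzy : z ≠ y := fun e => hg (by rwa [e] at hz)
    rcases D.fixed_le_two (g := g * g) h2 hb.symm (x := y) (y := b • y) (z := z)
      (by rw [mul_smul, hggy]) (by rw [← hgy, ← mul_smul, mul_assoc, mul_smul, mul_smul, hggy])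
      (by rw [mul_smul, hz, hz]) with h | h
    · exact hzy h
    · rw [h, ← hgy] at hz
      exact hg (hggy.symm.trans hz).symm
  have hbc : (b * c) • y ≠ y := by rw [mul_smul, show c • y = y from hc]; exact hb
  refine CfsgLib.TwoGroups.CyclicMax.dihedral_iso hord (by omega) ?_ (hinv b hb) ?_
  · rw [hcc]; exact hb
  · have e1 := hinv b hb
    have e2 := hinv _ hbc
    have hbi : b⁻¹ = b := inv_eq_of_mul_eq_one_right e1
    rw [hbi]
    apply eq_inv_of_mul_eq_one_left
    calc b * c * b * c = (b * c) * (b * c) := by group
      _ = 1 := e2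

theorem twelve {y : X} (hn : Nat.card G = 12) (he : e (G := G) y = 3) :
    Nonempty (G ≃* alternatingGroup (Fin 4)) := by
  classical
  haveI := Fintype.ofFinite X
  have ho : o (G := G) y = 4 := by
    have := o_mul_e (G := G) y
    rw [he, hn] at this; omega
  let O := orbit G y
  obtain ⟨e4⟩ : Nonempty (O ≃ Fin 4) :=
    ⟨Finite.equivFinOfCardEq (show Nat.card O = 4 from ho)⟩
  let f : G →* Equiv.Perm (Fin 4) := e4.permCongrHom.toMonoidHom.comp (MulAction.toPermHom G O)
  have hinj : Function.Injective f := by
    rw [injective_iff_map_eq_one]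
    intro g hg
    have hfix : ∀ z : O, g • z = z := fun z => by
      have h1 : MulAction.toPermHom G O g = 1 := e4.permCongrHom.injective (hg.trans (map_one _).symm)
      exact Equiv.ext_iff.mp h1 z
    by_contra h1
    have hex := D.fixed_le_two h1 (x := (e4.symm 0).1) (y := (e4.symm 1).1) (z := (e4.symm 2).1)
      (fun h => absurd (e4.symm.injective (Subtype.ext h)) (by decide))
      (congrArg Subtype.val (hfix _)) (congrArg Subtype.val (hfix _))
      (congrArg Subtype.val (hfix _))
    rcases hex with h | h <;> exact absurd (e4.symm.injective (Subtype.ext h)) (by decide)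
  have hidx : f.range.index = 2 := by
    have h := f.range.card_mul_index
    rw [← Nat.card_congr (MonoidHom.ofInjective hinj).toEquiv, hn, Nat.card_perm, Nat.card_fin] at h
    simp [Nat.factorial] at h
    omega
  exact ⟨(MonoidHom.ofInjective hinj).trans
    (MulEquiv.subgroupCongr (Equiv.Perm.eq_alternatingGroup_of_index_eq_two hidx))⟩

theorem octahedral (hn : Nat.card G = 24) (hmin : ∀ x : X, e (G := G) x ≠ 1 → 6 ≤ o (G := G) x) :
    Nonempty (G ≃* Equiv.Perm (Fin 4)) := by
  refine Cfsg.Agent.S1012.result hn fun g hg => ?_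
  obtain ⟨x, hx1, hx⟩ := D.orderOf_le_stab (g := g) (fun e => by simp [e] at hg)
  have h1 := hmin x hx1
  have h2 := o_mul_e (G := G) x
  have h3 := Nat.le_of_dvd (e_pos x) hx
  have : 6 * 6 ≤ o (G := G) x * e (G := G) x := Nat.mul_le_mul h1 (hg ▸ h3)
  omega

theorem sixty {y : X} (hn : Nat.card G = 60) (he : e (G := G) y = 5) :
    Nonempty (G ≃* alternatingGroup (Fin 5)) := by
  classical
  haveI : Fact (Nat.Prime 5) := ⟨Nat.prime_five⟩
  haveI : Fact (Nat.Prime 3) := ⟨Nat.prime_three⟩
  haveI : Fact (Nat.Prime 2) := ⟨Nat.prime_two⟩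
  set C := stabilizer G y
  have hC : Nat.card C = 5 := he
  have ho : o (G := G) y = 12 := by
    have := o_mul_e (G := G) y
    rw [he, hn] at this; omega
  obtain ⟨⟨c, hc⟩, hc1⟩ : ∃ c : C, c ≠ 1 := by
    haveI : Nontrivial C := Finite.one_lt_card_iff_nontrivial.mp (by rw [hC]; norm_num)
    exact exists_ne 1
  have hc1' : c ≠ 1 := fun e => hc1 (Subtype.ext e)
  have hord : orderOf c = 5 := orderOf_eq_prime (by
    have := orderOf_dvd_natCard (⟨c, hc⟩ : C)
    rw [hC, ← Subgroup.orderOf_coe] at this
    exact orderOf_dvd_iff_pow_eq_one.mp this) hc1'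
  -- `C` has a conjugate other than itself
  obtain ⟨b, hb⟩ : ∃ b : G, b * c * b⁻¹ ∉ C := by
    by_contra h
    push Not at h
    haveI := Fintype.ofFinite X
    have hsub : ∀ z ∈ orbit G y, c • z = z := by
      rintro _ ⟨g, rfl⟩
      have := h g⁻¹
      rw [mem_stabilizer_iff, inv_inv, mul_smul, mul_smul, inv_smul_eq_iff] at this
      exact this
    have hle : Nat.card (orbit G y) ≤ 2 := by
      have h2 := D.two c hc1'
      have : Nat.card (orbit G y) ≤ Nat.card {x : X // c • x = x} :=
        Nat.card_le_card_of_injective (fun z => ⟨z.1, hsub z.1 z.2⟩)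
          (fun a b h => by simpa [Subtype.ext_iff] using h)
      omega
    have : Nat.card (orbit G y) = 12 := ho
    omega
  -- a normal subgroup of order prime to five has order one modulo five
  have hmod : ∀ K : Subgroup G, K.Normal → ¬ 5 ∣ Nat.card K → Nat.card K % 5 = 1 := by
    intro K hK h5
    letI : MulAction (Subgroup.zpowers c) K :=
      { smul := fun a k => ⟨(a : G) * k * (a : G)⁻¹, hK.conj_mem _ k.2 _⟩
        one_smul := fun k => Subtype.ext (by show ((1 : G) * k * (1 : G)⁻¹) = k; simp)
        mul_smul := fun a a' k => Subtype.ext (by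
          show ((a : G) * a') * k * ((a : G) * a')⁻¹ = a * (a' * k * (a' : G)⁻¹) * (a : G)⁻¹
          group) }
    have hp : IsPGroup 5 (Subgroup.zpowers c) :=
      IsPGroup.of_card (n := 1) (by rw [Nat.card_zpowers, hord, pow_one])
    have h := hp.card_modEq_card_fixedPoints K
    have hfix : Nat.card (fixedPoints (Subgroup.zpowers c) K) = 1 := by
      rw [Nat.card_eq_one_iff_unique]
      refine ⟨⟨fun a a' => ?_⟩, ⟨⟨1, fun a => Subtype.ext (by show (a : G) * 1 * (a : G)⁻¹ = 1; simp)⟩⟩⟩
      suffices hh : ∀ k : K, k ∈ fixedPoints (Subgroup.zpowers c) K → k = 1 by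
        exact Subtype.ext ((hh _ a.2).trans (hh _ a'.2).symm)
      intro k hk
      by_contra hk1
      have hcomm : c * k * c⁻¹ = k := congrArg Subtype.val (hk ⟨c, Subgroup.mem_zpowers c⟩)
      have hcomm' : Commute c (k : G) := mul_inv_eq_iff_eq_mul.mp hcomm
      have hco : (orderOf (k : G)).Coprime 5 := by
        refine Nat.Coprime.symm ((Nat.Prime.coprime_iff_not_dvd Nat.prime_five).mpr fun hd => h5 ?_)
        rw [Subgroup.orderOf_coe] at hd
        exact hd.trans (orderOf_dvd_natCard k)
      have hk1' : (k : G) ≠ 1 := fun e => hk1 (Subtype.ext e)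
      have hne : c * k ≠ 1 := by
        intro e
        have : orderOf (k : G) = 5 := by
          rw [← orderOf_inv, ← eq_inv_of_mul_eq_one_left e, hord]
        rw [this] at hco; norm_num at hco
      obtain ⟨z, hz⟩ := D.exists_fixed hne
      have hpz : ∀ j : ℕ, (c * (k : G)) ^ j • z = z := fun j => by
        induction j with
        | zero => simp
        | succ j ih => rw [pow_succ, mul_smul, hz, ih]
      have hmem : c ∈ Subgroup.zpowers (c * (k : G)) ∧ (k : G) ∈ Subgroup.zpowers (c * (k : G)) := by
        have hor : orderOf (c * (k : G)) = orderOf c * orderOf (k : G) :=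
          hcomm'.orderOf_mul_eq_mul_orderOf_of_coprime (by rw [hord]; exact hco.symm)
        have hsub : Subgroup.zpowers (c * (k : G)) ≤ Subgroup.closure {c, (k : G)} :=
          Subgroup.zpowers_le.mpr (mul_mem (Subgroup.subset_closure (by simp))
            (Subgroup.subset_closure (by simp)))
        have h1 : (c * (k : G)) ^ (orderOf (k : G)) = c ^ (orderOf (k : G)) := by
          rw [hcomm'.mul_pow, pow_orderOf_eq_one, mul_one]
        have hc' : c ∈ Subgroup.zpowers (c * (k : G)) := by
          obtain ⟨m, hm⟩ := exists_pow_eq_self_of_coprime (x := c) (n := orderOf (k : G))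
            (by rw [hord]; exact hco)
          have hmm : ((c * (k : G)) ^ orderOf (k : G)) ^ m ∈ Subgroup.zpowers (c * (k : G)) :=
            pow_mem (pow_mem (Subgroup.mem_zpowers _) _) _
          rwa [h1, hm] at hmm
        refine ⟨hc', ?_⟩
        have := mul_mem (inv_mem hc') (Subgroup.mem_zpowers (c * (k : G)))
        rwa [inv_mul_cancel_left] at this
      have hstab : Subgroup.zpowers (c * (k : G)) ≤ stabilizer G z := Subgroup.zpowers_le.mpr hz
      -- `c k` fixes `z`, so `c` does; hence `k` fixes `y`
      have hcz : c • z = z := hstab hmem.1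
      have hkz : (k : G) • z = z := hstab hmem.2
      have hky : (k : G) • y = y := by
        by_cases hzy : z = y
        · rwa [hzy] at hkz
        have hcky : c • (k : G) • y = (k : G) • y := by
          rw [← mul_smul, hcomm'.eq, mul_smul, show c • y = y from hc]
        rcases D.fixed_le_two hc1' (Ne.symm hzy) hc hcz hcky with h | h
        · exact h
        · exact absurd (MulAction.injective (k : G) (h.trans hkz.symm)).symm hzy
      have hd := orderOf_dvd_natCard (⟨(k : G), hky⟩ : C)
      rw [hC, ← Subgroup.orderOf_coe] at hd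
      rcases (Nat.dvd_prime Nat.prime_five).mp hd with h | h
      · exact hk1' (orderOf_eq_one_iff.mp h)
      · rw [show orderOf (k : G) = 5 from h] at hco; norm_num at hco
    rw [hfix] at h
    exact h
  -- no normal subgroup of order three
  have h3 : ∀ K : Subgroup G, K.Normal → Nat.card K ≠ 3 := fun K hK hc3 => by
    have := hmod K hK (by rw [hc3]; norm_num)
    omega
  haveI : Nontrivial G := Finite.one_lt_card_iff_nontrivial.mp (by omega)
  haveI : IsSimpleGroup G := by
    refine ⟨fun K hK => ?_⟩
    by_contra hcon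
    push Not at hcon
    have hKd : Nat.card K ∣ 60 := hn ▸ Subgroup.card_subgroup_dvd_card K
    have hK1 : Nat.card K ≠ 1 := fun h => hcon.1 (Subgroup.eq_bot_of_card_eq _ h)
    have hK60 : Nat.card K ≠ 60 := fun h => hcon.2 (Subgroup.eq_top_of_card_eq _ (h.trans hn.symm))
    by_cases h5 : 5 ∣ Nat.card K
    · -- all elements of order five lie in `K`
      have hfive : ∀ g : G, orderOf g = 5 → g ∈ K := by
        intro g hg
        have hm : (QuotientGroup.mk' K g) ^ 5 = 1 := by rw [← map_pow, ← hg, pow_orderOf_eq_one, map_one]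
        have hq : Nat.card (G ⧸ K) * Nat.card K = 60 := by
          rw [← Subgroup.card_eq_card_quotient_mul_card_subgroup, hn]
        have hq5 : ¬ 5 ∣ Nat.card (G ⧸ K) := fun hd => by
          have : 25 ∣ 60 := hq ▸ Nat.mul_dvd_mul hd h5
          norm_num at this
        have : orderOf (QuotientGroup.mk' K g) = 1 := Nat.dvd_one.mp (by
          have h1 := Nat.dvd_gcd (orderOf_dvd_of_pow_eq_one hm)
            (orderOf_dvd_natCard (QuotientGroup.mk' K g))
          rwa [(Nat.prime_five.coprime_iff_not_dvd.mpr hq5).gcd_eq_one] at h1)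
        rwa [orderOf_eq_one_iff, QuotientGroup.mk'_apply, QuotientGroup.eq_one_iff] at this
      -- no subgroup with a unique Sylow five subgroup contains them
      have huniq : ∀ (M : Subgroup G) (k : ℕ), Nat.card M = 5 * k →
          k ∈ ({1, 2, 3, 4} : Finset ℕ) → (∀ g : G, orderOf g = 5 → g ∈ M) → False := by
        intro M k hM hk hall
        have hmem := CfsgLib.SmallGroups.SimpleTools.card_sylow_mem (G := M) (p := 5) (k := 1)
          (m := k) (by rw [hM, pow_one]) (by simp at hk; omega)
        have h1 : Nat.card (Sylow 5 M) = 1 := by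
          simp only [Finset.mem_filter, Nat.mem_divisors] at hmem
          obtain ⟨⟨hd, hk0⟩, hmod⟩ := hmem
          have := Nat.le_of_dvd (Nat.pos_of_ne_zero hk0) hd
          simp at hk; omega
        haveI := (Nat.card_eq_one_iff_unique.mp h1).1
        obtain ⟨P⟩ : Nonempty (Sylow 5 M) := inferInstance
        have hP : ∀ g : G, ∀ hg : orderOf g = 5, (⟨g, hall g hg⟩ : M) ∈ (P : Subgroup M) := by
          intro g hg
          have hp5 : IsPGroup 5 (Subgroup.zpowers (⟨g, hall g hg⟩ : M)) :=
            IsPGroup.of_card (n := 1) (by rw [Nat.card_zpowers, ← Subgroup.orderOf_coe, pow_one]; exact hg)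
          obtain ⟨Q, hQ⟩ := hp5.exists_le_sylow
          rw [Subsingleton.elim P Q]
          exact hQ (Subgroup.mem_zpowers _)
        have hPc : Nat.card (P : Subgroup M) = 5 := by
          rw [CfsgLib.SmallGroups.SimpleTools.card_sylow_subgroup (k := 1) (m := k)
            (by rw [hM, pow_one]) (by simp at hk; omega) P, pow_one]
        have hbc : orderOf (b * c * b⁻¹) = 5 := by
          rw [show b * c * b⁻¹ = MulAut.conj b c by simp, MulEquiv.orderOf_eq, hord]
        have hPeq : (P : Subgroup M).map M.subtype = C := by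
          refine (Subgroup.eq_of_le_of_card_ge ?_ ?_).symm
          · intro g hg
            by_cases hg1 : g = 1
            · rw [hg1]; exact one_mem _
            have hgo : orderOf g = 5 := by
              have hd := orderOf_dvd_natCard (⟨g, hg⟩ : C)
              rw [hC, ← Subgroup.orderOf_coe] at hd
              exact ((Nat.dvd_prime Nat.prime_five).mp hd).resolve_left
                (fun h => hg1 (orderOf_eq_one_iff.mp h))
            exact ⟨⟨g, hall g hgo⟩, hP g hgo, rfl⟩
          · rw [Subgroup.card_map_of_injective (Subgroup.subtype_injective _), hPc, hC]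
        exact hb (hPeq ▸ ⟨⟨_, hall _ hbc⟩, hP _ hbc, rfl⟩)
      obtain ⟨k, hk⟩ := h5
      have hk12 : k ∣ 12 := Nat.dvd_of_mul_dvd_mul_left (by norm_num : 0 < 5) (by rw [← hk]; exact hKd)
      have hklt : k ≠ 12 := fun h => hK60 (by rw [hk, h])
      have hkle : k ≤ 12 := Nat.le_of_dvd (by norm_num) hk12
      by_cases hk6 : k = 6
      · -- order thirty: pass to the subgroup of index two
        obtain ⟨T⟩ : Nonempty (Sylow 2 K) := inferInstance
        have hT : Nat.card (T : Subgroup K) = 2 :=
          (CfsgLib.SmallGroups.SimpleTools.card_sylow_subgroup (k := 1) (m := 15)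
            (by rw [hk, hk6]; norm_num) (by norm_num) T).trans (pow_one 2)
        haveI : IsCyclic (T : Subgroup K) := isCyclic_of_prime_card hT
        obtain ⟨M, hM⟩ := Cfsg.Agent.S0219.result (G := K) (by rw [hk, hk6]; decide) T inferInstance
        haveI := Subgroup.normal_of_index_eq_two hM
        refine huniq (M.map K.subtype) 3 ?_ (by simp) ?_
        · rw [Subgroup.card_map_of_injective (Subgroup.subtype_injective _)]
          have := M.card_mul_index
          rw [hM, hk, hk6] at this; omega
        · intro g hg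
          refine ⟨⟨g, hfive g hg⟩, ?_, rfl⟩
          have hm : orderOf (⟨g, hfive g hg⟩ : K) = 5 := by rw [← Subgroup.orderOf_coe]; exact hg
          have h2 := pow_mem (Subgroup.sq_mem_of_index_two hM (⟨g, hfive g hg⟩ : K)) 3
          rwa [← pow_mul, ← pow_mod_orderOf, hm, pow_one] at h2
      · refine huniq K k hk ?_ hfive
        interval_cases k <;> simp at hk12 hk6 hklt ⊢
    · have hmod' := hmod K hK h5
      have hdvd : Nat.card K ∣ 12 :=
        (Nat.Coprime.dvd_of_dvd_mul_left ((Nat.prime_five.coprime_iff_not_dvd.mpr h5).symm)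
          (show Nat.card K ∣ 5 * 12 from hKd))
      have := Nat.le_of_dvd (by norm_num) hdvd
      have h6 : Nat.card K = 6 := by
        interval_cases hh : Nat.card K <;> simp at hdvd hmod' hK1 ⊢
      obtain ⟨P⟩ : Nonempty (Sylow 3 K) := inferInstance
      have hP1 : Nat.card (Sylow 3 K) = 1 := by
        have hmem := CfsgLib.SmallGroups.SimpleTools.card_sylow_mem (G := K) (p := 3) (k := 1)
          (m := 2) (by rw [h6]; norm_num) (by norm_num)
        rw [show (Nat.divisors 2).filter (fun n => n % 3 = 1) = {1} by decide] at hmem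
        simpa using hmem
      haveI := (Nat.card_eq_one_iff_unique.mp hP1).1
      haveI : (P : Subgroup K).Characteristic := Sylow.characteristic_of_subsingleton P
      refine h3 ((P : Subgroup K).map K.subtype) inferInstance ?_
      rw [Subgroup.card_map_of_injective (Subgroup.subtype_injective _),
        CfsgLib.SmallGroups.SimpleTools.card_sylow_subgroup (k := 1) (m := 2)
          (by rw [h6]; norm_num) (by norm_num) P, pow_one]
  exact Cfsg.Agent.S0494.result hn

end TwoFixed

end CfsgLib.Classical.Dickson
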