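import Cfsg.Agent.Lib.Classical.Dickson.Ext
import Cfsg.Agent.Lib.Classical.Dickson.Subfield
import Cfsg.Agent.Lib.Classical.Dickson.Types

/-!
# Dickson's classification of the subgroups of `PGL₂(q)`
-/

set_option autoImplicit false
set_option linter.unusedSectionVars false
set_option linter.style.haveILetI false

namespace CfsgLib.Classical.Dickson

open Matrix OnePoint MulAction
open scoped MatrixGroups

variable {F : Type*} [Field F] [Fintype F] [DecidableEq F] (p : ℕ) [hp : Fact p.Prime] [CharP F p]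

/-- The kinds of subgroups of `PGL₂(F)`. -/
inductive Kind (G : Subgroup (ProjGenLinGroup (Fin 2) F)) : Prop
  | fixed (x : OnePoint F) (h : ∀ g ∈ G, g • x = x)
  | cyclic (c : ProjGenLinGroup (Fin 2) F) (hc : G = Subgroup.zpowers c) (hp : ¬ p ∣ orderOf c)
  | dihedral (c : ProjGenLinGroup (Fin 2) F) (hc : c ∈ G) (hp : ¬ p ∣ orderOf c)
      (h2 : 2 ≤ orderOf c) (hG : Nonempty (G ≃* DihedralGroup (orderOf c)))
  | a4 (h : Nonempty (G ≃* alternatingGroup (Fin 4)))
  | s4 (h : Nonempty (G ≃* Equiv.Perm (Fin 4)))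
  | a5 (h : Nonempty (G ≃* alternatingGroup (Fin 5)))
  | pgl (A : Subfield F) (h : ProjGenLinGroup (Fin 2) F)
      (hG : G.map (MulAut.conj h).toMonoidHom = (ProjGenLinGroup.map (n := Fin 2) A.subtype).range)
  | psl (A : Subfield F) (hA : Nat.card A % 2 = 1) (h : ProjGenLinGroup (Fin 2) F)
      (hG : G.map (MulAut.conj h).toMonoidHom =
        ((ProjGenLinGroup.map (n := Fin 2) A.subtype).comp
          (SpecialLinearGroup.toPGL (n := Fin 2) (R := A))).range)

variable (G : Subgroup (ProjGenLinGroup (Fin 2) F))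

local notation "E2" => FiniteField.Extension F p 2

/-- The isomorphism with the extended group. -/
noncomputable def extEquiv : G ≃* G.map (toExt p) :=
  G.equivMapOfInjective _ (toExt_injective p)

theorem extEquiv_coe (g : G) : ((extEquiv p G g : G.map (toExt p)) : ProjGenLinGroup (Fin 2) E2) = toExt p g :=
  rfl

theorem extEquiv_smul (g : G) (x : OnePoint F) :
    (extEquiv p G g) • ptExt p x = ptExt p (g • x) := toExt_smul p g x

theorem unip_point_rational (y : OnePoint E2)
    (hy : Nat.card (unipAt p (G.map (toExt p)) y) ≠ 1) : ∃ x : OnePoint F, ptExt p x = y := by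
  classical
  set H := G.map (toExt p) with hH
  let φ := extEquiv p G
  let D := data p H (splits_map p G)
  replace hy : Nat.card (D.Q y) ≠ 1 := hy
  haveI : Nontrivial (D.Q y) := Finite.one_lt_card_iff_nontrivial.mp (by
    have := Nat.card_pos (α := D.Q y); omega)
  obtain ⟨⟨u, hu⟩, hu1⟩ := exists_ne (1 : D.Q y)
  have hcoe : toExt p ((φ.symm u : G) : ProjGenLinGroup (Fin 2) F) = (u : ProjGenLinGroup (Fin 2) E2) := by
    rw [← extEquiv_coe, MulEquiv.apply_symm_apply]
  refine unip_fix_rational p (g := ((φ.symm u : G) : ProjGenLinGroup (Fin 2) F)) ?_ ?_ ?_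
  · intro h
    rw [h, map_one] at hcoe
    exact hu1 (Subtype.ext (Subtype.ext hcoe.symm))
  · rw [← toExt_pow_eq_one_iff p, hcoe]; exact hu.2
  · rw [hcoe]; exact hu.1

theorem affineLine_form (x : OnePoint F) (P t : ℕ)
    (hP : Nat.card (unipAt p (G.map (toExt p)) (ptExt p x)) = P) (hP2 : 2 ≤ P)
    (he : TwoFixed.e (G := G.map (toExt p)) (ptExt p x) = P * t)
    (ho : TwoFixed.o (G := G.map (toExt p)) (ptExt p x) = P + 1)
    (ht : t = P - 1 ∨ 2 * t = P - 1) :
    ∃ (A : Subfield F) (h : ProjGenLinGroup (Fin 2) F), Nat.card A = P ∧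
      (G.map (MulAut.conj h).toMonoidHom = (ProjGenLinGroup.map (n := Fin 2) A.subtype).range ∨
       (Nat.card A % 2 = 1 ∧ G.map (MulAut.conj h).toMonoidHom =
        ((ProjGenLinGroup.map (n := Fin 2) A.subtype).comp
          (SpecialLinearGroup.toPGL (n := Fin 2) (R := A))).range)) := by
  classical
  set H := G.map (toExt p) with hH
  let φ := extEquiv p G
  have hcardH : Nat.card H = Nat.card G := Nat.card_congr φ.symm.toEquiv
  let D := data p H (splits_map p G)
  replace hP : Nat.card (D.Q (ptExt p x)) = P := hP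
  -- normalise: `∞`, `0` and a translation by one
  obtain ⟨z, hz, hzx⟩ : ∃ z ∈ orbit G x, z ≠ x := by
    by_contra h
    push Not at h
    have : TwoFixed.o (G := H) (ptExt p x) ≤ 1 := by
      haveI : Subsingleton (orbit H (ptExt p x)) := ⟨fun a b => Subtype.ext (by
        obtain ⟨u, hu⟩ := a.2
        obtain ⟨v, hv⟩ := b.2
        rw [← hu, ← hv, ← φ.apply_symm_apply u, ← φ.apply_symm_apply v]
        show φ (φ.symm u) • ptExt p x = φ (φ.symm v) • ptExt p x
        rw [extEquiv_smul, extEquiv_smul, h _ (mem_orbit _ _), h _ (mem_orbit _ _)])⟩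
      exact Finite.card_le_one_iff_subsingleton.mpr inferInstance
    omega
  haveI : Nontrivial (D.Q (ptExt p x)) := Finite.one_lt_card_iff_nontrivial.mp (by omega)
  obtain ⟨⟨u, hu⟩, hu1⟩ := exists_ne (1 : D.Q (ptExt p x))
  set v : ProjGenLinGroup (Fin 2) F := ((φ.symm u : G) : ProjGenLinGroup (Fin 2) F) with hv
  have hvu : toExt p v = (u : ProjGenLinGroup (Fin 2) E2) := by
    rw [hv, ← extEquiv_coe, MulEquiv.apply_symm_apply]
  have hv1 : v ≠ 1 := fun e => hu1 (Subtype.ext (Subtype.ext (by rw [← hvu, e, map_one]; rfl)))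
  have hvp : v ^ p = 1 := by rw [← toExt_pow_eq_one_iff p, hvu]; exact hu.2
  have hvx : v • x = x := ptExt_injective p (by rw [← toExt_smul, hvu]; exact hu.1)
  have hvz : v • z ≠ x := fun e => hzx (MulAction.injective v (e.trans hvx.symm))
  have hvz' : v • z ≠ z := fun e => hzx (fix_of_unip p hv1 hvp hvx e)
  obtain ⟨h, h1, h2, h3⟩ := exists_move hzx.symm hvz.symm (Ne.symm hvz')
  set G' := G.map (MulAut.conj h⁻¹).toMonoidHom with hG'
  let ψ : G ≃* G' := G.equivMapOfInjective _ (MulEquiv.injective _)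
  have hψ : ∀ (g : G) (w : OnePoint F), ψ g • w = h⁻¹ • (g : ProjGenLinGroup (Fin 2) F) • h • w := by
    intro g w
    show (MulAut.conj h⁻¹ (g : ProjGenLinGroup (Fin 2) F)) • w = _
    simp [mul_smul]
  -- orbit
  have ho' : Nat.card (orbit G' (∞ : OnePoint F)) = P + 1 := by
    rw [← ho]
    refine Nat.card_congr (Equiv.ofBijective (fun w => ⟨ptExt p (h • (w.1 : OnePoint F)), ?_⟩) ⟨?_, ?_⟩)
    · obtain ⟨g, hg⟩ := w.2
      refine ⟨φ (ψ.symm g), ?_⟩
      show φ (ψ.symm g) • ptExt p x = _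
      rw [extEquiv_smul, ← hg]
      show _ = ptExt p (h • g • (∞ : OnePoint F))
      rw [← ψ.apply_symm_apply g, hψ, smul_inv_smul, h1, ψ.symm_apply_apply]
      rfl
    · intro a b e
      exact Subtype.ext (MulAction.injective h (ptExt_injective p (congrArg Subtype.val e)))
    · rintro ⟨_, g, rfl⟩
      refine ⟨⟨ψ (φ.symm g) • (∞ : OnePoint F), mem_orbit _ _⟩, Subtype.ext ?_⟩
      show ptExt p (h • ψ (φ.symm g) • (∞ : OnePoint F)) = g • ptExt p x
      rw [hψ, smul_inv_smul, h1]
      conv_rhs => rw [← φ.apply_symm_apply g, extEquiv_smul]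
      rfl
  have hcardG' : Nat.card G' = Nat.card H := by rw [hcardH]; exact Nat.card_congr ψ.symm.toEquiv
  have he' : Nat.card (stabilizer G' (∞ : OnePoint F)) = P * t := by
    have h1' : TwoFixed.o (G := G') (∞ : OnePoint F) * TwoFixed.e (G := G') (∞ : OnePoint F) =
        Nat.card G' := TwoFixed.o_mul_e _
    have h2' := TwoFixed.o_mul_e (G := H) (ptExt p x)
    rw [he, ho] at h2'
    rw [show TwoFixed.o (G := G') (∞ : OnePoint F) = P + 1 from ho', hcardG', ← h2'] at h1'
    exact Nat.eq_of_mul_eq_mul_left (by omega) h1'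
  have hP' : Nat.card (unipAt p G' (∞ : OnePoint F)) = P := by
    rw [← hP]
    show _ = Nat.card (unipAt p H (ptExt p x))
    refine Nat.card_congr (Equiv.ofBijective
      (fun w => (⟨φ (ψ.symm w.1), ?_, ?_⟩ : unipAt p H (ptExt p x))) ⟨?_, ?_⟩)
    · show φ (ψ.symm w.1) • ptExt p x = ptExt p x
      rw [extEquiv_smul]
      congr 1
      have := w.2.1
      rw [← Subgroup.smul_def, ← ψ.apply_symm_apply w.1, hψ, inv_smul_eq_iff, h1] at this
      exact this
    · have := w.2.2
      show (toExt p ((ψ.symm w.1 : G) : ProjGenLinGroup (Fin 2) F)) ^ p = 1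
      rw [toExt_pow_eq_one_iff]
      rw [← ψ.apply_symm_apply w.1] at this
      have h4 : MulAut.conj h⁻¹ (((ψ.symm w.1 : G) : ProjGenLinGroup (Fin 2) F)) ^ p = 1 := this
      rwa [← map_pow, map_eq_one_iff _ (MulEquiv.injective _)] at h4
    · intro a b e
      exact Subtype.ext (ψ.symm.injective (φ.injective (Subtype.ext_iff.mp e)))
    · rintro ⟨g, hg1, hg2⟩
      refine ⟨⟨ψ (φ.symm g), ?_, ?_⟩, Subtype.ext ?_⟩
      · rw [← Subgroup.smul_def, hψ, inv_smul_eq_iff, h1]
        apply ptExt_injective p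
        rw [← toExt_smul, ← extEquiv_coe, MulEquiv.apply_symm_apply]
        exact hg1
      · show (MulAut.conj h⁻¹ ((φ.symm g : G) : ProjGenLinGroup (Fin 2) F)) ^ p = 1
        rw [← map_pow, map_eq_one_iff _ (MulEquiv.injective _), ← toExt_pow_eq_one_iff p,
          ← extEquiv_coe, MulEquiv.apply_symm_apply]
        exact hg2
      · show φ (ψ.symm (ψ (φ.symm g))) = g
        rw [ψ.symm_apply_apply, φ.apply_symm_apply]
  obtain ⟨g0, hg0⟩ := hz
  have h0' : ((0 : F) : OnePoint F) ∈ orbit G' (∞ : OnePoint F) := by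
    refine ⟨ψ g0, ?_⟩
    show ψ g0 • (∞ : OnePoint F) = _
    rw [hψ, h1, inv_smul_eq_iff, h2]
    exact hg0
  have h1' : (1 : F) ∈ transl G' := by
    obtain ⟨a, b, hab⟩ := exists_aff (g := MulAut.conj h⁻¹ v) (by
      simp [mul_smul, h1, hvx, inv_smul_eq_iff])
    obtain rfl : a = 1 := (aff_pow_char_eq_one_iff p a b).mp (by rw [← hab, ← map_pow, hvp, map_one])
    have hb : b = 1 := by
      have : MulAut.conj h⁻¹ v • ((0 : F) : OnePoint F) = ((1 : F) : OnePoint F) := by
        simp [mul_smul, h2, inv_smul_eq_iff, h3]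
      rw [hab, aff_smul_coe, coe_eq_coe] at this
      simpa using this
    rw [mem_transl, ← hb, ← hab]
    exact ⟨v, (φ.symm u).2, rfl⟩
  obtain ⟨A, hA, ⟨-, hG⟩ | ⟨ht', hG⟩⟩ := subfield_std p G' hP' hP2 he' ho' ht h0' h1'
  · exact ⟨A, h⁻¹, hA, Or.inl hG⟩
  · exact ⟨A, h⁻¹, hA, Or.inr ⟨(by
      rw [hA]
      have : 1 ≤ Nat.card A := Nat.card_pos
      omega), hG⟩⟩

theorem kind : Kind p G := by
  classical
  by_cases htriv : Nat.card G = 1
  · refine .fixed ∞ fun g hg => ?_
    rw [Subgroup.eq_bot_of_card_eq _ htriv, Subgroup.mem_bot] at hg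
    rw [hg, one_smul]
  set H := G.map (toExt p) with hH
  let D := data p H (splits_map p G)
  let φ := extEquiv p G
  have hcardH : Nat.card H = Nat.card G := Nat.card_congr φ.symm.toEquiv
  -- semisimple cyclic stabilisers
  have hcyc : ∀ y : OnePoint E2, Nat.card (D.Q y) = 1 →
      ∃ c : ProjGenLinGroup (Fin 2) F, c ∈ G ∧ ¬ p ∣ orderOf c ∧
        orderOf c = TwoFixed.e (G := H) y ∧ IsCyclic (stabilizer H y) ∧
        ∀ g : G, φ g • y = y → (g : ProjGenLinGroup (Fin 2) F) ∈ Subgroup.zpowers c := by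
    intro y hy
    haveI hcy := isCyclic_stabilizer p H hy
    obtain ⟨c, hc⟩ := IsCyclic.exists_generator (α := stabilizer H y)
    have hord : orderOf ((φ.symm c.1 : G) : ProjGenLinGroup (Fin 2) F) = TwoFixed.e (G := H) y := by
      rw [Subgroup.orderOf_coe, MulEquiv.orderOf_eq, Subgroup.orderOf_coe,
        orderOf_eq_card_of_forall_mem_zpowers hc]
      rfl
    refine ⟨((φ.symm c.1 : G) : ProjGenLinGroup (Fin 2) F), (φ.symm c.1).2, ?_, hord, hcy, ?_⟩
    · intro hdvd
      rw [Subgroup.orderOf_coe, MulEquiv.orderOf_eq, Subgroup.orderOf_coe] at hdvd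
      have hne : c ^ (orderOf c / p) ≠ 1 :=
        pow_ne_one_of_lt_orderOf (Nat.div_pos (Nat.le_of_dvd (orderOf_pos c) hdvd) hp.out.pos).ne'
          (Nat.div_lt_self (orderOf_pos c) hp.out.one_lt)
      have hmem : ((c ^ (orderOf c / p) : stabilizer H y) : H) ∈ unipAt p H y := by
        refine ⟨(c ^ (orderOf c / p)).2, ?_⟩
        have : (c ^ (orderOf c / p)) ^ p = 1 := by
          rw [← pow_mul, Nat.div_mul_cancel hdvd, pow_orderOf_eq_one]
        exact congrArg (fun u : stabilizer H y => ((u : H) : ProjGenLinGroup (Fin 2) E2)) this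
      rw [show unipAt p H y = ⊥ from Subgroup.eq_bot_of_card_eq _ hy, Subgroup.mem_bot] at hmem
      exact hne (Subtype.ext hmem)
    · intro g hg
      obtain ⟨k, hk⟩ := Subgroup.mem_zpowers_iff.mp (hc ⟨φ g, hg⟩)
      refine Subgroup.mem_zpowers_iff.mpr ⟨k, ?_⟩
      rw [← Subgroup.coe_zpow, ← map_zpow]
      have : (c.1 : H) ^ k = φ g := congrArg Subtype.val hk
      rw [this, MulEquiv.symm_apply_apply]
  -- a unipotent element pins a rational point
  have hrat : ∀ y : OnePoint E2, Nat.card (D.Q y) ≠ 1 → ∃ x : OnePoint F, ptExt p x = y :=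
    unip_point_rational p G
  have hfix : ∀ x : OnePoint F, stabilizer H (ptExt p x) = ⊤ → ∀ g ∈ G, g • x = x := by
    intro x hx g hg
    apply ptExt_injective p
    rw [← toExt_smul]
    exact (show φ ⟨g, hg⟩ ∈ stabilizer H (ptExt p x) by rw [hx]; trivial)
  have hS := D.shape (by rw [hcardH]; have := Nat.card_pos (α := G); omega)
  cases hS with
  | fixed y he =>
    have htop : stabilizer H y = ⊤ := Subgroup.eq_top_of_card_eq _ he
    by_cases hy : Nat.card (D.Q y) = 1
    · obtain ⟨c, hcG, hcp, -, -, hmem⟩ := hcyc y hy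
      refine .cyclic c (le_antisymm (fun g hg => hmem ⟨g, hg⟩ ?_) (Subgroup.zpowers_le.mpr hcG)) hcp
      have : φ ⟨g, hg⟩ ∈ stabilizer H y := by rw [htop]; trivial
      exact this
    · obtain ⟨x, rfl⟩ := hrat y hy
      exact .fixed x (hfix x htop)
  | half _ y hy he =>
    obtain ⟨c, hcG, hcp, hord, hcy, -⟩ := hcyc y hy
    by_cases hk : 2 ≤ TwoFixed.e (G := H) y
    · haveI := hcy
      obtain ⟨f⟩ := D.dihedral he
      exact .dihedral c hcG hcp (hord ▸ hk) ⟨φ.trans (hord ▸ f)⟩
    · -- two elements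
      have hn : Nat.card G = 2 := by
        have := TwoFixed.e_pos (G := H) y
        rw [← hcardH]; omega
      haveI := Fact.mk Nat.prime_two
      haveI : IsCyclic G := isCyclic_of_prime_card hn
      obtain ⟨g, hg⟩ := IsCyclic.exists_generator (α := G)
      have hgo : orderOf (g : ProjGenLinGroup (Fin 2) F) = 2 := by
        rw [Subgroup.orderOf_coe, orderOf_eq_card_of_forall_mem_zpowers hg, hn]
      have hGz : G = Subgroup.zpowers (g : ProjGenLinGroup (Fin 2) F) := by
        refine le_antisymm (fun a ha => ?_) (Subgroup.zpowers_le.mpr g.2)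
        obtain ⟨k, hk⟩ := Subgroup.mem_zpowers_iff.mp (hg ⟨a, ha⟩)
        exact Subgroup.mem_zpowers_iff.mpr ⟨k, by rw [← Subgroup.coe_zpow, hk]⟩
      by_cases hp2 : p = 2
      · obtain ⟨x, hx⟩ := exists_fixed_of_unip p (g := (g : ProjGenLinGroup (Fin 2) F))
          (orderOf_dvd_iff_pow_eq_one.mp (by rw [hgo]; exact hp2.symm.dvd))
        refine .fixed x fun a ha => ?_
        rw [hGz] at ha
        exact (Subgroup.zpowers_le.mpr
          (show (g : ProjGenLinGroup (Fin 2) F) ∈ stabilizer (ProjGenLinGroup (Fin 2) F) x from hx)) ha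
      · exact .cyclic _ hGz (by
          rw [hgo]; exact fun h => hp2 ((Nat.prime_dvd_prime_iff_eq hp.out Nat.prime_two).mp h))
  | twelve y hn he _ =>
    obtain ⟨f⟩ := D.twelve hn he
    exact .a4 ⟨φ.trans f⟩
  | octahedral y hn he hmin _ _ =>
    obtain ⟨f⟩ := D.octahedral hn hmin
    exact .s4 ⟨φ.trans f⟩
  | sixty y hn he _ =>
    obtain ⟨f⟩ := D.sixty hn he
    exact .a5 ⟨φ.trans f⟩
  | affineLine y P t hP hP2 he ho ht =>
    obtain ⟨x, rfl⟩ := hrat y (by omega)
    obtain ⟨A, h, -, hG | ⟨hA, hG⟩⟩ := affineLine_form p G x P t hP hP2 he ho ht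
    · exact .pgl A h hG
    · exact .psl A hA h hG

end CfsgLib.Classical.Dickson
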