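import Mathlib

/-!
# The action of `PGL₂` on the projective line, for Dickson's subgroup classification
-/

set_option autoImplicit false
set_option linter.unusedSectionVars false
set_option linter.style.haveILetI false

namespace CfsgLib.Classical.Dickson

open Matrix OnePoint
open scoped MatrixGroups

variable {K : Type*} [Field K] [DecidableEq K]

theorem scalar_smul_point (u : Kˣ) (x : OnePoint K) :
    Matrix.GeneralLinearGroup.scalar (Fin 2) u • x = x := by
  cases x with
  | infty => simp [smul_infty_eq_ite]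
  | coe k => simp [smul_some_eq_ite]

/-- `PGL₂` acting by Möbius transformations. -/
scoped instance moebiusAction : MulAction (ProjGenLinGroup (Fin 2) K) (OnePoint K) :=
  ProjGenLinGroup.mulActionOfGL scalar_smul_point

theorem mk_smul (g : GL (Fin 2) K) (x : OnePoint K) :
    (ProjGenLinGroup.mk g : ProjGenLinGroup (Fin 2) K) • x = g • x :=
  ProjGenLinGroup.mk_smul scalar_smul_point g x

/-- The affine map `z ↦ a z + b`. -/
def affGL (a : Kˣ) (b : K) : GL (Fin 2) K :=
  GeneralLinearGroup.mkOfDetNeZero !![(a : K), b; 0, 1] (by simp [det_fin_two])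

/-- The affine map as an element of `PGL₂`. -/
def aff (a : Kˣ) (b : K) : ProjGenLinGroup (Fin 2) K := ProjGenLinGroup.mk (affGL a b)

theorem aff_smul_infty (a : Kˣ) (b : K) : aff a b • (∞ : OnePoint K) = ∞ := by
  rw [aff, mk_smul, smul_infty_eq_self_iff]; simp [affGL]

theorem aff_smul_coe (a : Kˣ) (b z : K) :
    aff a b • (z : OnePoint K) = ((a * z + b : K) : OnePoint K) := by
  rw [aff, mk_smul, smul_some_eq_ite]; simp [affGL]

theorem aff_mul (a c : Kˣ) (b d : K) : aff a b * aff c d = aff (a * c) (a * d + b) := by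
  unfold aff
  rw [← map_mul]
  congr 1
  apply Units.ext
  ext i j
  fin_cases i <;> fin_cases j <;> simp [affGL, Matrix.mul_apply, Fin.sum_univ_two]

theorem aff_one : aff (1 : Kˣ) (0 : K) = 1 := by
  unfold aff
  rw [show affGL (1 : Kˣ) (0 : K) = 1 by
    apply Units.ext; ext i j; fin_cases i <;> fin_cases j <;> simp [affGL]]
  exact map_one _

theorem aff_injective {a c : Kˣ} {b d : K} (h : aff a b = aff c d) : a = c ∧ b = d := by
  have h0 := congrArg (· • ((0 : K) : OnePoint K)) h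
  have h1 := congrArg (· • ((1 : K) : OnePoint K)) h
  simp only [aff_smul_coe, coe_eq_coe, mul_zero, zero_add, mul_one] at h0 h1
  subst h0
  exact ⟨Units.ext (add_right_cancel h1), rfl⟩

theorem aff_eq_one_iff {a : Kˣ} {b : K} : aff a b = 1 ↔ a = 1 ∧ b = 0 := by
  constructor
  · intro h; exact aff_injective (h.trans aff_one.symm)
  · rintro ⟨rfl, rfl⟩; exact aff_one

theorem aff_pow (a : Kˣ) (n : ℕ) : ∀ b : K, ∃ c : K, aff a b ^ n = aff (a ^ n) c ∧
    (a = 1 → c = (n : K) * b) := by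
  intro b
  induction n with
  | zero => exact ⟨0, by simp [aff_one], by simp⟩
  | succ n ih =>
    obtain ⟨c, hc, hc'⟩ := ih
    refine ⟨(↑(a ^ n) : K) * b + c, by rw [pow_succ, hc, aff_mul, pow_succ], fun h => ?_⟩
    rw [hc' h, h]; push_cast; simp; ring

theorem exists_aff {g : ProjGenLinGroup (Fin 2) K} (h : g • (∞ : OnePoint K) = ∞) :
    ∃ (a : Kˣ) (b : K), g = aff a b := by
  induction g using ProjGenLinGroup.induction_on with | mk g =>
  rw [mk_smul, smul_infty_eq_self_iff] at h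
  have hd : g 0 0 * g 1 1 ≠ 0 := by
    intro e
    apply g.det_ne_zero
    rw [det_fin_two, h, e]; simp
  obtain ⟨h0, h1⟩ := mul_ne_zero_iff.mp hd
  refine ⟨Units.mk0 (g 0 0 / g 1 1) (div_ne_zero h0 h1), g 0 1 / g 1 1, ?_⟩
  rw [aff, ProjGenLinGroup.mk_eq_mk_iff]
  refine ⟨Units.mk0 (g 1 1)⁻¹ (inv_ne_zero h1), Units.ext ?_⟩
  ext i j
  fin_cases i <;> fin_cases j <;>
    simp [affGL, Matrix.mul_apply, Fin.sum_univ_two, h, div_eq_mul_inv, h1]

theorem exists_to_infty (x : OnePoint K) :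
    ∃ h : ProjGenLinGroup (Fin 2) K, h • (∞ : OnePoint K) = x := by
  cases x with
  | infty => exact ⟨1, one_smul _ _⟩
  | coe k =>
    refine ⟨ProjGenLinGroup.mk (GeneralLinearGroup.mkOfDetNeZero !![k, 1; 1, 0]
      (by simp [det_fin_two])), ?_⟩
    rw [mk_smul, smul_infty_eq_ite]
    simp

/-- Three distinct points can be moved to `∞`, `0`, `1`. -/
theorem exists_move {x y z : OnePoint K} (hxy : x ≠ y) (hxz : x ≠ z) (hyz : y ≠ z) :
    ∃ h : ProjGenLinGroup (Fin 2) K, h • (∞ : OnePoint K) = x ∧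
      h • ((0 : K) : OnePoint K) = y ∧ h • ((1 : K) : OnePoint K) = z := by
  obtain ⟨h, hh⟩ := exists_to_infty x
  obtain ⟨b, hb⟩ : ∃ b : K, h⁻¹ • y = (b : OnePoint K) := by
    cases e : h⁻¹ • y with
    | infty => exact absurd ((inv_smul_eq_iff.mp e).trans hh).symm hxy
    | coe b => exact ⟨b, rfl⟩
  obtain ⟨c, hc⟩ : ∃ c : K, h⁻¹ • z = (c : OnePoint K) := by
    cases e : h⁻¹ • z with
    | infty => exact absurd ((inv_smul_eq_iff.mp e).trans hh).symm hxz
    | coe b => exact ⟨b, rfl⟩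
  have hne : c - b ≠ 0 := by
    intro e
    rw [sub_eq_zero.mp e] at hc
    exact hyz (MulAction.injective h⁻¹ (hb.trans hc.symm))
  refine ⟨h * aff (Units.mk0 _ hne) b, ?_, ?_, ?_⟩
  · rw [mul_smul, aff_smul_infty, hh]
  · rw [mul_smul, aff_smul_coe, mul_zero, zero_add, ← hb, smul_inv_smul]
  · rw [mul_smul, aff_smul_coe, mul_one, Units.val_mk0, sub_add_cancel, ← hc, smul_inv_smul]

theorem eq_one_of_fix_std {g : ProjGenLinGroup (Fin 2) K} (hi : g • (∞ : OnePoint K) = ∞)
    (h0 : g • ((0 : K) : OnePoint K) = ((0 : K) : OnePoint K))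
    (h1 : g • ((1 : K) : OnePoint K) = ((1 : K) : OnePoint K)) : g = 1 := by
  obtain ⟨a, b, rfl⟩ := exists_aff hi
  simp only [aff_smul_coe, coe_eq_coe, mul_zero, zero_add, mul_one] at h0 h1
  subst h0
  exact aff_eq_one_iff.mpr ⟨Units.ext (by simpa using h1), rfl⟩

/-- An element fixing three points is trivial. -/
theorem eq_one_of_fix_three {g : ProjGenLinGroup (Fin 2) K} {x y z : OnePoint K}
    (hxy : x ≠ y) (hxz : x ≠ z) (hyz : y ≠ z) (hx : g • x = x) (hy : g • y = y) (hz : g • z = z) :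
    g = 1 := by
  obtain ⟨h, e1, e2, e3⟩ := exists_move hxy hxz hyz
  have key : ∀ {w v : OnePoint K}, h • w = v → g • v = v → (h⁻¹ * g * h) • w = w := by
    intro w v e e'
    rw [mul_smul, mul_smul, e, e', ← e, inv_smul_smul]
  have := eq_one_of_fix_std (key e1 hx) (key e2 hy) (key e3 hz)
  calc g = h * (h⁻¹ * g * h) * h⁻¹ := by group
    _ = 1 := by rw [this]; group

theorem eq_of_smul_three {g g' : ProjGenLinGroup (Fin 2) K} {x y z : OnePoint K}
    (hxy : x ≠ y) (hxz : x ≠ z) (hyz : y ≠ z) (hx : g • x = g' • x) (hy : g • y = g' • y)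
    (hz : g • z = g' • z) : g = g' := by
  refine (inv_mul_eq_one.mp (eq_one_of_fix_three hxy hxz hyz (g := g⁻¹ * g') ?_ ?_ ?_))
  all_goals rw [mul_smul, inv_smul_eq_iff]
  exacts [hx.symm, hy.symm, hz.symm]

theorem eq_one_of_fix_all [Finite K] {g : ProjGenLinGroup (Fin 2) K}
    (h : ∀ x : OnePoint K, g • x = x) : g = 1 :=
  eq_one_of_fix_std (h _) (h _) (h _)

instance [Finite K] : FaithfulSMul (ProjGenLinGroup (Fin 2) K) (OnePoint K) :=
  ⟨fun {g g'} h => eq_of_smul_three (x := ∞) (y := ((0 : K) : OnePoint K))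
    (z := ((1 : K) : OnePoint K)) (by simp) (by simp) (by simp) (h _) (h _) (h _)⟩

instance finite_pgl [Finite K] : Finite (ProjGenLinGroup (Fin 2) K) :=
  Finite.of_surjective _ ProjGenLinGroup.mk_surjective

instance finite_points [Finite K] : Finite (OnePoint K) :=
  inferInstanceAs (Finite (Option K))

theorem natCard_points [Finite K] : Nat.card (OnePoint K) = Nat.card K + 1 := by
  haveI := Fintype.ofFinite K
  rw [Nat.card_eq_fintype_card, Nat.card_eq_fintype_card]
  exact Fintype.card_option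

section Char

variable (p : ℕ) [hp : Fact p.Prime] [CharP K p]

theorem aff_pow_char_eq_one_iff (a : Kˣ) (b : K) : aff a b ^ p = 1 ↔ a = 1 := by
  obtain ⟨c, hc, hc'⟩ := aff_pow a p b
  rw [hc, aff_eq_one_iff]
  constructor
  · rintro ⟨h, -⟩
    have : ((a : K) - 1) ^ p = 0 := by
      rw [sub_pow_char, one_pow, sub_eq_zero]
      simpa using congrArg (fun u : Kˣ => (u : K)) h
    exact Units.ext (by simpa [sub_eq_zero] using eq_zero_of_pow_eq_zero this)
  · intro h
    exact ⟨by simp [h], by simp [hc' h]⟩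

theorem fix_of_unip {g : ProjGenLinGroup (Fin 2) K} (h1 : g ≠ 1) (hg : g ^ p = 1)
    {x y : OnePoint K} (hx : g • x = x) (hy : g • y = y) : y = x := by
  obtain ⟨h, e⟩ := exists_to_infty x
  have hi : (h⁻¹ * g * h) • (∞ : OnePoint K) = ∞ := by rw [mul_smul, mul_smul, e, hx, ← e, inv_smul_smul]
  obtain ⟨a, b, hab⟩ := exists_aff hi
  have hpow : aff a b ^ p = 1 := by
    rw [← hab, show h⁻¹ * g * h = MulAut.conj h⁻¹ g by simp, ← map_pow, hg, map_one]
  obtain rfl := (aff_pow_char_eq_one_iff p a b).mp hpow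
  have hb : b ≠ 0 := by
    intro e'
    rw [e', aff_one] at hab
    exact h1 (calc g = h * (h⁻¹ * g * h) * h⁻¹ := by group
      _ = 1 := by rw [hab]; group)
  by_contra hne
  obtain ⟨k, hk⟩ : ∃ k : K, h⁻¹ • y = (k : OnePoint K) := by
    cases e' : h⁻¹ • y with
    | infty => exact absurd ((inv_smul_eq_iff.mp e').trans e) hne
    | coe b => exact ⟨b, rfl⟩
  have : (h⁻¹ * g * h) • (h⁻¹ • y) = h⁻¹ • y := by
    rw [mul_smul, mul_smul, smul_inv_smul, hy]
  rw [hk, hab, aff_smul_coe, coe_eq_coe] at this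
  simp at this
  exact hb this

theorem two_fix_of_not_unip {g : ProjGenLinGroup (Fin 2) K} (hg : g ^ p ≠ 1) {x : OnePoint K}
    (hx : g • x = x) : ∃ y, y ≠ x ∧ g • y = y := by
  obtain ⟨h, e⟩ := exists_to_infty x
  have hi : (h⁻¹ * g * h) • (∞ : OnePoint K) = ∞ := by rw [mul_smul, mul_smul, e, hx, ← e, inv_smul_smul]
  obtain ⟨a, b, hab⟩ := exists_aff hi
  have hgeq : g = h * aff a b * h⁻¹ := by rw [← hab]; group
  have ha : a ≠ 1 := by
    intro e'
    apply hg
    rw [hgeq, show h * aff a b * h⁻¹ = MulAut.conj h (aff a b) by simp, ← map_pow,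
      (aff_pow_char_eq_one_iff p a b).mpr e', map_one]
  have hne : (1 : K) - a ≠ 0 := fun e' => ha (Units.ext (sub_eq_zero.mp e').symm)
  refine ⟨h • ((b / (1 - a) : K) : OnePoint K), ?_, ?_⟩
  · rw [← e]; exact fun e' => infty_ne_coe _ (MulAction.injective h e').symm
  · rw [hgeq, mul_smul, mul_smul, inv_smul_smul, aff_smul_coe]
    congr 2
    field_simp
    ring

theorem unip_mul {g g' : ProjGenLinGroup (Fin 2) K} {x : OnePoint K} (hx : g • x = x)
    (hx' : g' • x = x) (hg : g ^ p = 1) (hg' : g' ^ p = 1) :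
    (g * g') ^ p = 1 ∧ g * g' = g' * g := by
  obtain ⟨h, e⟩ := exists_to_infty x
  have hi : ∀ u : ProjGenLinGroup (Fin 2) K, u • x = x →
      (h⁻¹ * u * h) • (∞ : OnePoint K) = ∞ := fun u hu => by
    rw [mul_smul, mul_smul, e, hu, ← e, inv_smul_smul]
  obtain ⟨a, b, hab⟩ := exists_aff (hi g hx)
  obtain ⟨a', b', hab'⟩ := exists_aff (hi g' hx')
  have hconj : ∀ u : ProjGenLinGroup (Fin 2) K, h⁻¹ * u * h = MulAut.conj h⁻¹ u := by simp
  rw [hconj] at hab hab'
  obtain rfl : a = 1 := (aff_pow_char_eq_one_iff p a b).mp (by rw [← hab, ← map_pow, hg, map_one])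
  obtain rfl : a' = 1 := (aff_pow_char_eq_one_iff p a' b').mp
    (by rw [← hab', ← map_pow, hg', map_one])
  constructor
  · apply (MulAut.conj h⁻¹).injective
    rw [map_pow, map_mul, hab, hab', aff_mul, map_one]
    exact (aff_pow_char_eq_one_iff p _ _).mpr (one_mul _)
  · apply (MulAut.conj h⁻¹).injective
    rw [map_mul, map_mul, hab, hab', aff_mul, aff_mul]
    congr 1
    push_cast; ring

end Char

theorem eq_or_eq_of_fix {g : ProjGenLinGroup (Fin 2) K} (h1 : g ≠ 1) {x y z : OnePoint K}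
    (hxy : x ≠ y) (hx : g • x = x) (hy : g • y = y) (hz : g • z = z) : z = x ∨ z = y := by
  by_contra h
  push Not at h
  exact h1 (eq_one_of_fix_three hxy h.1.symm h.2.symm hx hy hz)

end CfsgLib.Classical.Dickson
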