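import Mathlib

/-!
# Orbit counting for finite groups acting like subgroups of `PGL₂`
-/

set_option autoImplicit false
set_option linter.unusedSectionVars false
set_option linter.style.haveILetI false

namespace CfsgLib.Classical.Dickson

open MulAction

variable (G : Type*) [Group G] [Finite G] (X : Type*) [MulAction G X] [Finite X]

/-- An action in which every nontrivial element has two fixed points, a unipotent one counting twice
through `Q`. -/
structure TwoFixed where
  /-- unipotent part of the stabiliser -/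
  Q : X → Subgroup G
  le_stab : ∀ x, Q x ≤ stabilizer G x
  two : ∀ g : G, g ≠ 1 → Nat.card {x : X // g • x = x} + Nat.card {x : X // g ∈ Q x} = 2
  conj : ∀ (g : G) (x : X), Nat.card (Q (g • x)) = Nat.card (Q x)
  dvd : ∀ x, Nat.card (Q x) ≠ 1 → ∃ t, Nat.card (stabilizer G x) = Nat.card (Q x) * t ∧
    t ∣ Nat.card (Q x) - 1

variable {G X}

namespace TwoFixed

variable (D : TwoFixed G X)

/-- stabiliser order -/
noncomputable def e (x : X) : ℕ := Nat.card (stabilizer G x)

/-- orbit size -/
noncomputable def o (x : X) : ℕ := Nat.card (orbit G x)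

theorem o_mul_e (x : X) : o (G := G) x * e (G := G) x = Nat.card G := by
  rw [o, e, Nat.card_congr (orbitEquivQuotientStabilizer G x), ← Subgroup.card_eq_card_quotient_mul_card_subgroup]

theorem e_pos (x : X) : 0 < e (G := G) x := Nat.card_pos

theorem o_pos (x : X) : 0 < o (G := G) x := by
  haveI : Nonempty (orbit G x) := ⟨⟨x, mem_orbit_self x⟩⟩
  exact Nat.card_pos

theorem e_smul (g : G) (x : X) : e (G := G) (g • x) = e (G := G) x :=
  Nat.card_congr (MulAction.stabilizerEquivStabilizerOfOrbitRel
    (show (orbitRel G X) (g • x) x from mem_orbit x g)).toEquiv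

/-- weight -/
noncomputable def w (x : X) : ℕ := (e (G := G) x - 1) + (Nat.card (D.Q x) - 1)

theorem w_smul (g : G) (x : X) : D.w (g • x) = D.w x := by
  rw [w, w, e_smul, D.conj]

theorem eq_of_mem_Q {g : G} (h1 : g ≠ 1) {x y : X} (hg : g ∈ D.Q x) (hy : g • y = y) : y = x := by
  have h := D.two g h1
  have hx : g • x = x := D.le_stab x hg
  haveI : Nonempty {z : X // g • z = z} := ⟨⟨x, hx⟩⟩
  haveI : Nonempty {z : X // g ∈ D.Q z} := ⟨⟨x, hg⟩⟩
  have h1 : Nat.card {z : X // g • z = z} = 1 := by
    have := Nat.card_pos (α := {z : X // g • z = z})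
    have := Nat.card_pos (α := {z : X // g ∈ D.Q z})
    omega
  have := (Nat.card_eq_one_iff_unique.mp h1).1
  exact congrArg Subtype.val (Subsingleton.elim (⟨y, hy⟩ : {z : X // g • z = z}) ⟨x, hx⟩)

theorem sum_w [Fintype X] : ∑ x : X, D.w x = 2 * (Nat.card G - 1) := by
  classical
  haveI := Fintype.ofFinite G
  set s := (Finset.univ : Finset G).erase 1
  have hH : ∀ H : Subgroup G, Nat.card H - 1 = (s.filter (· ∈ H)).card := by
    intro H
    have : s.filter (· ∈ H) = ((Finset.univ : Finset G).filter (· ∈ H)).erase 1 := by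
      ext g; simp [s]
    rw [this, Finset.card_erase_of_mem (by simp [one_mem H]), Nat.card_eq_fintype_card,
      Fintype.card_subtype]
  simp only [w, e, hH]
  rw [Finset.sum_add_distrib]
  simp only [Finset.card_filter]
  rw [Finset.sum_comm, Finset.sum_comm (f := fun x g => if g ∈ D.Q x then 1 else 0),
    ← Finset.sum_add_distrib]
  rw [Finset.sum_congr rfl (g := fun _ => 2) ?_]
  · rw [Finset.sum_const, Finset.card_erase_of_mem (Finset.mem_univ _), Finset.card_univ,
      Nat.card_eq_fintype_card, smul_eq_mul, mul_comm]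
  · intro g hg
    rw [← D.two g (Finset.ne_of_mem_erase hg), Nat.card_eq_fintype_card, Nat.card_eq_fintype_card,
      Fintype.card_subtype, Fintype.card_subtype, Finset.card_filter, Finset.card_filter]
    simp only [mem_stabilizer_iff]

theorem sum_orbit [Fintype X] [DecidableEq X] (x : X) (S : Finset X)
    (hS : ∀ y, y ∈ S ↔ y ∈ orbit G x) : ∑ y ∈ S, D.w y = o (G := G) x * D.w x := by
  rw [Finset.sum_congr rfl (g := fun _ => D.w x) ?_]
  · rw [Finset.sum_const, smul_eq_mul]
    congr 1
    rw [o, ← Nat.card_eq_finsetCard]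
    exact Nat.card_congr (Equiv.subtypeEquivRight hS)
  · intro y hy
    obtain ⟨g, rfl⟩ := (hS y).mp hy
    exact D.w_smul g x

theorem w_eq_zero {x : X} (h : e (G := G) x = 1) : D.w x = 0 := by
  have : Nat.card (D.Q x) ≤ 1 := h ▸ Subgroup.card_le_of_le (D.le_stab x)
  rw [w, h]; omega

theorem semireg {x : X} : Nat.card (D.Q x) ∣ o (G := G) x - 1 := by
  classical
  haveI := Fintype.ofFinite X
  let Y := {y : X // y ∈ orbit G x ∧ y ≠ x}
  letI : MulAction (D.Q x) Y :=
    { smul := fun q y => ⟨(q : G) • y.1, MulAction.mem_orbit_of_mem_orbit (q : G) y.2.1,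
        fun h => y.2.2 (MulAction.injective (q : G) (h.trans (D.le_stab x q.2).symm))⟩
      one_smul := fun y => Subtype.ext (one_smul G y.1)
      mul_smul := fun a b y => Subtype.ext (mul_smul (a : G) b y.1) }
  have hfree : ∀ y : Y, stabilizer (D.Q x) y = ⊥ := by
    intro y
    rw [eq_bot_iff]
    intro q hq
    rw [Subgroup.mem_bot]
    by_contra h
    exact y.2.2 (D.eq_of_mem_Q (fun e => h (Subtype.ext e)) q.2 (congrArg Subtype.val hq))
  haveI := Fintype.ofFinite Y
  have hY : Nat.card Y = o (G := G) x - 1 := by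
    rw [o, Nat.card_eq_fintype_card, Nat.card_eq_fintype_card, Fintype.card_subtype]
    rw [show ((Finset.univ : Finset X).filter fun y => y ∈ orbit G x ∧ y ≠ x) =
      ((Finset.univ : Finset X).filter fun y => y ∈ orbit G x).erase x by ext; simp [and_comm]]
    rw [Finset.card_erase_of_mem (by simp), Fintype.card_subtype]
  rw [← hY]
  rw [Nat.card_congr (selfEquivSigmaOrbitsQuotientStabilizer (D.Q x) Y)]
  rw [Nat.card_sigma]
  refine Finset.dvd_sum fun ω _ => ?_
  rw [hfree, ← Subgroup.index, Subgroup.index_bot]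

theorem unip_arith {P f t e : ℕ} (hP : 2 ≤ P) (hf : 1 ≤ f) (ht : t ∣ P - 1)
    (h : e * ((1 + f * P) * (P - 2) + 2) = (1 + f * P) * P * t) :
    (P = 2 ∧ t = 1 ∧ e = 1 + f * P) ∨ (P = 3 ∧ t = 2 ∧ f = 3) ∨
      (f = 1 ∧ (t = P - 1 ∨ 2 * t = P - 1)) := by
  have htle : t ≤ P - 1 := Nat.le_of_dvd (by omega) ht
  obtain ⟨R, rfl⟩ : ∃ R, P = R + 2 := ⟨P - 2, by omega⟩
  rw [Nat.add_sub_cancel] at h
  rw [show R + 2 - 1 = R + 1 by omega] at *
  have h' : e * (1 + f * R) = (1 + f * (R + 2)) * t := by
    apply Nat.eq_of_mul_eq_mul_right (show 0 < R + 2 by omega)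
    linarith
  have hdiv : 1 + f * R ∣ 2 * t := by
    have h1 : 1 + f * R ∣ (1 + f * R) * t + 2 * f * t := ⟨e, by linarith⟩
    have h2 := (Nat.dvd_add_right (dvd_mul_right _ t)).mp h1
    have hco : Nat.Coprime (1 + f * R) f := by simp
    exact hco.dvd_of_dvd_mul_right (by rwa [mul_right_comm] at h2)
  have ht0 : 0 < t := Nat.pos_of_dvd_of_pos ht (by omega)
  have hle : 1 + f * R ≤ 2 * t := Nat.le_of_dvd (by omega) hdiv
  match R with
  | 0 =>
    left
    have ht1 : t = 1 := by omega
    exact ⟨rfl, ht1, by rw [ht1] at h'; simpa using h'⟩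
  | 1 =>
    have : f ≤ 3 := by omega
    have : t ≤ 2 := by omega
    right
    interval_cases f <;> interval_cases t <;> simp at hdiv ⊢
  | R + 2 =>
    right; right
    have hf2 : f ≤ 2 := by
      by_contra hh
      have : 3 * (R + 2) ≤ f * (R + 2) := Nat.mul_le_mul_right _ (by omega)
      omega
    obtain ⟨c, hc⟩ := hdiv
    obtain ⟨d, hd⟩ := ht
    have hc1 : 1 ≤ c := Nat.pos_of_ne_zero fun e0 => by simp [e0] at hc; omega
    have hd1 : 1 ≤ d := Nat.pos_of_ne_zero fun e0 => by simp [e0] at hd
    rcases (show f = 1 ∨ f = 2 by omega) with rfl | rfl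
    · refine ⟨rfl, ?_⟩
      have hcd : c * d = 2 := by
        apply Nat.eq_of_mul_eq_mul_left (show 0 < R + 2 + 1 by omega)
        have : (1 + 1 * (R + 2)) * c * d = 2 * (t * d) := by rw [← hc]; ring
        rw [← hd] at this
        linarith
      have : c ≤ 2 := Nat.le_of_dvd (by norm_num) ⟨d, hcd.symm⟩
      interval_cases c <;> omega
    · exfalso
      have hc2 : c = 1 := by
        by_contra hh
        have : (1 + 2 * (R + 2)) * 2 ≤ (1 + 2 * (R + 2)) * c := Nat.mul_le_mul_left _ (by omega)
        omega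
      subst hc2
      omega

theorem three_arith {n o₁ o₂ o₃ e₁ e₂ e₃ : ℕ} (h1 : o₁ * e₁ = n) (h2 : o₂ * e₂ = n)
    (h3 : o₃ * e₃ = n) (ha : 2 ≤ e₁) (hab : e₁ ≤ e₂) (hbc : e₂ ≤ e₃) (hn : 0 < n)
    (h : n - o₁ + (n - o₂) + (n - o₃) = 2 * (n - 1)) :
    2 * e₃ = n ∨ (e₁ = 2 ∧ e₂ = 3 ∧ ((e₃ = 3 ∧ n = 12) ∨ (e₃ = 4 ∧ n = 24) ∨ (e₃ = 5 ∧ n = 60))) := by
  have l1 : o₁ * 2 ≤ n := h1 ▸ Nat.mul_le_mul_left _ ha
  have l2 : o₂ * e₁ ≤ n := h2 ▸ Nat.mul_le_mul_left _ hab
  have l3 : o₃ * e₂ ≤ n := h3 ▸ Nat.mul_le_mul_left _ hbc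
  have hs : o₁ + o₂ + o₃ = n + 2 := by
    have : o₂ * 2 ≤ n := (Nat.mul_le_mul_left _ ha).trans l2
    have : o₃ * 2 ≤ n := (Nat.mul_le_mul_left _ (ha.trans hab)).trans l3
    omega
  have he1 : e₁ = 2 := by
    by_contra hne
    have : o₁ * 3 ≤ n := h1 ▸ Nat.mul_le_mul_left _ (by omega)
    have : o₂ * 3 ≤ n := h2 ▸ Nat.mul_le_mul_left _ (by omega)
    have : o₃ * 3 ≤ n := h3 ▸ Nat.mul_le_mul_left _ (by omega)
    omega
  subst he1
  have he2 : e₂ ≤ 3 := by
    by_contra hne
    have : o₂ * 4 ≤ n := h2 ▸ Nat.mul_le_mul_left _ (by omega)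
    have : o₃ * 4 ≤ n := h3 ▸ Nat.mul_le_mul_left _ (by omega)
    omega
  interval_cases e₂
  · left
    obtain rfl : o₃ = 2 := by omega
    exact h3
  · right
    refine ⟨rfl, rfl, ?_⟩
    have he3 : e₃ < 6 := by
      by_contra hne
      have : o₃ * 6 ≤ n := h3 ▸ Nat.mul_le_mul_left _ (by omega)
      omega
    interval_cases e₃ <;> omega

/-- The possible shapes: `R` records the data needed downstream. -/
inductive Shape : Prop
  | fixed (x : X) (he : e (G := G) x = Nat.card G)
  | half (hU : ∀ x, Nat.card (D.Q x) ≤ 2) (y : X) (hy : Nat.card (D.Q y) = 1)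
      (he : 2 * e (G := G) y = Nat.card G)
  | twelve (y : X) (hn : Nat.card G = 12) (he : e (G := G) y = 3)
      (hQ : ∀ x, Nat.card (D.Q x) = 1)
  | octahedral (y : X) (hn : Nat.card G = 24) (he : e (G := G) y = 3)
      (hmin : ∀ x : X, e (G := G) x ≠ 1 → 6 ≤ o (G := G) x)
      (huniq : ∀ x : X, 3 ∣ e (G := G) x → x ∈ orbit G y)
      (hQ : ∀ x, Nat.card (D.Q x) = 1)
  | sixty (y : X) (hn : Nat.card G = 60) (he : e (G := G) y = 5)
      (hQ : ∀ x, Nat.card (D.Q x) = 1 ∨ Nat.card (D.Q x) = 3)
  | affineLine (x : X) (P t : ℕ) (hP : Nat.card (D.Q x) = P) (hP2 : 2 ≤ P)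
      (he : e (G := G) x = P * t) (ho : o (G := G) x = P + 1)
      (ht : t = P - 1 ∨ 2 * t = P - 1)

theorem Q_bound_of {x : X} {k : ℕ} (hx : ∀ y, 1 < Nat.card (D.Q y) → y ∈ orbit G x)
    (hk : Nat.card (D.Q x) ≤ k) (hk1 : 1 ≤ k) (y : X) : Nat.card (D.Q y) ≤ k := by
  by_cases h : 1 < Nat.card (D.Q y)
  · obtain ⟨g, rfl⟩ := hx y h
    exact (D.conj g x).trans_le hk
  · omega

theorem shape (hG : 1 < Nat.card G) : D.Shape := by
  classical
  haveI := Fintype.ofFinite X
  set n := Nat.card G with hn
  have hT := D.sum_w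
  let O : X → Finset X := fun x => Finset.univ.filter (· ∈ orbit G x)
  have hO : ∀ x y, y ∈ O x ↔ y ∈ orbit G x := by simp [O]
  have hsum : ∀ x, ∑ y ∈ O x, D.w y = o (G := G) x * D.w x := fun x => D.sum_orbit x _ (hO x)
  have hdisj : ∀ {x y : X}, y ∉ orbit G x → Disjoint (O x) (O y) := by
    intro x y h
    rw [Finset.disjoint_left]
    intro z hz hz'
    rw [hO, ← orbit_eq_iff] at hz hz'
    exact h (hz ▸ hz'.symm ▸ mem_orbit_self y)
  -- semisimple points contribute at least half
  have hss : ∀ y, Nat.card (D.Q y) = 1 → o (G := G) y * D.w y = n - o (G := G) y := by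
    intro y hy
    rw [w, hy, Nat.sub_self, add_zero, Nat.mul_sub, o_mul_e, mul_one]
  have hhalf : ∀ y : X, 2 ≤ e (G := G) y → o (G := G) y * 2 ≤ n :=
    fun y hy => (Nat.mul_le_mul_left _ hy).trans_eq (o_mul_e y)
  by_cases hU : ∃ x, 1 < Nat.card (D.Q x)
  · obtain ⟨x, hx⟩ := hU
    obtain ⟨t, het, ht⟩ := D.dvd x (by omega)
    set P := Nat.card (D.Q x) with hP
    have het' : e (G := G) x = P * t := het
    have ht0 : 0 < t := Nat.pos_of_dvd_of_pos ht (by omega)
    have c1 : o (G := G) x * D.w x + o (G := G) x * 2 = n + o (G := G) x * P := by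
      rw [w, ← hP, hn, ← o_mul_e (G := G) x, ← mul_add, ← mul_add]
      congr 1
      have := e_pos (G := G) x
      omega
    have hxbig : n ≤ o (G := G) x * D.w x := by
      have : o (G := G) x * 2 ≤ o (G := G) x * P := Nat.mul_le_mul_left _ hx
      omega
    have hone : ∀ y, 1 < Nat.card (D.Q y) → y ∈ orbit G x := by
      intro y hy
      by_contra hne
      have h2 : n ≤ o (G := G) y * D.w y := by
        rw [w, hn, ← o_mul_e (G := G) y]
        apply Nat.mul_le_mul_left
        omega
      have := Finset.sum_le_univ_sum_of_nonneg (s := O x ∪ O y) (f := D.w) (fun _ => Nat.zero_le _)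
      rw [Finset.sum_union (hdisj hne), hsum, hsum, hT] at this
      omega
    by_cases hN : o (G := G) x = 1
    · exact .fixed x (by have := o_mul_e (G := G) x; rwa [hN, one_mul] at this)
    by_cases hy : ∃ y, y ∉ orbit G x ∧ 2 ≤ e (G := G) y
    · obtain ⟨y, hyx, hey⟩ := hy
      have hQy : Nat.card (D.Q y) = 1 := by
        have := Nat.card_pos (α := D.Q y)
        by_contra h
        exact hyx (hone y (by omega))
      have hall : ∀ z, z ∉ orbit G x → z ∉ orbit G y → D.w z = 0 := by
        intro z hzx hzy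
        by_contra hz
        have hez : 2 ≤ e (G := G) z := by
          by_contra h
          exact hz (D.w_eq_zero (by have := e_pos (G := G) z; omega))
        have hQz : Nat.card (D.Q z) = 1 := by
          have := Nat.card_pos (α := D.Q z)
          by_contra h
          exact hzx (hone z (by omega))
        have := Finset.sum_le_univ_sum_of_nonneg (s := (O x ∪ O y) ∪ O z) (f := D.w)
          (fun _ => Nat.zero_le _)
        rw [Finset.sum_union (Finset.disjoint_union_left.mpr ⟨hdisj hzx, hdisj hzy⟩),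
          Finset.sum_union (hdisj hyx), hsum, hsum, hsum, hT, hss y hQy, hss z hQz] at this
        have := hhalf y hey
        have := hhalf z hez
        omega
      have heq : ∑ z ∈ O x ∪ O y, D.w z = 2 * (n - 1) := by
        rw [← hT]
        refine Finset.sum_subset (Finset.subset_univ _) fun z _ hz => ?_
        simp only [Finset.mem_union, hO, not_or] at hz
        exact hall z hz.1 hz.2
      rw [Finset.sum_union (hdisj hyx), hsum, hsum, hss y hQy] at heq
      have ho2 : o (G := G) y + o (G := G) x * 2 = o (G := G) x * P + 2 := by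
        have := hhalf y hey
        omega
      obtain ⟨f, hf⟩ := D.semireg (x := x)
      rw [← hP] at hf
      have := o_pos (G := G) x
      have hN' : o (G := G) x = 1 + f * P := by rw [mul_comm]; omega
      have hf1 : 1 ≤ f := Nat.pos_of_ne_zero fun e0 => hN (by rw [hN', e0]; simp)
      have key : e (G := G) y * ((1 + f * P) * (P - 2) + 2) = (1 + f * P) * P * t := by
        have hoy : o (G := G) y = o (G := G) x * (P - 2) + 2 := by
          rw [Nat.mul_sub]
          have : o (G := G) x * 2 ≤ o (G := G) x * P := Nat.mul_le_mul_left _ hx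
          omega
        rw [← hN', ← hoy, mul_comm, o_mul_e, ← o_mul_e (G := G) x, het']
        ring
      rcases unip_arith hx hf1 ht key with ⟨hP', ht', he⟩ | ⟨hP', ht', hf'⟩ | ⟨hf', ht'⟩
      · refine .half (D.Q_bound_of hone hP'.le one_le_two) y hQy ?_
        rw [he, ← o_mul_e (G := G) x, het', hN', hP', ht']
        ring
      · refine .sixty y ?_ ?_ (fun u => ?_)
        · rw [← o_mul_e (G := G) x, het', hN', hP', ht', hf']
        · rw [hP', ht', hf'] at key
          omega
        · by_cases hu : 1 < Nat.card (D.Q u)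
          · obtain ⟨g, rfl⟩ := hone u hu
            exact Or.inr ((D.conj g x).trans (hP.symm.trans hP'))
          · have := Nat.card_pos (α := D.Q u)
            exact Or.inl (by omega)
      · exact .affineLine x P t hP.symm hx het' (by rw [hN', hf']; ring) ht'
    · exfalso
      push Not at hy
      have heq : ∑ z ∈ O x, D.w z = 2 * (n - 1) := by
        rw [← hT]
        refine Finset.sum_subset (Finset.subset_univ _) fun z _ hz => ?_
        have := e_pos (G := G) z
        have := hy z ((hO x z).not.mp hz)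
        exact D.w_eq_zero (by omega)
      rw [hsum] at heq
      have hn' : n = o (G := G) x * (P * t) := by rw [← het', o_mul_e]
      have : o (G := G) x * P ≤ o (G := G) x * (P * t) :=
        Nat.mul_le_mul_left _ (Nat.le_mul_of_pos_right _ ht0)
      have := o_pos (G := G) x
      omega
  · push Not at hU
    have hQ : ∀ y, Nat.card (D.Q y) = 1 := fun y => le_antisymm (hU y) Nat.card_pos
    obtain ⟨x, hx⟩ : ∃ x, D.w x ≠ 0 := by
      by_contra h
      push Not at h
      rw [Finset.sum_eq_zero fun x _ => h x] at hT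
      omega
    have he2 : ∀ {z}, D.w z ≠ 0 → 2 ≤ e (G := G) z := by
      intro z hz
      by_contra h
      exact hz (D.w_eq_zero (by have := e_pos (G := G) z; omega))
    obtain ⟨y, hy, hyx⟩ : ∃ y, D.w y ≠ 0 ∧ y ∉ orbit G x := by
      by_contra h
      push Not at h
      have heq : ∑ z ∈ O x, D.w z = 2 * (n - 1) := by
        rw [← hT]
        refine Finset.sum_subset (Finset.subset_univ _) fun z _ hz => ?_
        by_contra hw
        exact (hO x z).not.mp hz (h z hw)
      rw [hsum, hss x (hQ x)] at heq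
      have := o_pos (G := G) x
      omega
    by_cases hz : ∃ z, D.w z ≠ 0 ∧ z ∉ orbit G x ∧ z ∉ orbit G y
    · obtain ⟨z, hz, hzx, hzy⟩ := hz
      have hd : Disjoint (O x ∪ O y) (O z) :=
        Finset.disjoint_union_left.mpr ⟨hdisj hzx, hdisj hzy⟩
      have hall : ∀ u, 2 ≤ e (G := G) u → u ∈ orbit G x ∨ u ∈ orbit G y ∨ u ∈ orbit G z := by
        intro u hu
        by_contra h
        push Not at h
        have := Finset.sum_le_univ_sum_of_nonneg (s := ((O x ∪ O y) ∪ O z) ∪ O u) (f := D.w)
          (fun _ => Nat.zero_le _)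
        rw [Finset.sum_union (Finset.disjoint_union_left.mpr
          ⟨Finset.disjoint_union_left.mpr ⟨hdisj h.1, hdisj h.2.1⟩, hdisj h.2.2⟩),
          Finset.sum_union hd, Finset.sum_union (hdisj hyx), hsum, hsum, hsum, hsum, hT,
          hss x (hQ x), hss y (hQ y), hss z (hQ z), hss u (hQ u)] at this
        have := hhalf x (he2 hx)
        have := hhalf y (he2 hy)
        have := hhalf z (he2 hz)
        have := hhalf u hu
        omega
      have heq : ∑ u ∈ (O x ∪ O y) ∪ O z, D.w u = 2 * (n - 1) := by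
        rw [← hT]
        refine Finset.sum_subset (Finset.subset_univ _) fun u _ hu => ?_
        simp only [Finset.mem_union, hO, not_or] at hu
        by_contra hw
        rcases hall u (he2 hw) with h | h | h
        exacts [hu.1.1 h, hu.1.2 h, hu.2 h]
      rw [Finset.sum_union hd, Finset.sum_union (hdisj hyx), hsum, hsum, hsum, hss x (hQ x),
        hss y (hQ y), hss z (hQ z)] at heq
      have main : ∀ a b c : X, (∀ u, 2 ≤ e (G := G) u → u ∈ orbit G a ∨ u ∈ orbit G b ∨ u ∈ orbit G c) →
          n - o (G := G) a + (n - o (G := G) b) + (n - o (G := G) c) = 2 * (n - 1) →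
          2 ≤ e (G := G) a → e (G := G) a ≤ e (G := G) b → e (G := G) b ≤ e (G := G) c →
          D.Shape := by
        intro a b c hall h ha hab hbc
        rcases three_arith (o_mul_e a) (o_mul_e b) (o_mul_e c) ha hab hbc (by omega) h with
          h' | ⟨hea, heb, ⟨hec, h'⟩ | ⟨hec, h'⟩ | ⟨hec, h'⟩⟩
        · exact .half (fun u => (hU u).trans one_le_two) c (hQ c) h'
        · exact .twelve c h' hec hQ
        · refine .octahedral b h' heb (fun u hu => ?_) (fun u hu => ?_) hQ
          · have hu2 : 2 ≤ e (G := G) u := by have := e_pos (G := G) u; omega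
            have hle : e (G := G) u ≤ 4 := by
              rcases hall u hu2 with ⟨g, rfl⟩ | ⟨g, rfl⟩ | ⟨g, rfl⟩ <;> rw [e_smul] <;> omega
            have := o_mul_e (G := G) u
            rw [h'] at this
            have : o (G := G) u * e (G := G) u ≤ o (G := G) u * 4 := Nat.mul_le_mul_left _ hle
            omega
          · have hu2 : 2 ≤ e (G := G) u := by
              have := e_pos (G := G) u
              have := Nat.le_of_dvd this hu
              omega
            rcases hall u hu2 with ⟨g, rfl⟩ | h | ⟨g, rfl⟩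
            · rw [e_smul, hea] at hu; omega
            · exact h
            · rw [e_smul, hec] at hu; omega
        · exact .sixty c h' hec (fun u => Or.inl (hQ u))
      have hA : ∀ u, 2 ≤ e (G := G) u → u ∈ orbit G x ∨ u ∈ orbit G y ∨ u ∈ orbit G z := hall
      rcases le_total (e (G := G) x) (e (G := G) y) with h1 | h1 <;>
        rcases le_total (e (G := G) y) (e (G := G) z) with h2 | h2 <;>
        rcases le_total (e (G := G) x) (e (G := G) z) with h3 | h3
      all_goals first
        | exact main x y z hall (by omega) (he2 hx) h1 h2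
        | exact main x z y (fun u hu => by have := hall u hu; tauto) (by omega) (he2 hx) h3 h2
        | exact main y x z (fun u hu => by have := hall u hu; tauto) (by omega) (he2 hy) h1 h3
        | exact main y z x (fun u hu => by have := hall u hu; tauto) (by omega) (he2 hy) h2 h3
        | exact main z x y (fun u hu => by have := hall u hu; tauto) (by omega) (he2 hz) h3 h1
        | exact main z y x (fun u hu => by have := hall u hu; tauto) (by omega) (he2 hz) h2 h1
    · push Not at hz
      have heq : ∑ u ∈ O x ∪ O y, D.w u = 2 * (n - 1) := by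
        rw [← hT]
        refine Finset.sum_subset (Finset.subset_univ _) fun u _ hu => ?_
        simp only [Finset.mem_union, hO, not_or] at hu
        by_contra hw
        exact hu.2 (hz u hw hu.1)
      rw [Finset.sum_union (hdisj hyx), hsum, hsum, hss x (hQ x), hss y (hQ y)] at heq
      have := hhalf x (he2 hx)
      have := hhalf y (he2 hy)
      have ho : o (G := G) x = 1 := by
        have := o_pos (G := G) x
        have := o_pos (G := G) y
        omega
      refine .fixed x ?_
      have := o_mul_e (G := G) x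
      rwa [ho, one_mul] at this

end TwoFixed

end CfsgLib.Classical.Dickson
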