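import Cfsg.Agent.Lib.Classical.Dickson.Moebius
import Cfsg.Agent.Lib.Classical.Dickson.Count

/-!
# Subgroups of `PGL₂` whose elements all have fixed points
-/

set_option autoImplicit false
set_option linter.unusedSectionVars false
set_option linter.style.haveILetI false

namespace CfsgLib.Classical.Dickson

open Matrix OnePoint MulAction
open scoped MatrixGroups

variable {E : Type*} [Field E] [DecidableEq E] (p : ℕ) [hp : Fact p.Prime] [CharP E p]

local notation "PG" => ProjGenLinGroup (Fin 2) E

/-- The multiplier of an element of the stabiliser of `∞`. -/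
noncomputable def multi : stabilizer PG (∞ : OnePoint E) →* Eˣ where
  toFun g := (exists_aff g.2).choose
  map_one' := by
    obtain ⟨b, hb⟩ := (exists_aff (1 : stabilizer PG (∞ : OnePoint E)).2).choose_spec
    exact (aff_eq_one_iff.mp hb.symm).1
  map_mul' g g' := by
    obtain ⟨b, hb⟩ := (exists_aff g.2).choose_spec
    obtain ⟨b', hb'⟩ := (exists_aff g'.2).choose_spec
    obtain ⟨b'', hb''⟩ := (exists_aff (g * g').2).choose_spec
    exact (aff_injective (hb''.symm.trans ((congrArg₂ (· * ·) hb hb').trans (aff_mul _ _ _ _)))).1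

theorem multi_spec (g : stabilizer PG (∞ : OnePoint E)) : ∃ b : E, (g : PG) = aff (multi g) b :=
  (exists_aff g.2).choose_spec

theorem multi_eq_one_iff (g : stabilizer PG (∞ : OnePoint E)) :
    multi g = 1 ↔ (g : PG) ^ p = 1 := by
  obtain ⟨b, hb⟩ := multi_spec g
  rw [hb, aff_pow_char_eq_one_iff]

/-- Multiplier at an arbitrary point, through a chosen mover. -/
noncomputable def multiAt (x : OnePoint E) : stabilizer PG x →* Eˣ :=
  (multi (E := E)).comp
    { toFun := fun g => ⟨(exists_to_infty x).choose⁻¹ * g * (exists_to_infty x).choose, by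
        rw [mem_stabilizer_iff, mul_smul, mul_smul, (exists_to_infty x).choose_spec,
          show (g : PG) • x = x from g.2, inv_smul_eq_iff, (exists_to_infty x).choose_spec]⟩
      map_one' := Subtype.ext (by simp)
      map_mul' := fun a b => Subtype.ext (by simp [mul_assoc]) }

theorem multiAt_eq_one_iff (x : OnePoint E) (g : stabilizer PG x) :
    multiAt x g = 1 ↔ (g : PG) ^ p = 1 := by
  rw [multiAt, MonoidHom.comp_apply, multi_eq_one_iff p]
  set h := (exists_to_infty x).choose
  show (h⁻¹ * (g : PG) * h) ^ p = 1 ↔ _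
  rw [show h⁻¹ * (g : PG) * h = MulAut.conj h⁻¹ g by simp, ← map_pow, map_eq_one_iff _ (MulEquiv.injective _)]

/-- A unipotent and a non-unipotent element with a common fixed point do not commute. -/
theorem not_commute_unip {u g : PG} {x : OnePoint E} (hu : u ≠ 1) (hup : u ^ p = 1)
    (hux : u • x = x) (hgx : g • x = x) (hgp : g ^ p ≠ 1) : g * u ≠ u * g := by
  intro h
  obtain ⟨y, hyx, hgy⟩ := two_fix_of_not_unip p hgp hgx
  have hg1 : g ≠ 1 := fun e => hgp (by rw [e, one_pow])
  have : g • (u • y) = u • y := by rw [← mul_smul, h, mul_smul, hgy]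
  rcases eq_or_eq_of_fix hg1 (Ne.symm hyx) hgx hgy this with e | e
  · exact hyx (MulAction.injective u (e.trans hux.symm))
  · exact hyx (fix_of_unip p hu hup hux e)

variable [Finite E] (H : Subgroup (ProjGenLinGroup (Fin 2) E))

/-- The unipotent elements of `H` fixing `x`. -/
def unipAt (x : OnePoint E) : Subgroup H where
  carrier := {g | (g : PG) • x = x ∧ (g : PG) ^ p = 1}
  one_mem' := by simp
  mul_mem' := fun {a b} ha hb => ⟨by rw [Subgroup.coe_mul, mul_smul, hb.1, ha.1],
    (unip_mul p ha.1 hb.1 ha.2 hb.2).1⟩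
  inv_mem' := fun {a} ha => ⟨by rw [Subgroup.coe_inv, inv_smul_eq_iff, ha.1],
    by rw [Subgroup.coe_inv, inv_pow, ha.2, inv_one]⟩

theorem mem_unipAt {x : OnePoint E} {g : H} :
    g ∈ unipAt p H x ↔ (g : PG) • x = x ∧ (g : PG) ^ p = 1 := Iff.rfl

/-- multiplier on the stabiliser in `H` -/
noncomputable def hMulti (x : OnePoint E) : stabilizer H x →* Eˣ :=
  (multiAt x).comp
    { toFun := fun g => ⟨((g : H) : PG), g.2⟩
      map_one' := rfl
      map_mul' := fun _ _ => rfl }

theorem hMulti_eq_one_iff (x : OnePoint E) (g : stabilizer H x) :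
    hMulti H x g = 1 ↔ (g : H) ∈ unipAt p H x := by
  rw [hMulti, MonoidHom.comp_apply, multiAt_eq_one_iff p]
  exact ⟨fun h => ⟨g.2, h⟩, fun h => h.2⟩

include hp in
theorem isCyclic_stabilizer {x : OnePoint E} (h : Nat.card (unipAt p H x) = 1) :
    IsCyclic (stabilizer H x) := by
  refine isCyclic_of_injective (hMulti H x) ?_
  rw [injective_iff_map_eq_one]
  intro g hg
  have := (hMulti_eq_one_iff p H x g).mp hg
  rw [Subgroup.eq_bot_of_card_eq _ h, Subgroup.mem_bot] at this
  exact Subtype.ext this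

theorem card_stabilizer_dvd {x : OnePoint E} (h : Nat.card (unipAt p H x) ≠ 1) :
    ∃ t, Nat.card (stabilizer H x) = Nat.card (unipAt p H x) * t ∧
      t ∣ Nat.card (unipAt p H x) - 1 ∧ Nat.card (hMulti H x).range = t := by
  classical
  set Q := unipAt p H x
  have hQ : Q ≤ stabilizer H x := fun g hg => hg.1
  have hker : (hMulti H x).ker = Q.subgroupOf (stabilizer H x) := by
    ext g; rw [MonoidHom.mem_ker, hMulti_eq_one_iff p, Subgroup.mem_subgroupOf]
  have hcard : Nat.card (stabilizer H x) = Nat.card Q * Nat.card (hMulti H x).range := by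
    rw [← Subgroup.index_ker, ← Subgroup.card_mul_index (hMulti H x).ker]
    congr 1
    rw [hker]
    exact Nat.card_congr (Subgroup.subgroupOfEquivOfLe hQ).toEquiv
  refine ⟨_, hcard, ?_, rfl⟩
  -- the multiplier group acts freely on the nontrivial unipotent elements
  let Y := {u : Q // u ≠ 1}
  letI : MulAction (stabilizer H x) Y :=
    { smul := fun g u => ⟨⟨(g : H) * u.1 * (g : H)⁻¹, by
          refine ⟨?_, ?_⟩
          · rw [Subgroup.coe_mul, Subgroup.coe_mul, mul_smul, mul_smul, Subgroup.coe_inv]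
            have : ((g : H) : PG)⁻¹ • x = x := inv_smul_eq_iff.mpr g.2.symm
            rw [this, u.1.2.1]; exact g.2
          · show (((g : H) : PG) * ((u.1 : H) : PG) * ((g : H) : PG)⁻¹) ^ p = 1
            rw [conj_pow, u.1.2.2]; simp⟩,
        fun e => u.2 (Subtype.ext (by
          have := congrArg Subtype.val e
          simpa using this))⟩
      one_smul := fun u => Subtype.ext (Subtype.ext (by
        show ((1 : stabilizer H x) : H) * u.1 * ((1 : stabilizer H x) : H)⁻¹ = u.1
        simp))
      mul_smul := fun a b u => Subtype.ext (Subtype.ext (by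
        show ((a * b : stabilizer H x) : H) * u.1 * ((a * b : stabilizer H x) : H)⁻¹ =
          (a : H) * ((b : H) * u.1 * (b : H)⁻¹) * (a : H)⁻¹
        simp [mul_assoc])) }
  have hstab : ∀ u : Y, stabilizer (stabilizer H x) u = (hMulti H x).ker := by
    intro u
    ext g
    rw [MonoidHom.mem_ker, hMulti_eq_one_iff p]
    have hu1 : ((u.1 : H) : PG) ≠ 1 := fun e => u.2 (Subtype.ext (Subtype.ext e))
    constructor
    · intro hg
      refine ⟨g.2, ?_⟩
      by_contra hgp
      apply not_commute_unip p hu1 u.1.2.2 u.1.2.1 g.2 hgp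
      have := congrArg (fun v : Y => ((v.1 : H) : PG)) hg
      exact mul_inv_eq_iff_eq_mul.mp this
    · intro hg
      refine Subtype.ext (Subtype.ext (Subtype.ext ?_))
      show ((g : H) : PG) * ((u.1 : H) : PG) * ((g : H) : PG)⁻¹ = ((u.1 : H) : PG)
      rw [mul_inv_eq_iff_eq_mul]
      exact (unip_mul p hg.1 u.1.2.1 hg.2 u.1.2.2).2
  haveI := Fintype.ofFinite Y
  haveI := Fintype.ofFinite Q
  have hY : Nat.card Y = Nat.card Q - 1 := by
    rw [Nat.card_eq_fintype_card, Nat.card_eq_fintype_card, Fintype.card_subtype_compl,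
      Fintype.card_subtype_eq]
  rw [← hY, Nat.card_congr (selfEquivSigmaOrbitsQuotientStabilizer (stabilizer H x) Y), Nat.card_sigma]
  refine Finset.dvd_sum fun ω _ => ?_
  rw [hstab, ← Subgroup.index, Subgroup.index_ker]

/-- Every element of `H` has a fixed point. -/
def Splits : Prop := ∀ g : H, ∃ x : OnePoint E, (g : PG) • x = x

/-- The fixed-point data of `H`. -/
noncomputable def data (hfix : Splits H) : TwoFixed H (OnePoint E) where
  Q := unipAt p H
  le_stab x g hg := hg.1
  two g hg := by
    classical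
    obtain ⟨x, hx⟩ := hfix g
    have hg1 : (g : PG) ≠ 1 := fun e => hg (Subtype.ext e)
    by_cases hgp : (g : PG) ^ p = 1
    · have h1 : Nat.card {z : OnePoint E // g • z = z} = 1 := by
        rw [Nat.card_eq_one_iff_unique]
        exact ⟨⟨fun a b => Subtype.ext ((fix_of_unip p hg1 hgp hx a.2).trans
          (fix_of_unip p hg1 hgp hx b.2).symm)⟩, ⟨⟨x, hx⟩⟩⟩
      have h2 : Nat.card {z : OnePoint E // g ∈ unipAt p H z} = 1 := by
        rw [Nat.card_eq_one_iff_unique]
        exact ⟨⟨fun a b => Subtype.ext ((fix_of_unip p hg1 hgp hx a.2.1).trans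
          (fix_of_unip p hg1 hgp hx b.2.1).symm)⟩, ⟨⟨x, hx, hgp⟩⟩⟩
      rw [h1, h2]
    · have h2 : Nat.card {z : OnePoint E // g ∈ unipAt p H z} = 0 := by
        rw [Nat.card_eq_zero]; exact Or.inl ⟨fun a => hgp a.2.2⟩
      obtain ⟨y, hyx, hy⟩ := two_fix_of_not_unip p hgp hx
      have h1 : Nat.card {z : OnePoint E // g • z = z} = 2 := by
        rw [Nat.card_eq_two_iff]
        refine ⟨⟨x, hx⟩, ⟨y, hy⟩, fun e => hyx (congrArg Subtype.val e).symm, ?_⟩
        apply Set.eq_univ_iff_forall.mpr
        intro z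
        simp only [Set.mem_insert_iff, Set.mem_singleton_iff]
        rcases eq_or_eq_of_fix hg1 (Ne.symm hyx) hx hy z.2 with e | e
        · exact Or.inl (Subtype.ext e)
        · exact Or.inr (Subtype.ext e)
      rw [h1, h2]
  conj g x := by
    refine Nat.card_congr
      { toFun := fun u => ⟨g⁻¹ * u.1 * g, ?_, ?_⟩
        invFun := fun u => ⟨g * u.1 * g⁻¹, ?_, ?_⟩
        left_inv := fun u => Subtype.ext (by simp [mul_assoc])
        right_inv := fun u => Subtype.ext (by simp [mul_assoc]) }
    · have := u.2.1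
      simp only [Subgroup.coe_mul, Subgroup.coe_inv, mul_smul]
      rw [← Subgroup.smul_def, show ((g : H) : PG) • x = g • x from rfl, inv_smul_eq_iff]
      exact this
    · show (((g : H) : PG)⁻¹ * ((u.1 : H) : PG) * ((g : H) : PG)) ^ p = 1
      rw [show ((g : H) : PG)⁻¹ * ((u.1 : H) : PG) * ((g : H) : PG) =
        MulAut.conj ((g : H) : PG)⁻¹ ((u.1 : H) : PG) by simp, ← map_pow, u.2.2, map_one]
    · have := u.2.1
      simp only [Subgroup.coe_mul, Subgroup.coe_inv, mul_smul]
      show ((g : H) : PG) • ((u.1 : H) : PG) • ((g : H) : PG)⁻¹ • ((g : H) : PG) • x =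
        ((g : H) : PG) • x
      rw [inv_smul_smul, this]
    · show (((g : H) : PG) * ((u.1 : H) : PG) * ((g : H) : PG)⁻¹) ^ p = 1
      rw [conj_pow, u.2.2]; simp
  dvd x hx := by
    obtain ⟨t, h1, h2, -⟩ := card_stabilizer_dvd p H hx
    exact ⟨t, h1, h2⟩

end CfsgLib.Classical.Dickson
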