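import Cfsg.Agent.Lib.Classical.Dickson.MaxClass
import Cfsg.Agent.Lib.Classical.SL2Tori

/-!
# Subgroups of least index and dihedral maximal subgroups of `PSL₂(q)`
-/

set_option autoImplicit false
set_option linter.unusedSectionVars false
set_option linter.style.haveILetI false

namespace CfsgLib.Classical.Dickson

open Matrix OnePoint MulAction Equiv
open scoped MatrixGroups

variable {F : Type*} [Field F] [Fintype F] [DecidableEq F] (p : ℕ) [hp : Fact p.Prime] [CharP F p]

local notation "PG" => ProjGenLinGroup (Fin 2) F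

omit hp in
theorem exists_maxIn_ge {Γ K : Subgroup PG} (hK : K ≤ Γ) (hne : K ≠ Γ) : ∃ M, K ≤ M ∧ MaxIn Γ M := by
  obtain ⟨M, hle, hM⟩ := Set.Finite.exists_le_maximal
    (s := {M : Subgroup PG | K ≤ M ∧ M ≤ Γ ∧ M ≠ Γ}) (Set.toFinite _) ⟨le_rfl, hK, hne⟩
  exact ⟨M, hle, hM.prop.2.1, hM.prop.2.2,
    fun L hML hL hLne => le_antisymm (hM.le_of_ge ⟨hle.trans hML, hL, hLne⟩ hML) hML⟩

theorem exists_sln_semisimple {n : ℕ} (hn : n = Fintype.card F - 1 ∨ n = Fintype.card F + 1)
    (h3 : 3 ≤ n) :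
    ∃ c ∈ sln F, orderOf c * dd F = n ∧ ¬ p ∣ orderOf c := by
  classical
  obtain ⟨g, hg⟩ : ∃ g : SL(2, F), orderOf g = n := by
    rcases hn with rfl | rfl
    · exact exists_sl2_minus
    · exact exists_sl2_plus p
  refine ⟨SpecialLinearGroup.toPGL g, ⟨g, rfl⟩, ?_, ?_⟩
  · set c := SpecialLinearGroup.toPGL g
    have hpow : ∀ j : ℕ, c ^ j = 1 ↔ g ^ j ∈ Subgroup.center SL(2, F) := fun j => by
      rw [← map_pow, ← MonoidHom.mem_ker, SpecialLinearGroup.toPGL_ker]
    rcases dd_cases (F := F) with ⟨hd, he⟩ | ⟨hd, ho⟩ <;> rw [hd]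
    · have htriv : ∀ z ∈ Subgroup.center SL(2, F), z = 1 := by
        intro z hz
        have h2 : (2 : F) = 0 := by
          have hp2 : p = 2 := by
            obtain ⟨m, -, hm⟩ := FiniteField.card F p
            rw [hm] at he
            exact ((Nat.prime_dvd_prime_iff_eq Nat.prime_two hp.out).mp
              (Nat.prime_two.dvd_of_dvd_pow (Nat.dvd_of_mod_eq_zero he))).symm
          subst hp2
          exact_mod_cast CharP.cast_eq_zero F 2
        rcases sl2_center_eq hz with rfl | rfl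
        · rfl
        · apply sl2_ext
          ext i j
          fin_cases i <;> fin_cases j <;> simp <;> linear_combination -h2
      rw [mul_one, ← hg]
      refine Nat.dvd_antisymm (orderOf_dvd_of_pow_eq_one ?_) (orderOf_dvd_of_pow_eq_one ?_)
      · rw [hpow, pow_orderOf_eq_one]; exact one_mem _
      · exact htriv _ ((hpow _).1 (pow_orderOf_eq_one c))
    · have h2 : (2 : F) ≠ 0 := fun h => by
        have := (CharP.cast_eq_zero_iff F p 2).1 (by exact_mod_cast h)
        obtain ⟨m, -, hm⟩ := FiniteField.card F p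
        rw [hm, (Nat.prime_dvd_prime_iff_eq hp.out Nat.prime_two).1 this] at ho
        rw [Nat.pow_mod] at ho
        simp at ho
      obtain ⟨k, hk⟩ : 2 ∣ n := by rcases hn with rfl | rfl <;> omega
      have hk1 : orderOf c ∣ k := by
        apply orderOf_dvd_of_pow_eq_one
        rw [hpow]
        have hne : g ^ k ≠ 1 := pow_ne_one_of_lt_orderOf (by omega) (by omega)
        rw [sl2_eq_neg_one h2 hne (by rw [← pow_add, ← two_mul, ← hk, ← hg, pow_orderOf_eq_one])]
        exact sl2_neg_one_central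
      have hk2 : n ∣ orderOf c * 2 := by
        rw [← hg]
        apply orderOf_dvd_of_pow_eq_one
        rw [pow_mul]
        rcases sl2_center_eq ((hpow _).1 (pow_orderOf_eq_one c)) with e | e <;> rw [e] <;> simp
      refine Nat.dvd_antisymm ?_ hk2
      rw [hk, mul_comm 2 k]
      exact mul_dvd_mul_right hk1 2
  · intro hdvd
    have h1 : p ∣ n := hdvd.trans (hg ▸ orderOf_map_dvd _ g)
    obtain ⟨m, -, hm⟩ := FiniteField.card F p
    have h2 : p ∣ Fintype.card F := hm ▸ dvd_pow_self p m.ne_zero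
    rcases hn with rfl | rfl
    · have := Nat.dvd_sub h2 h1
      rw [show Fintype.card F - (Fintype.card F - 1) = 1 by omega] at this
      exact hp.out.not_dvd_one this
    · exact hp.out.not_dvd_one ((Nat.dvd_add_right h2).1 h1)

/-- A dihedral group of order at least six fixes no point. -/
theorem not_fixed_dihedral {c h : PG} (hc : ¬ p ∣ orderOf c) (h3 : 3 ≤ orderOf c)
    (hinv : h * c * h⁻¹ = c⁻¹) (x : OnePoint F) (hcx : c • x = x) : h • x ≠ x := by
  intro hhx
  let C : stabilizer PG x := ⟨c, hcx⟩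
  let H : stabilizer PG x := ⟨h, hhx⟩
  have e : H * C * H⁻¹ = C⁻¹ := Subtype.ext hinv
  have e' := congrArg (multiAt (E := F) x) e
  rw [map_mul, map_mul, map_inv, map_inv, mul_inv_cancel_comm] at e'
  have h2 : multiAt x (C ^ 2) = 1 := by
    rw [map_pow, pow_two]
    nth_rewrite 2 [e']
    exact mul_inv_cancel _
  rw [multiAt_eq_one_iff p] at h2
  change (c ^ 2) ^ p = 1 at h2
  rw [← pow_mul] at h2
  have hco : Nat.Coprime (orderOf c) p := (hp.out.coprime_iff_not_dvd.2 hc).symm
  have := Nat.le_of_dvd two_pos (hco.dvd_of_dvd_mul_right (orderOf_dvd_of_pow_eq_one h2))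
  omega

theorem no_s3_in_a4 (a b : alternatingGroup (Fin 4)) (ha : a ^ 3 = 1) (ha1 : a ≠ 1) :
    b * a * b⁻¹ ≠ a⁻¹ := by
  revert a b
  decide +kernel

theorem orderOf_le_of_rat {A : Subfield F} {c : PG} (hc : ¬ p ∣ orderOf c) (hcA : c ∈ ratPGL A) :
    orderOf c ≤ Nat.card A + 1 := by
  classical
  obtain ⟨a, rfl⟩ := hcA
  rw [orderOf_injective _ (map_injective_subfield A)] at hc ⊢
  haveI : CharP A p := (RingHom.charP_iff_charP A.subtype p).2 ‹_›
  haveI := Fintype.ofFinite A
  have hA := two_le_card A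
  rcases order_dvd_pgl p hc with e | e <;> rw [← Nat.card_eq_fintype_card] at e
  · exact (Nat.le_of_dvd (by omega) e).trans (by omega)
  · exact Nat.le_of_dvd (by omega) e

include p hp in
/-- The torus normalisers of `PSL₂` are maximal outside the listed fields. -/
theorem dihedral_maxIn {n k : ℕ}
    (hn : (n = Fintype.card F + 1 ∧ Fintype.card F ∉ ({2, 3, 7, 9} : Finset ℕ)) ∨
      (n = Fintype.card F - 1 ∧ Fintype.card F ∉ ({2, 3, 5, 7, 9, 11} : Finset ℕ)))
    (hk : k * dd F = n) :
    ∃ S : Subgroup PG, MaxIn (sln F) S ∧ Nonempty (S ≃* DihedralGroup k) := by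
  classical
  set q := Fintype.card F with hqdef
  have hne1 : q ≠ 2 ∧ q ≠ 3 ∧ q ≠ 7 ∧ q ≠ 9 := by
    rcases hn with ⟨-, h⟩ | ⟨-, h⟩ <;> simp at h <;> omega
  have hq1 : 1 < q := Fintype.one_lt_card
  have hq4 : 4 ≤ q := by omega
  have hminus : n = q - 1 → q ≠ 5 ∧ q ≠ 11 := by
    rcases hn with ⟨e, -⟩ | ⟨-, h⟩
    · omega
    · intro; simp at h; omega
  have hn' : n = q - 1 ∨ n = q + 1 := by rcases hn with ⟨e, -⟩ | ⟨e, -⟩ <;> omega
  have hn3 : 3 ≤ n := by omega
  obtain ⟨c, hcS, hord, hc⟩ := exists_sln_semisimple p (n := n) hn' hn3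
  have hΓ : IsBig (sln F) := Or.inr rfl
  have hdd := dd_cases (F := F)
  have hdpos : 0 < dd F := by omega
  have hck : orderOf c = k := Nat.eq_of_mul_eq_mul_right hdpos (hord.trans hk.symm)
  have hk3 : 3 ≤ k := by
    rcases hdd with ⟨e, he⟩ | ⟨e, ho⟩ <;> rw [e] at hk <;> rcases hn' with e' | e'
    · omega
    · omega
    · have := hminus e'; omega
    · omega
  have hc1 : c ≠ 1 := fun e => by rw [e, orderOf_one] at hck; omega
  have hcp := pow_ne_one_of_semisimple hc hc1
  -- the torus through `c`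
  have htorus : ∀ c' : PG, ¬ p ∣ orderOf c' → c' ≠ 1 → c' ∈ sln F → c ∈ torus p (sln F) c' →
      Nat.card (torus p (sln F) c') = k := by
    intro c' h1 h2 h3 hmem
    obtain ⟨-, -, -, -, -, hcases⟩ := torus_data p hΓ hq4 h1 h2 h3
    set t := Nat.card (torus p (sln F) c')
    have hkt : k ∣ t := by
      rw [← hck]
      have := orderOf_dvd_natCard (⟨c, hmem⟩ : torus p (sln F) c')
      rwa [← Subgroup.orderOf_coe] at this
    have ht : t * dd F = q - 1 ∨ t * dd F = q + 1 := by
      rcases hcases with ⟨-, e⟩ | ⟨-, e⟩ <;> rw [index_sln] at e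
      · exact Or.inl e
      · exact Or.inr e
    have hnt : n ∣ t * dd F := by rw [← hk]; exact mul_dvd_mul_right hkt _
    have : t * dd F = n := by
      rcases ht with e | e <;> rcases hn' with e' | e' <;> rw [e, e'] at hnt ⊢
      · have := Nat.dvd_sub (dvd_refl (q + 1)) hnt
        have h4 : (q + 1) - (q - 1) = 2 := by omega
        rw [h4] at this
        exact absurd (Nat.le_of_dvd two_pos this) (by omega)
      · have := Nat.dvd_sub hnt (dvd_refl (q - 1))
        have h4 : (q + 1) - (q - 1) = 2 := by omega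
        rw [h4] at this
        exact absurd (Nat.le_of_dvd two_pos this) (by omega)
    exact Nat.eq_of_mul_eq_mul_right hdpos (this.trans hk.symm)
  have hcT : c ∈ torus p (sln F) c := ⟨hcS, fun z hz => hz⟩
  have hT := htorus c hc hc1 hcS hcT
  obtain ⟨h, hhN, -, -, hinvt, -, hNcard, hNiso, hNne⟩ := pairStab_data p hΓ hq4 hc hc1 hcS
  set N := pairStab p (sln F) c
  rw [hT] at hNiso hNcard
  have hinv := hinvt c hcT
  have hcN : c ∈ N := torus_le_pairStab hcp hcT
  have hNle : N ≤ sln F := fun g hg => hg.1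
  refine ⟨N, ?_, hNiso⟩
  obtain ⟨M, hNM, hM⟩ := exists_maxIn_ge hNle hNne
  suffices hle : Nat.card M ≤ 2 * k by
    rw [Subgroup.eq_of_le_of_card_ge hNM (by omega)]; exact hM
  have hdvd : 2 * k ∣ Nat.card M := hNcard ▸ Subgroup.card_dvd_of_le hNM
  have hsmall : ∀ m ∈ [1, 2, 3, 5], c ^ m = 1 → k ≤ 5 := by
    intro m hm e
    rw [← hck]
    have := orderOf_dvd_of_pow_eq_one e
    simp at hm
    rcases hm with rfl | rfl | rfl | rfl <;> exact (Nat.le_of_dvd (by norm_num) this).trans (by norm_num)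
  have hoddk : q % 2 = 1 → k * 2 = n := by
    intro ho
    rcases hdd with ⟨-, he⟩ | ⟨e, -⟩
    · omega
    · rw [← e]; exact hk
  cases maxKind p hΓ hq4 hM (fun hle => hM.ne (le_antisymm hM.le hle)) with
  | stab x e =>
    subst e
    exact absurd (mem_stabIn.1 (hNM hhN)).2 (not_fixed_dihedral p hc (by omega) hinv x (mem_stabIn.1 (hNM hcN)).2)
  | tori c' h1 h2 h3 e =>
    subst e
    obtain ⟨-, -, -, -, -, hout, hcard, -, -⟩ := pairStab_data p hΓ hq4 h1 h2 h3
    by_cases hmem : c ∈ torus p (sln F) c'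
    · rw [hcard, htorus c' h1 h2 h3 hmem]
    · exfalso
      have := hout c (hNM hcN) hmem
      rw [← pow_two] at this
      have := Nat.le_of_dvd two_pos (orderOf_dvd_of_pow_eq_one this)
      omega
  | a4 _ hq h8 h10 hiso =>
    obtain ⟨f⟩ := hiso
    have hcard : Nat.card M = 12 := by rw [Nat.card_congr f.toEquiv, nat_card_alternatingGroup]; simp [Nat.factorial]
    rw [hcard] at hdvd ⊢
    have hk6 : k = 3 ∨ k = 6 := by
      have h6 : k ∣ 6 := (Nat.mul_dvd_mul_iff_left two_pos).1 hdvd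
      have := Nat.le_of_dvd (by norm_num) h6
      interval_cases k <;> omega
    rcases hk6 with rfl | rfl
    · exfalso
      refine no_s3_in_a4 (f ⟨c, hNM hcN⟩) (f ⟨h, hNM hhN⟩) ?_ ?_ ?_
      · rw [← map_pow, MulEquiv.map_eq_one_iff]
        exact Subtype.ext (show c ^ 3 = 1 by rw [← hck]; exact pow_orderOf_eq_one c)
      · rw [Ne, MulEquiv.map_eq_one_iff]
        exact fun e => hc1 (congrArg Subtype.val e)
      · rw [← map_inv, ← map_inv, ← map_mul, ← map_mul]
        exact congrArg f (Subtype.ext hinv)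
    · rfl
  | s4 hodd hq hs _ hiso =>
    obtain ⟨f⟩ := hiso
    have hcard : Nat.card M = 24 := by rw [Nat.card_congr f.toEquiv, Nat.card_perm]; simp [Nat.factorial]
    have h8 := hs rfl
    have hk2 := hoddk hodd
    rw [hcard] at hdvd ⊢
    have h12 : k ∣ 12 := (Nat.mul_dvd_mul_iff_left two_pos).1 hdvd
    have := Nat.le_of_dvd (by norm_num) h12
    interval_cases k <;> first | omega | (exfalso; rcases hn' with e | e <;> omega)
  | a5 _ hmod hq hiso =>
    obtain ⟨f⟩ := hiso
    exfalso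
    have hk5 : k ≤ 5 := by
      rcases exps_a5 f c (hNM hcN) with e | e | e | e
      exacts [hsmall 1 (by simp) e, hsmall 2 (by simp) e, hsmall 3 (by simp) e, hsmall 5 (by simp) e]
    have hodd : q % 2 = 1 := by omega
    have hk2 := hoddk hodd
    rcases hn' with e | e
    · have := hminus e; omega
    · omega
  | pgl A r g hr hd hA _ _ hMA =>
    exfalso
    have hb : k ≤ Nat.card A + 1 := by
      have e := orderOf_le_of_rat p (A := A) (c := MulAut.conj g c)
        (by rwa [MulEquiv.orderOf_eq]) (hMA ▸ ⟨c, hNM hcN, rfl⟩)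
      rwa [MulEquiv.orderOf_eq, hck] at e
    set s := Nat.card A
    have hs2 : s * s ≤ q := by rw [hqdef, hd, ← pow_two]; exact Nat.pow_le_pow_right (by omega) hr.two_le
    rcases hdd with ⟨e, he⟩ | ⟨e, ho⟩ <;> rw [e] at hk
    · have : 3 * s ≤ s * s := Nat.mul_le_mul_right s hA
      omega
    · have hs3 : s = 3 → r = 2 ∨ 27 ≤ q := fun e3 => by
        rcases hr.two_le.eq_or_lt with h | h
        · exact Or.inl h.symm
        · right
          rw [hqdef, hd, e3, show 27 = 3 ^ 3 by norm_num]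
          exact Nat.pow_le_pow_right (by norm_num) (by omega)
      rcases hA.eq_or_lt with h | h
      · rcases hs3 h.symm with h' | h'
        · have : q = 9 := by rw [hqdef, hd, ← h, h']; norm_num
          omega
        · omega
      · have : 4 * s ≤ s * s := Nat.mul_le_mul_right s h
        omega
  | psl A r g hr hd _ ho hr2 hMA =>
    exfalso
    have hb : k ≤ Nat.card A + 1 := by
      have e := orderOf_le_of_rat p (A := A) (c := MulAut.conj g c)
        (by rwa [MulEquiv.orderOf_eq]) (ratPSL_le A (hMA ▸ ⟨c, hNM hcN, rfl⟩))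
      rwa [MulEquiv.orderOf_eq, hck] at e
    set s := Nat.card A
    have hr3 : 3 ≤ r := by rcases hr2 with ⟨t, ht⟩; have := hr.two_le; omega
    have hA := two_le_card A
    change 2 ≤ s at hA
    have hs2 : s * s * s ≤ q := by
      rw [hqdef, hd, show s * s * s = s ^ 3 by ring]; exact Nat.pow_le_pow_right (by omega) hr3
    have hk2 := hoddk ho
    rcases hA.eq_or_lt with h | h
    · exfalso
      have hq2 : q = 2 ^ r := hd.trans (by rw [← h])
      obtain ⟨t, ht⟩ : 2 ∣ q := hq2 ▸ dvd_pow_self 2 (by omega)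
      omega
    · have : 3 * 3 * s ≤ s * s * s := Nat.mul_le_mul_right s (Nat.mul_le_mul h h)
      omega

include p hp in
/-- A maximal subgroup of `PSL₂` has order at most that of a point stabiliser. -/
theorem card_maxIn_le (hex : Fintype.card F ∉ ({2, 3, 5, 7, 9, 11} : Finset ℕ)) {M : Subgroup PG}
    (hM : MaxIn (sln F) M) : Nat.card M * (Fintype.card F + 1) ≤ Nat.card (sln F) := by
  classical
  set q := Fintype.card F with hqdef
  have hne : q ≠ 2 ∧ q ≠ 3 ∧ q ≠ 5 ∧ q ≠ 7 ∧ q ≠ 9 ∧ q ≠ 11 := by simp at hex; omega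
  have hq1 : 1 < q := Fintype.one_lt_card
  have hq4 : 4 ≤ q := by omega
  have hΓ : IsBig (sln F) := Or.inr rfl
  have hdd := dd_cases (F := F)
  have hd0 : 0 < dd F := by omega
  have hd2 : dd F ≤ 2 := by omega
  suffices hs : Nat.card M * dd F ≤ q * (q - 1) ∨ Nat.card M * (q + 1) ≤ Nat.card (sln F) by
    rcases hs with hs | hs
    · refine Nat.le_of_mul_le_mul_left ?_ hd0
      rw [card_sln, ← hqdef]
      calc dd F * (Nat.card M * (q + 1)) = (Nat.card M * dd F) * (q + 1) := by ring
        _ ≤ q * (q - 1) * (q + 1) := Nat.mul_le_mul_right _ hs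
        _ = (q + 1) * q * (q - 1) := by ring
    · exact hs
  have hmodel : ∀ m, Nat.card M = m → m * 2 ≤ q * (q - 1) → Nat.card M * dd F ≤ q * (q - 1) := fun m e h =>
    (Nat.mul_le_mul_left _ hd2).trans (e ▸ h)
  cases maxKind p hΓ hq4 hM (fun hle => hM.ne (le_antisymm hM.le hle)) with
  | stab x e =>
    right
    rw [e]
    exact (card_stabIn le_rfl x).le
  | tori c h1 h2 h3 e =>
    left
    obtain ⟨-, -, -, -, -, -, hcard, -, -⟩ := pairStab_data p hΓ hq4 h1 h2 h3
    obtain ⟨-, -, -, -, -, hcases⟩ := torus_data p hΓ hq4 h1 h2 h3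
    rw [e, hcard]
    have ht : Nat.card (torus p (sln F) c) * dd F ≤ q + 1 := by
      rcases hcases with ⟨-, e'⟩ | ⟨-, e'⟩ <;> rw [index_sln, ← hqdef] at e' <;> omega
    have : 3 * q ≤ q * (q - 1) := by
      rw [mul_comm 3 q]; exact Nat.mul_le_mul_left _ (by omega)
    rw [mul_assoc]
    omega
  | a4 _ hq h8 _ hiso =>
    left
    obtain ⟨f⟩ := hiso
    refine hmodel 12 (by rw [Nat.card_congr f.toEquiv, nat_card_alternatingGroup]; simp [Nat.factorial]) ?_
    have : 13 * 12 ≤ q * (q - 1) := Nat.mul_le_mul (by omega) (by omega)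
    omega
  | s4 hodd hq hs _ hiso =>
    left
    obtain ⟨f⟩ := hiso
    have := hs rfl
    refine hmodel 24 (by rw [Nat.card_congr f.toEquiv, Nat.card_perm]; simp [Nat.factorial]) ?_
    have : q ≠ 15 := fun e => by
      have h15 := hp.out
      rw [show p = 15 by omega] at h15
      norm_num at h15
    have : 17 * 16 ≤ q * (q - 1) := Nat.mul_le_mul (by omega) (by omega)
    omega
  | a5 _ hmod hq hiso =>
    left
    obtain ⟨f⟩ := hiso
    refine hmodel 60 (by rw [Nat.card_congr f.toEquiv, nat_card_alternatingGroup]; simp [Nat.factorial]) ?_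
    have : 19 * 18 ≤ q * (q - 1) := Nat.mul_le_mul (by omega) (by omega)
    omega
  | pgl A r g hr hd hA _ _ hMA =>
    left
    have hc : Nat.card M = (Nat.card A + 1) * Nat.card A * (Nat.card A - 1) := by
      rw [← card_map_conj g M, hMA, card_ratPGL]
    refine (Nat.mul_le_mul_left _ hd2).trans ?_
    rw [hc]
    set s := Nat.card A
    have hs2 : s * s ≤ q := by rw [hqdef, hd, ← pow_two]; exact Nat.pow_le_pow_right (by omega) hr.two_le
    calc (s + 1) * s * (s - 1) * 2 ≤ (s + 1) * s * (s - 1) * s := Nat.mul_le_mul_left _ (by omega)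
      _ = (s * s) * ((s + 1) * (s - 1)) := by ring
      _ ≤ q * (q - 1) := Nat.mul_le_mul hs2 (by
        obtain ⟨t, ht⟩ : ∃ t, s = t + 1 := ⟨s - 1, by omega⟩
        rw [ht] at hs2 ⊢
        ring_nf at hs2 ⊢
        rw [show 1 + t - 1 = t by omega]
        ring_nf
        omega)
  | psl A r g hr hd _ ho hr2 hMA =>
    left
    have hA := two_le_card A
    have hc : Nat.card M ≤ (Nat.card A + 1) * Nat.card A * (Nat.card A - 1) := by
      rw [← card_map_conj g M, hMA, ← card_ratPGL]
      exact Subgroup.card_le_of_le (ratPSL_le A)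
    refine (Nat.mul_le_mul hc hd2).trans ?_
    set s := Nat.card A
    have hs2 : s * s ≤ q := by rw [hqdef, hd, ← pow_two]; exact Nat.pow_le_pow_right (by omega) hr.two_le
    calc (s + 1) * s * (s - 1) * 2 ≤ (s + 1) * s * (s - 1) * s := Nat.mul_le_mul_left _ hA
      _ = (s * s) * ((s + 1) * (s - 1)) := by ring
      _ ≤ q * (q - 1) := Nat.mul_le_mul hs2 (by
        obtain ⟨t, ht⟩ : ∃ t, s = t + 1 := ⟨s - 1, by omega⟩
        rw [ht] at hs2 ⊢
        ring_nf at hs2 ⊢
        rw [show 1 + t - 1 = t by omega]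
        ring_nf
        omega)

end CfsgLib.Classical.Dickson
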