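import Cfsg.Agent.Lib.Classical.Dickson.Data
import Cfsg.Agent.Lib.Classical.SL2Tori
import Cfsg.Agent.Lib.Classical.SL2Fours

/-!
# Fixed points over the quadratic extension, element orders
-/

set_option autoImplicit false
set_option linter.unusedSectionVars false
set_option linter.style.haveILetI false

namespace CfsgLib.Classical.Dickson

open Matrix OnePoint MulAction
open scoped MatrixGroups

variable {F : Type*} [Field F] [Fintype F] [DecidableEq F] (p : ℕ) [hp : Fact p.Prime] [CharP F p]

local notation "E2" => FiniteField.Extension F p 2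

noncomputable instance : DecidableEq (FiniteField.Extension F p 2) := Classical.decEq _

instance extCharP : CharP (FiniteField.Extension F p 2) p :=
  charP_of_injective_algebraMap (algebraMap F (FiniteField.Extension F p 2)).injective p

/-- The embedding into `PGL₂` of the quadratic extension. -/
noncomputable def toExt : ProjGenLinGroup (Fin 2) F →* ProjGenLinGroup (Fin 2) (FiniteField.Extension F p 2) :=
  ProjGenLinGroup.map (algebraMap F (FiniteField.Extension F p 2))

/-- Rational points inside the extended line. -/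
noncomputable def ptExt : OnePoint F → OnePoint (FiniteField.Extension F p 2) :=
  OnePoint.map (algebraMap F (FiniteField.Extension F p 2))

theorem ptExt_injective : Function.Injective (ptExt (F := F) p) :=
  Option.map_injective (algebraMap F (FiniteField.Extension F p 2)).injective

theorem toExt_smul (g : ProjGenLinGroup (Fin 2) F) (x : OnePoint F) :
    toExt p g • ptExt p x = ptExt p (g • x) := by
  induction g using ProjGenLinGroup.induction_on with | mk g =>
  rw [toExt, ProjGenLinGroup.map_mk, mk_smul, mk_smul, ptExt, OnePoint.map_smul]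

theorem toExt_injective : Function.Injective (toExt (F := F) p) := by
  rw [injective_iff_map_eq_one]
  intro g hg
  refine eq_one_of_fix_all fun x => ptExt_injective p ?_
  rw [← toExt_smul, hg, one_smul]

theorem toExt_pow_eq_one_iff (g : ProjGenLinGroup (Fin 2) F) (n : ℕ) : toExt p g ^ n = 1 ↔ g ^ n = 1 := by
  rw [← map_pow, map_eq_one_iff _ (toExt_injective p)]

theorem exists_root_ext (b c : F) :
    ∃ z : E2, z ^ 2 + algebraMap F E2 b * z + algebraMap F E2 c = 0 := by
  by_cases h : ∃ x : F, x ^ 2 + b * x + c = 0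
  · obtain ⟨x, hx⟩ := h
    exact ⟨algebraMap F E2 x, by rw [← map_pow, ← map_mul, ← map_add, ← map_add, hx, map_zero]⟩
  · open Polynomial in
    obtain ⟨f, hf⟩ : ∃ f : F[X], f = X ^ 2 + C b * X + C c := ⟨_, rfl⟩
    have hdeg : f.natDegree = 2 := by rw [hf]; compute_degree!
    have hirr : Irreducible f := by
      rw [Polynomial.irreducible_iff_roots_eq_zero_of_degree_le_three (by omega) (by omega)]
      refine Multiset.eq_zero_of_forall_notMem fun x hx => h ⟨x, ?_⟩
      have := (Polynomial.mem_roots'.mp hx).2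
      simpa [hf] using this
    haveI := Fact.mk hirr
    have hf0 : f ≠ 0 := hirr.ne_zero
    have hfr : Module.finrank F (AdjoinRoot f) = 2 := by
      rw [(AdjoinRoot.powerBasis hf0).finrank, AdjoinRoot.powerBasis_dim, hdeg]
    let e := FiniteField.algEquivExtension F p 2 (AdjoinRoot f) hfr
    refine ⟨e (AdjoinRoot.root f), ?_⟩
    have hr : Polynomial.aeval (e (AdjoinRoot.root f)) f = 0 := by
      rw [show e (AdjoinRoot.root f) = e.toAlgHom (AdjoinRoot.root f) from rfl,
        Polynomial.aeval_algHom_apply, AdjoinRoot.aeval_eq, AdjoinRoot.mk_self, map_zero]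
    simpa [hf] using hr

/-- Every element has a fixed point in the extended line. -/
theorem exists_fixed_ext (g : ProjGenLinGroup (Fin 2) F) :
    ∃ x : OnePoint E2, toExt p g • x = x := by
  induction g using ProjGenLinGroup.induction_on with | mk g =>
  rw [toExt, ProjGenLinGroup.map_mk]
  by_cases h : g 1 0 = 0
  · exact ⟨∞, by rw [mk_smul, smul_infty_eq_self_iff]; simp [h]⟩
  · obtain ⟨z, hz⟩ := exists_root_ext p ((g 1 1 - g 0 0) / g 1 0) (-(g 0 1) / g 1 0)
    refine ⟨(z : OnePoint E2), ?_⟩
    rw [mk_smul, ← GeneralLinearGroup.fixpointPolynomial_aeval_eq_zero_iff]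
    have h' : algebraMap F E2 (g 1 0) ≠ 0 := by simpa using h
    simp only [map_div₀, map_sub, map_neg] at hz
    field_simp at hz
    simp [GeneralLinearGroup.fixpointPolynomial]
    linear_combination hz

theorem splits_map (G : Subgroup (ProjGenLinGroup (Fin 2) F)) : Splits (G.map (toExt p)) := by
  rintro ⟨_, g, -, rfl⟩
  exact exists_fixed_ext p g

/-- A unipotent element has a rational fixed point. -/
theorem exists_fixed_of_unip {g : ProjGenLinGroup (Fin 2) F} (hg : g ^ p = 1) :
    ∃ x : OnePoint F, g • x = x := by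
  classical
  have hP : IsPGroup p (Subgroup.zpowers g) := by
    rintro ⟨a, ha⟩
    obtain ⟨k, rfl⟩ := Subgroup.mem_zpowers_iff.mp ha
    refine ⟨1, Subtype.ext ?_⟩
    show (g ^ k) ^ p ^ 1 = 1
    rw [pow_one, ← zpow_natCast, ← _root_.zpow_mul, mul_comm, _root_.zpow_mul, zpow_natCast, hg, _root_.one_zpow]
  have hnd : ¬ p ∣ Nat.card (OnePoint F) := by
    rw [natCard_points, Nat.card_eq_fintype_card]
    intro h
    obtain ⟨n, hn⟩ := FiniteField.card F p
    have : p ∣ Fintype.card F := by rw [hn.2]; exact dvd_pow_self p n.ne_zero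
    exact hp.out.one_lt.ne' (Nat.dvd_one.mp ((Nat.dvd_add_right this).mp h))
  obtain ⟨x, hx⟩ := hP.nonempty_fixed_point_of_prime_not_dvd_card (OnePoint F) hnd
  exact ⟨x, hx ⟨g, Subgroup.mem_zpowers g⟩⟩

theorem unip_fix_rational {g : ProjGenLinGroup (Fin 2) F} (h1 : g ≠ 1) (hg : g ^ p = 1)
    {z : OnePoint E2} (hz : toExt p g • z = z) : ∃ x : OnePoint F, ptExt p x = z := by
  obtain ⟨x, hx⟩ := exists_fixed_of_unip p hg
  refine ⟨x, fix_of_unip p (fun e => h1 (toExt_injective p (e.trans (map_one _).symm)))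
    ((toExt_pow_eq_one_iff p g p).mpr hg) hz ?_⟩
  rw [toExt_smul, hx]

/-- A semisimple element is split (two rational fixed points) or nonsplit (none). -/
theorem order_dvd_fix {c : ProjGenLinGroup (Fin 2) F} (hk : ¬ p ∣ orderOf c) (hc1 : c ≠ 1) :
    (orderOf c ∣ Fintype.card F - 1 ∧ ∃ x y : OnePoint F, x ≠ y ∧ c • x = x ∧ c • y = y) ∨
      (orderOf c ∣ Fintype.card F + 1 ∧ ∀ x : OnePoint F, c • x ≠ x) := by
  classical
  set k := orderOf c with hkdef
  have hcp : c ^ p ≠ 1 := fun h => by
    rcases (Nat.dvd_prime hp.out).mp (orderOf_dvd_of_pow_eq_one h) with e | e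
    · exact hc1 (orderOf_eq_one_iff.mp e)
    · exact hk (hkdef ▸ e ▸ dvd_rfl)
  obtain ⟨z, hz⟩ := exists_fixed_ext p c
  have hcp' : toExt p c ^ p ≠ 1 := fun h => hcp ((toExt_pow_eq_one_iff p c p).mp h)
  obtain ⟨z', hzz, hz'⟩ := two_fix_of_not_unip p hcp' hz
  let Y := {y : OnePoint F // c • y ≠ y}
  have hmove : ∀ (u : ProjGenLinGroup (Fin 2) F), u ∈ Subgroup.zpowers c → ∀ y : OnePoint F,
      c • y ≠ y → u • y = y → u = 1 := by
    intro u hu y hy hfix
    by_contra hu1
    have hu1' : toExt p u ≠ 1 := fun e => hu1 (toExt_injective p (e.trans (map_one _).symm))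
    have hst : Subgroup.zpowers c ≤ (stabilizer (ProjGenLinGroup (Fin 2) E2) z).comap (toExt p) :=
      Subgroup.zpowers_le.mpr hz
    have hst' : Subgroup.zpowers c ≤ (stabilizer (ProjGenLinGroup (Fin 2) E2) z').comap (toExt p) :=
      Subgroup.zpowers_le.mpr hz'
    apply hy
    apply ptExt_injective p
    rw [← toExt_smul]
    rcases eq_or_eq_of_fix hu1' hzz.symm (hst hu) (hst' hu) (z := ptExt p y)
      (by rw [toExt_smul, hfix]) with e | e
    · rw [e]; exact hz
    · rw [e]; exact hz'
  letI : MulAction (Subgroup.zpowers c) Y :=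
    { smul := fun u y => ⟨(u : ProjGenLinGroup (Fin 2) F) • y.1, fun h => y.2 (by
        obtain ⟨j, hj⟩ := Subgroup.mem_zpowers_iff.mp u.2
        rw [← mul_smul, ← hj, (Commute.self_zpow c j).eq, mul_smul] at h
        exact MulAction.injective (c ^ j) h)⟩
      one_smul := fun y => Subtype.ext (one_smul _ y.1)
      mul_smul := fun a b y => Subtype.ext (mul_smul (a : ProjGenLinGroup (Fin 2) F) b y.1) }
  have hfree : ∀ y : Y, stabilizer (Subgroup.zpowers c) y = ⊥ := fun y => by
    rw [eq_bot_iff]
    intro u hu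
    exact Subtype.ext (hmove u.1 u.2 y.1 y.2 (congrArg Subtype.val hu))
  haveI := Fintype.ofFinite Y
  have hY : k ∣ Nat.card Y := by
    rw [Nat.card_congr (selfEquivSigmaOrbitsQuotientStabilizer (Subgroup.zpowers c) Y), Nat.card_sigma]
    refine Finset.dvd_sum fun ω _ => ?_
    rw [hfree, ← Subgroup.index, Subgroup.index_bot, Nat.card_zpowers]
  let Fx := {y : OnePoint F // c • y = y}
  haveI := Fintype.ofFinite Fx
  have hsum : Nat.card Fx + Nat.card Y = Fintype.card F + 1 := by
    rw [← Nat.card_eq_fintype_card (α := F), ← natCard_points, ← Nat.card_sum]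
    exact Nat.card_congr (Equiv.sumCompl _)
  have hF2 : Nat.card Fx ≤ 2 := by
    have hinj : Function.Injective
        (fun y : Fx => if ptExt p y.1 = z then (0 : Fin 2) else 1) := by
      intro a b e
      apply Subtype.ext
      apply ptExt_injective p
      have ha : ∀ w : Fx, ptExt p w.1 = z ∨ ptExt p w.1 = z' := fun w =>
        eq_or_eq_of_fix (fun e => hc1 (toExt_injective p (e.trans (map_one _).symm))) hzz.symm
          hz hz' (by rw [toExt_smul, w.2])
      rcases ha a with e1 | e1 <;> rcases ha b with e2 | e2 <;>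
        simp_all
    simpa using Nat.card_le_card_of_injective _ hinj
  have h1 : Nat.card Fx ≠ 1 := by
    intro h
    have hd : k ∣ Fintype.card F := by
      have : Nat.card Y = Fintype.card F := by omega
      exact this ▸ hY
    obtain ⟨n, -, hn⟩ := FiniteField.card F p
    rw [hn] at hd
    have : k = 1 := Nat.Coprime.eq_one_of_dvd
      (((hp.out.coprime_iff_not_dvd.mpr hk).symm).pow_right _) hd
    exact hc1 (orderOf_eq_one_iff.mp this)
  rcases (show Nat.card Fx = 0 ∨ Nat.card Fx = 2 by omega) with h | h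
  · refine Or.inr ⟨by rw [show Fintype.card F + 1 = Nat.card Y by omega]; exact hY, fun x hx => ?_⟩
    haveI : Nonempty Fx := ⟨⟨x, hx⟩⟩
    have := Nat.card_pos (α := Fx)
    omega
  · refine Or.inl ⟨by rw [show Fintype.card F - 1 = Nat.card Y by omega]; exact hY, ?_⟩
    obtain ⟨a, b, hab, -⟩ := Nat.card_eq_two_iff.mp h
    exact ⟨a.1, b.1, fun e => hab (Subtype.ext e), a.2, b.2⟩

/-- The order of a semisimple element divides `q - 1` or `q + 1`. -/
theorem order_dvd_pgl {c : ProjGenLinGroup (Fin 2) F} (hk : ¬ p ∣ orderOf c) :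
    orderOf c ∣ Fintype.card F - 1 ∨ orderOf c ∣ Fintype.card F + 1 := by
  classical
  by_cases hc1 : c = 1
  · left; rw [hc1, orderOf_one]; exact one_dvd _
  exact (order_dvd_fix p hk hc1).imp And.left And.left

omit [DecidableEq F] in
/-- The order of a semisimple element of `PSL₂` divides `(q ± 1) / gcd(2, q - 1)`. -/
theorem order_dvd_psl (g : SL(2, F)) (hk : ¬ p ∣ orderOf (ProjGenLinGroup.mk (SpecialLinearGroup.toGL g))) :
    orderOf (ProjGenLinGroup.mk (SpecialLinearGroup.toGL g)) ∣ (Fintype.card F - 1) / Nat.gcd 2 (Fintype.card F - 1) ∨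
    orderOf (ProjGenLinGroup.mk (SpecialLinearGroup.toGL g)) ∣ (Fintype.card F + 1) / Nat.gcd 2 (Fintype.card F - 1) := by
  classical
  set c := ProjGenLinGroup.mk (SpecialLinearGroup.toGL g)
  set q := Fintype.card F
  have hq : 2 ≤ q := Fintype.one_lt_card
  by_cases hev : q % 2 = 0
  · rw [show Nat.gcd 2 (q - 1) = 1 by rw [Nat.gcd_comm, ← Nat.coprime_iff_gcd_eq_one,
      Nat.coprime_two_right, Nat.odd_iff]; omega, Nat.div_one, Nat.div_one]
    exact order_dvd_pgl p hk
  · have hgcd : Nat.gcd 2 (q - 1) = 2 := Nat.gcd_eq_left (by omega)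
    rw [hgcd]
    have h2 : (2 : F) ≠ 0 := fun h => by
      haveI : CharP F 2 := CharTwo.of_one_ne_zero_of_two_eq_zero one_ne_zero h
      obtain ⟨n, -, hn⟩ := FiniteField.card F 2
      have : 2 ∣ q := by
        show 2 ∣ Fintype.card F
        rw [hn]; exact dvd_pow_self 2 n.ne_zero
      omega
    -- split off the `p`-part of the lift
    set m := orderOf g
    obtain ⟨a, r, hr, hm⟩ := Nat.exists_eq_pow_mul_and_not_dvd (orderOf_pos g).ne' p hp.out.ne_one
    have hord : orderOf (g ^ (p ^ a)) = r := by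
      rw [orderOf_pow_of_dvd (pow_ne_zero _ hp.out.ne_zero) (by rw [hm]; exact dvd_mul_right _ _), hm,
        Nat.mul_div_cancel_left _ (pow_pos hp.out.pos _)]
    have hcx : c ^ (p ^ a) = ProjGenLinGroup.mk (SpecialLinearGroup.toGL (g ^ (p ^ a))) := by
      rw [map_pow, map_pow]
    have hordc : orderOf (c ^ (p ^ a)) = orderOf c :=
      Nat.Coprime.orderOf_pow ((hp.out.coprime_iff_not_dvd.mpr hk).symm.pow_right a)
    have key : ∀ n, r ∣ 2 * n → orderOf c ∣ n := by
      intro n hn
      rw [← hordc, hcx]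
      apply orderOf_dvd_of_pow_eq_one
      rw [← map_pow, ← map_pow]
      have h1 : (g ^ p ^ a) ^ n * (g ^ p ^ a) ^ n = 1 := by
        rw [← pow_add, ← two_mul]
        exact orderOf_dvd_iff_pow_eq_one.mp (hord.symm ▸ hn)
      by_cases h : (g ^ p ^ a) ^ n = 1
      · rw [h, map_one, map_one]
      · rw [CfsgLib.Classical.sl2_eq_neg_one h2 h h1, ProjGenLinGroup.mk_eq_one]
        rw [SpecialLinearGroup.toGL_mem_center_iff]
        exact CfsgLib.Classical.sl2_neg_one_central
    rcases CfsgLib.Classical.sl2_order_dvd p (g ^ p ^ a)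
      (by rw [hord]; exact (hp.out.coprime_iff_not_dvd.mpr hr).symm) with h | h
    · left
      refine key _ ?_
      rw [hord] at h
      rwa [Nat.mul_div_cancel' (by omega : 2 ∣ q - 1)]
    · right
      refine key _ ?_
      rw [hord] at h
      rwa [Nat.mul_div_cancel' (by omega : 2 ∣ q + 1)]

end CfsgLib.Classical.Dickson
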