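import Mathlib

/-!
# The subgroup of order 120 of `SL₂(9)` generated by two transvections, as a table
-/

set_option autoImplicit false
set_option maxRecDepth 100000

namespace CfsgLib.Classical.Dickson.Nine

/-- `(ℤ/3)[i]`. -/
abbrev E := ZMod 3 × ZMod 3

def em (a b : E) : E := (a.1 * b.1 - a.2 * b.2, a.1 * b.2 + a.2 * b.1)

@[ext]
structure Mat where
  a : E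
  b : E
  c : E
  d : E
deriving DecidableEq

def mm (A B : Mat) : Mat :=
  ⟨em A.a B.a + em A.b B.c, em A.a B.b + em A.b B.d, em A.c B.a + em A.d B.c, em A.c B.b + em A.d B.d⟩

def gen : Fin 2 → Mat := ![⟨(1, 0), (0, 0), (1, 0), (1, 0)⟩, ⟨(1, 0), (0, 1), (0, 0), (1, 0)⟩]

def tbl (i : Fin 120) : Mat :=
  ([⟨(1, 0), (0, 0), (0, 0), (1, 0)⟩,
    ⟨(1, 0), (0, 0), (1, 0), (1, 0)⟩,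
    ⟨(1, 0), (0, 1), (0, 0), (1, 0)⟩,
    ⟨(1, 0), (0, 0), (2, 0), (1, 0)⟩,
    ⟨(1, 0), (0, 1), (1, 0), (1, 1)⟩,
    ⟨(1, 1), (0, 1), (1, 0), (1, 0)⟩,
    ⟨(1, 0), (0, 2), (0, 0), (1, 0)⟩,
    ⟨(1, 0), (0, 1), (2, 0), (1, 2)⟩,
    ⟨(1, 1), (0, 1), (2, 1), (1, 1)⟩,
    ⟨(1, 0), (0, 2), (1, 0), (1, 2)⟩,
    ⟨(1, 2), (0, 1), (2, 0), (1, 0)⟩,
    ⟨(1, 1), (2, 2), (1, 0), (1, 1)⟩,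
    ⟨(1, 2), (0, 2), (1, 0), (1, 0)⟩,
    ⟨(1, 1), (0, 1), (0, 2), (1, 2)⟩,
    ⟨(1, 0), (0, 2), (2, 0), (1, 1)⟩,
    ⟨(1, 2), (0, 1), (0, 2), (1, 1)⟩,
    ⟨(1, 1), (2, 2), (2, 1), (0, 0)⟩,
    ⟨(1, 2), (0, 2), (2, 2), (1, 2)⟩,
    ⟨(1, 2), (1, 2), (2, 0), (1, 2)⟩,
    ⟨(0, 0), (2, 2), (2, 1), (1, 1)⟩,
    ⟨(1, 1), (1, 0), (1, 0), (1, 2)⟩,
    ⟨(1, 1), (0, 2), (2, 0), (1, 0)⟩,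
    ⟨(1, 2), (1, 0), (1, 0), (1, 1)⟩,
    ⟨(1, 2), (0, 1), (1, 1), (1, 2)⟩,
    ⟨(1, 1), (2, 2), (0, 2), (2, 2)⟩,
    ⟨(1, 2), (0, 2), (0, 1), (1, 1)⟩,
    ⟨(1, 2), (1, 2), (0, 2), (2, 1)⟩,
    ⟨(0, 0), (2, 2), (2, 1), (0, 0)⟩,
    ⟨(1, 1), (1, 0), (2, 1), (2, 2)⟩,
    ⟨(1, 1), (0, 2), (0, 1), (1, 2)⟩,
    ⟨(1, 2), (1, 0), (2, 2), (2, 1)⟩,
    ⟨(2, 1), (1, 2), (0, 2), (1, 2)⟩,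
    ⟨(1, 2), (2, 0), (2, 0), (1, 1)⟩,
    ⟨(2, 2), (2, 2), (0, 2), (1, 1)⟩,
    ⟨(2, 1), (1, 0), (2, 2), (1, 2)⟩,
    ⟨(1, 1), (2, 0), (2, 0), (1, 2)⟩,
    ⟨(2, 2), (1, 0), (2, 1), (1, 1)⟩,
    ⟨(1, 2), (2, 1), (1, 0), (1, 2)⟩,
    ⟨(1, 2), (1, 2), (1, 1), (0, 0)⟩,
    ⟨(0, 0), (2, 2), (2, 1), (2, 2)⟩,
    ⟨(1, 1), (1, 0), (0, 2), (0, 2)⟩,
    ⟨(1, 1), (0, 2), (1, 2), (1, 1)⟩,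
    ⟨(1, 2), (1, 0), (0, 1), (0, 1)⟩,
    ⟨(2, 1), (1, 2), (2, 0), (2, 1)⟩,
    ⟨(1, 2), (2, 0), (0, 2), (0, 1)⟩,
    ⟨(2, 2), (2, 2), (2, 1), (0, 0)⟩,
    ⟨(2, 1), (1, 0), (1, 0), (2, 2)⟩,
    ⟨(1, 1), (2, 0), (0, 1), (0, 2)⟩,
    ⟨(2, 2), (1, 0), (1, 0), (2, 1)⟩,
    ⟨(1, 2), (2, 1), (2, 2), (0, 0)⟩,
    ⟨(0, 0), (1, 2), (1, 1), (1, 2)⟩,
    ⟨(2, 1), (0, 1), (0, 2), (2, 2)⟩,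
    ⟨(0, 2), (2, 0), (0, 1), (1, 1)⟩,
    ⟨(2, 2), (0, 1), (0, 2), (2, 1)⟩,
    ⟨(0, 1), (1, 0), (0, 1), (1, 2)⟩,
    ⟨(2, 1), (0, 2), (2, 2), (2, 1)⟩,
    ⟨(0, 1), (2, 0), (0, 2), (1, 2)⟩,
    ⟨(1, 1), (1, 1), (2, 0), (1, 1)⟩,
    ⟨(0, 2), (1, 0), (0, 2), (1, 1)⟩,
    ⟨(0, 0), (2, 1), (2, 2), (1, 2)⟩,
    ⟨(2, 1), (1, 2), (1, 1), (0, 0)⟩,
    ⟨(1, 2), (2, 0), (1, 1), (2, 1)⟩,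
    ⟨(2, 2), (2, 2), (1, 0), (2, 2)⟩,
    ⟨(2, 1), (1, 0), (0, 1), (0, 2)⟩,
    ⟨(1, 1), (2, 0), (1, 2), (2, 2)⟩,
    ⟨(2, 2), (1, 0), (0, 2), (0, 1)⟩,
    ⟨(1, 2), (2, 1), (0, 1), (2, 1)⟩,
    ⟨(0, 0), (1, 2), (1, 1), (2, 1)⟩,
    ⟨(2, 1), (0, 1), (2, 0), (2, 0)⟩,
    ⟨(0, 2), (2, 0), (0, 0), (0, 1)⟩,
    ⟨(2, 2), (0, 1), (2, 1), (2, 2)⟩,
    ⟨(0, 1), (1, 0), (0, 2), (2, 2)⟩,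
    ⟨(2, 1), (0, 2), (1, 0), (2, 0)⟩,
    ⟨(0, 1), (2, 0), (0, 0), (0, 2)⟩,
    ⟨(1, 1), (1, 1), (0, 1), (2, 2)⟩,
    ⟨(0, 2), (1, 0), (0, 1), (2, 1)⟩,
    ⟨(0, 0), (2, 1), (2, 2), (0, 0)⟩,
    ⟨(0, 0), (1, 2), (1, 1), (0, 0)⟩,
    ⟨(2, 1), (2, 0), (0, 2), (0, 2)⟩,
    ⟨(2, 2), (2, 0), (1, 2), (1, 1)⟩,
    ⟨(0, 2), (0, 0), (0, 1), (0, 1)⟩,
    ⟨(2, 0), (0, 1), (2, 0), (2, 1)⟩,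
    ⟨(0, 1), (0, 0), (0, 1), (0, 2)⟩,
    ⟨(2, 0), (0, 2), (1, 0), (2, 1)⟩,
    ⟨(2, 1), (2, 1), (2, 2), (0, 0)⟩,
    ⟨(2, 1), (2, 0), (1, 1), (1, 2)⟩,
    ⟨(2, 2), (1, 1), (0, 1), (1, 1)⟩,
    ⟨(0, 2), (2, 0), (0, 2), (2, 1)⟩,
    ⟨(2, 1), (2, 1), (0, 1), (1, 2)⟩,
    ⟨(0, 0), (2, 1), (2, 2), (2, 1)⟩,
    ⟨(2, 1), (0, 1), (1, 1), (2, 1)⟩,
    ⟨(2, 2), (0, 1), (1, 0), (2, 0)⟩,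
    ⟨(0, 1), (1, 0), (0, 0), (0, 2)⟩,
    ⟨(2, 1), (0, 2), (0, 1), (2, 2)⟩,
    ⟨(0, 1), (2, 0), (0, 1), (2, 2)⟩,
    ⟨(1, 1), (1, 1), (1, 2), (0, 0)⟩,
    ⟨(0, 2), (1, 0), (0, 0), (0, 1)⟩,
    ⟨(2, 1), (2, 0), (2, 0), (2, 2)⟩,
    ⟨(2, 2), (2, 0), (0, 1), (0, 1)⟩,
    ⟨(0, 2), (0, 0), (0, 0), (0, 1)⟩,
    ⟨(2, 0), (0, 1), (1, 0), (2, 2)⟩,
    ⟨(0, 1), (0, 0), (0, 2), (0, 2)⟩,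
    ⟨(2, 0), (0, 2), (0, 0), (2, 0)⟩,
    ⟨(2, 1), (2, 1), (1, 0), (2, 1)⟩,
    ⟨(2, 2), (1, 1), (2, 0), (2, 2)⟩,
    ⟨(2, 2), (0, 2), (1, 2), (2, 2)⟩,
    ⟨(0, 2), (0, 0), (0, 2), (0, 1)⟩,
    ⟨(2, 0), (0, 0), (2, 0), (2, 0)⟩,
    ⟨(0, 1), (0, 0), (0, 0), (0, 2)⟩,
    ⟨(2, 2), (0, 2), (0, 1), (2, 1)⟩,
    ⟨(0, 0), (1, 1), (1, 2), (1, 1)⟩,
    ⟨(2, 2), (2, 0), (2, 0), (2, 1)⟩,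
    ⟨(2, 0), (0, 1), (0, 0), (2, 0)⟩,
    ⟨(2, 0), (0, 2), (2, 0), (2, 2)⟩,
    ⟨(2, 2), (1, 1), (1, 2), (0, 0)⟩,
    ⟨(2, 0), (0, 0), (1, 0), (2, 0)⟩,
    ⟨(2, 2), (0, 2), (2, 0), (2, 0)⟩,
    ⟨(0, 0), (1, 1), (1, 2), (2, 2)⟩,
    ⟨(2, 0), (0, 0), (0, 0), (2, 0)⟩,
    ⟨(0, 0), (1, 1), (1, 2), (0, 0)⟩] : List Mat).getD i ⟨0, 0, 0, 0⟩

def step (j : Fin 2) (i : Fin 120) : Fin 120 :=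
  (![([1, 3, 5, 0, 8, 10, 12, 13, 15, 17, 2, 19, 21, 23, 25, 4, 27, 29, 31, 33, 34, 6, 36, 7, 39, 41, 43, 45, 46, 9, 48, 50, 52, 11, 54, 56, 58, 59, 60, 62, 63, 14, 65, 67, 69, 16, 71, 73, 75, 76, 18, 70, 79, 81, 20, 83, 85, 86, 22, 88, 77, 87, 24, 92, 94, 96, 89, 26, 91, 98, 100, 28, 102, 78, 104, 30, 84, 38, 47, 32, 106, 90, 108, 109, 49, 35, 110, 111, 37, 103, 53, 112, 40, 113, 97, 114, 42, 64, 44, 80, 51, 82, 116, 66, 117, 93, 99, 115, 101, 55, 57, 61, 68, 105, 119, 118, 72, 74, 107, 95] : List (Fin 120)), [2, 4, 6, 7, 9, 11, 0, 14, 16, 1, 18, 20, 22, 24, 3, 26, 28, 30, 32, 27, 5, 35, 37, 38, 40, 42, 44, 39, 8, 47, 49, 51, 10, 53, 55, 57, 45, 12, 61, 19, 13, 64, 66, 68, 15, 70, 72, 74, 62, 17, 77, 78, 80, 65,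 82, 84, 71, 21, 87, 89, 90, 23, 91, 93, 95, 33, 25, 50, 97, 99, 36, 101, 103, 92, 29, 52, 59, 67, 31, 105, 75, 107, 94, 100, 34, 60, 98, 106, 63, 76, 85, 48, 108, 88, 54, 41, 69, 43, 109, 96, 115, 56, 112, 46, 111, 114, 58, 113, 73, 86, 117, 116, 118, 81, 79, 83, 104, 119, 102, 110]] j).getD i 0

theorem tbl_step : ∀ j i, mm (tbl i) (gen j) = tbl (step j i) := by decide +kernel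

theorem tbl_zero : tbl 0 = ⟨(1, 0), (0, 0), (0, 0), (1, 0)⟩ := by decide +kernel

end CfsgLib.Classical.Dickson.Nine
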