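import Cfsg.Agent.Lib.Classical.Dickson.MaxClass
import Cfsg.Agent.Lib.Classical.Dickson.NineTable
import Cfsg.Agent.Lib.Classical.SL2Sylow

/-!
# Two transvections generating `SL₂(q)` (Dickson)
-/

set_option autoImplicit false
set_option linter.unusedSectionVars false
set_option linter.style.haveILetI false

namespace CfsgLib.Classical.Dickson

open Matrix OnePoint MulAction Equiv
open scoped MatrixGroups

variable {F : Type*} [Field F] [Fintype F] [DecidableEq F] (p : ℕ) [hp : Fact p.Prime] [CharP F p]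

local notation "PG" => ProjGenLinGroup (Fin 2) F
local notation "M2" => Matrix (Fin 2) (Fin 2) F

/-- The lower transvection. -/
def lowT : SL(2, F) := ⟨!![1, 0; 1, 1], by simp⟩

/-- The upper transvection. -/
def upT (l : F) : SL(2, F) := ⟨!![1, l; 0, 1], by simp⟩

theorem trace_order_cases (s : SL(2, F)) (h10 : (s : M2) 1 0 ≠ 0) {n : ℕ}
    (hn : n = 1 ∨ n = 2 ∨ n = 3 ∨ n = 4 ∨ n = 5) (he : SpecialLinearGroup.toPGL s ^ n = 1) :
    (n ≠ 1) ∧ (n = 2 → (s : M2).trace = 0) ∧ (n = 3 → (s : M2).trace ^ 2 = 1) ∧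
      (n = 4 → (s : M2).trace * ((s : M2).trace ^ 2 - 2) = 0) ∧
      (n = 5 → (s : M2).trace ^ 4 - 3 * (s : M2).trace ^ 2 + 1 = 0) := by
  set t := (s : M2).trace with ht
  have step : ∀ {m : ℕ} {A B : F}, (s : M2) ^ m = A • (s : M2) + B • 1 →
      (s : M2) ^ (m + 1) = (A * t + B) • (s : M2) + (-A) • 1 := by
    intro m A B e
    rw [pow_succ, e, add_mul, smul_mul_assoc, smul_mul_assoc, one_mul, CfsgLib.Classical.sl2_sq s, ← ht]
    module
  have e1 : (s : M2) ^ 1 = (1 : F) • (s : M2) + (0 : F) • 1 := by simp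
  have e2 := step e1
  have e3 := step e2
  have e4 := step e3
  have e5 := step e4
  have key : ∀ A B : F, (s : M2) ^ n = A • (s : M2) + B • 1 → A = 0 := by
    intro A B e
    rw [← map_pow] at he
    have hz : ((s : M2) ^ n) 1 0 = 0 := by
      rcases sl_scalar_of_toPGL_one he with e' | e' <;>
        · have h' := congrArg (fun g : SL(2, F) => (g : M2) 1 0) e'
          simpa [SpecialLinearGroup.coe_pow] using h'
    rw [e] at hz
    simp at hz
    exact hz.resolve_right h10
  refine ⟨fun h => ?_, fun h => ?_, fun h => ?_, fun h => ?_, fun h => ?_⟩ <;> subst h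
  · exact one_ne_zero (key _ _ e1)
  · linear_combination key _ _ e2
  · linear_combination key _ _ e3
  · linear_combination key _ _ e4
  · linear_combination key _ _ e5

theorem lowT_pow_char : lowT (F := F) ^ p = 1 := sl2_pow_char p _ (by simp [lowT, det_fin_two])

theorem upT_pow_char (l : F) : upT l ^ p = 1 := sl2_pow_char p _ (by simp [upT, det_fin_two])

theorem toPGL_ne_one_of {s : SL(2, F)} (h : (s : M2) 1 0 ≠ 0 ∨ (s : M2) 0 1 ≠ 0) :
    SpecialLinearGroup.toPGL s ≠ 1 := fun e => by
  rcases sl_scalar_of_toPGL_one e with rfl | rfl <;> simp at h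

theorem subfield_gen_of_mem {l : F} (hgen : Subfield.closure ({l} : Set F) = ⊤) {A : Subfield F} (h : l ∈ A) :
    A = ⊤ := by
  rw [eq_top_iff, ← hgen, Subfield.closure_le]; simpa using h

include p hp in
/-- The image in `PGL₂` of the group generated by the two transvections. -/
theorem image_cases (h2 : (2 : F) ≠ 0) {l : F} (hl : l ≠ 0) (hgen : Subfield.closure ({l} : Set F) = ⊤)
    (H : Subgroup SL(2, F)) (hH : H = Subgroup.closure {lowT, upT l}) :
    H.map SpecialLinearGroup.toPGL = sln F ∨
      (Fintype.card F = 9 ∧ l ^ 2 = -1 ∧ Nat.card (H.map SpecialLinearGroup.toPGL) = 60) := by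
  classical
  set G := H.map SpecialLinearGroup.toPGL with hG
  have hu : lowT ∈ H := hH ▸ Subgroup.subset_closure (Or.inl rfl)
  have hv : upT l ∈ H := hH ▸ Subgroup.subset_closure (Or.inr rfl)
  set U : PG := SpecialLinearGroup.toPGL (lowT : SL(2, F)) with hUdef
  set V : PG := SpecialLinearGroup.toPGL (upT l) with hVdef
  have hU : U ∈ G := ⟨_, hu, rfl⟩
  have hV : V ∈ G := ⟨_, hv, rfl⟩
  have hU1 : U ≠ 1 := toPGL_ne_one_of (Or.inl (by simp [lowT]))
  have hV1 : V ≠ 1 := toPGL_ne_one_of (Or.inr (by simpa [upT] using hl))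
  have hUp : U ^ p = 1 := by rw [hUdef, ← map_pow, lowT_pow_char, map_one]
  have hVp : V ^ p = 1 := by rw [hVdef, ← map_pow, upT_pow_char, map_one]
  have hle : G ≤ sln F := Subgroup.map_le_range _ _
  have hpG : p ∣ Nat.card G := by
    have h := orderOf_dvd_natCard (⟨U, hU⟩ : G)
    rwa [← Subgroup.orderOf_coe, orderOf_eq_prime hUp hU1] at h
  have hp2 : p ≠ 2 := prime_ne_two p h2
  -- the two test elements
  have hs : lowT * upT l ∈ H := mul_mem hu hv
  have hs' : lowT * (lowT * upT l) ∈ H := mul_mem hu hs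
  have c1 : ((lowT * upT l : SL(2, F)) : M2) = !![1, l; 1, 1 + l] := by
    rw [sl2_coe_mul]; simp [lowT, upT, Matrix.mul_fin_two, add_comm]
  have c2 : ((lowT * (lowT * upT l) : SL(2, F)) : M2) = !![1, l; 2, 1 + 2 * l] := by
    rw [sl2_coe_mul, c1]; simp [lowT, Matrix.mul_fin_two, one_add_one_eq_two]; ring
  have ht1 : ((lowT * upT l : SL(2, F)) : M2).trace = 2 + l := by rw [c1]; simp [trace_fin_two]; ring
  have ht2 : ((lowT * (lowT * upT l) : SL(2, F)) : M2).trace = 2 + 2 * l := by
    rw [c2]; simp [trace_fin_two]; ring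
  have htr : ∀ {n : ℕ} (s : SL(2, F)), s ∈ H → (s : M2) 1 0 ≠ 0 → (n = 1 ∨ n = 2 ∨ n = 3 ∨ n = 4 ∨ n = 5) →
      SpecialLinearGroup.toPGL s ^ n = 1 → _ := fun s _ h hn he => trace_order_cases s h hn he
  -- elements of prime field
  have hprime : l ∈ fixField (F := F) p 1 → Fintype.card F = p := by
    intro h
    have hA := subfield_gen_of_mem hgen h
    have hle' := card_fixField_le (F := F) (p := p) 1 le_rfl
    rw [hA, card_top_subfield, pow_one] at hle'
    obtain ⟨m, -, hm⟩ := FiniteField.card F p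
    have h1 : p ^ 1 ≤ p ^ (m : ℕ) := Nat.pow_le_pow_right hp.out.pos m.pos
    rw [pow_one, ← hm] at h1
    omega
  have hcardsln : Fintype.card F = p → Fintype.card F = 3 → Nat.card (sln F) = 12 := by
    intro _ h3
    have h := card_sln (F := F)
    rcases dd_cases (F := F) with ⟨-, he⟩ | ⟨e, -⟩
    · omega
    · rw [e, h3] at h; omega
  have one_mem' : (1 : F) ∈ fixField (F := F) p 1 := one_mem _
  have two_mem : (2 : F) ∈ fixField (F := F) p 1 := by rw [← one_add_one_eq_two]; exact add_mem one_mem' one_mem'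
  have l_of_t : (2 + l) ∈ fixField (F := F) p 1 → l ∈ fixField (F := F) p 1 := fun h => by
    have := sub_mem h two_mem; simpa using this
  have small : ∀ {t : F}, t = 0 ∨ t ^ 2 = 1 → t ∈ fixField (F := F) p 1 := by
    rintro t (rfl | h)
    · exact zero_mem _
    · rcases sq_eq_one_iff.1 h with rfl | rfl
      · exact one_mem'
      · exact neg_mem one_mem'
  cases kind p G with
  | fixed x h =>
    exfalso
    have hVaff : V = aff (1 : Fˣ) l := by
      rw [hVdef, aff]
      show ProjGenLinGroup.mk (SpecialLinearGroup.toGL _) = ProjGenLinGroup.mk _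
      congr 1; apply Units.ext; ext i j; fin_cases i <;> fin_cases j <;> simp [affGL, upT] <;> rfl
    have hx : x = ∞ := by
      have hinf : V • (∞ : OnePoint F) = ∞ := by rw [hVaff, aff_smul_infty]
      exact fix_of_unip p hV1 hVp hinf (h V hV)
    have := h U hU
    rw [hx, hUdef] at this
    rw [show (SpecialLinearGroup.toPGL (lowT : SL(2, F)) : PG) = ProjGenLinGroup.mk (SpecialLinearGroup.toGL lowT) from rfl,
      mk_smul, smul_infty_eq_ite] at this
    change (if (1 : F) = 0 then (∞ : OnePoint F) else (((1 : F) / 1 : F) : OnePoint F)) = ∞ at this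
    simp at this
  | cyclic c hc hcp =>
    exfalso
    apply hcp
    rw [← orderOf_eq_prime hUp hU1]
    obtain ⟨j, hj⟩ := Subgroup.mem_zpowers_iff.1 (hc ▸ hU : U ∈ Subgroup.zpowers c)
    rw [← hj]; exact orderOf_dvd_of_mem_zpowers (Subgroup.mem_zpowers_iff.2 ⟨j, rfl⟩)
  | dihedral c hc hcp h2' hGd =>
    exfalso
    obtain ⟨e⟩ := hGd
    rw [Nat.card_congr e.toEquiv, DihedralGroup.nat_card] at hpG
    rcases (Nat.Prime.dvd_mul hp.out).1 hpG with h | h
    · exact hp2 ((Nat.prime_dvd_prime_iff_eq hp.out Nat.prime_two).1 h)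
    · exact hcp h
  | a4 hiso =>
    obtain ⟨f⟩ := hiso
    left
    have hcard : Nat.card G = 12 := by rw [Nat.card_congr f.toEquiv, nat_card_alternatingGroup]; simp [Nat.factorial]
    have hp3 : p = 3 := by
      rw [hcard, show (12 : ℕ) = 2 ^ 2 * 3 by norm_num] at hpG
      rcases (Nat.Prime.dvd_mul hp.out).1 hpG with h | h
      · exact absurd ((Nat.prime_dvd_prime_iff_eq hp.out Nat.prime_two).1 (hp.out.dvd_of_dvd_pow h)) hp2
      · exact (Nat.prime_dvd_prime_iff_eq hp.out Nat.prime_three).1 h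
    have hexp : ∀ g ∈ G, g ^ 2 = 1 ∨ g ^ 3 = 1 := by
      have key : ∀ x : alternatingGroup (Fin 4), x ^ 2 = 1 ∨ x ^ 3 = 1 := by decide +kernel
      intro g hg
      have := key (f ⟨g, hg⟩)
      simpa [← map_pow, MulEquiv.map_eq_one_iff, Subtype.ext_iff] using this
    have hF : Fintype.card F = p := by
      apply hprime; apply l_of_t; rw [← ht1]; apply small
      rcases hexp _ ⟨_, hs, rfl⟩ with e | e
      · exact Or.inl ((htr _ hs (by rw [c1]; simp) (by omega) e).2.1 rfl)
      · exact Or.inr ((htr _ hs (by rw [c1]; simp) (by omega) e).2.2.1 rfl)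
    refine Subgroup.eq_of_le_of_card_ge hle ?_
    rw [hcard, hcardsln hF (hF.trans hp3)]
  | s4 hiso =>
    obtain ⟨f⟩ := hiso
    exfalso
    have hcard : Nat.card G = 24 := by rw [Nat.card_congr f.toEquiv, Nat.card_perm]; simp [Nat.factorial]
    have hp3 : p = 3 := by
      rw [hcard, show (24 : ℕ) = 2 ^ 3 * 3 by norm_num] at hpG
      rcases (Nat.Prime.dvd_mul hp.out).1 hpG with h | h
      · exact absurd ((Nat.prime_dvd_prime_iff_eq hp.out Nat.prime_two).1 (hp.out.dvd_of_dvd_pow h)) hp2
      · exact (Nat.prime_dvd_prime_iff_eq hp.out Nat.prime_three).1 h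
    subst hp3
    have h30 : (3 : F) = 0 := by exact_mod_cast CharP.cast_eq_zero F 3
    have hexp : ∀ g ∈ G, g ^ 3 = 1 ∨ g ^ 4 = 1 := by
      have key : ∀ x : Equiv.Perm (Fin 4), x ^ 3 = 1 ∨ x ^ 4 = 1 := by decide +kernel
      intro g hg
      have := key (f ⟨g, hg⟩)
      simpa [← map_pow, MulEquiv.map_eq_one_iff, Subtype.ext_iff] using this
    have hcases : ∀ s ∈ H, (s : M2) 1 0 ≠ 0 → ((s : M2).trace = 0 ∨ (s : M2).trace ^ 2 = 1) ∨
        (s : M2).trace ^ 2 = 2 := by
      intro s hs h10
      rcases hexp _ ⟨_, hs, rfl⟩ with e | e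
      · exact Or.inl (Or.inr ((htr s hs h10 (by omega) e).2.2.1 rfl))
      · rcases mul_eq_zero.1 ((htr s hs h10 (by omega) e).2.2.2.1 rfl) with h | h
        · exact Or.inl (Or.inl h)
        · exact Or.inr (sub_eq_zero.1 h)
    have hnF : Fintype.card F ≠ 3 := by
      intro h
      have := Subgroup.card_le_of_le hle
      rw [hcard, hcardsln h h] at this
      omega
    have a1 := hcases _ hs (by rw [c1]; simp)
    have a2 := hcases _ hs' (by rw [c2]; simpa using h2)
    rw [ht1] at a1
    rw [ht2] at a2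
    rcases a1 with a1 | a1
    · exact hnF (hprime (l_of_t (small a1)))
    rcases a2 with a2 | a2
    · have hm : 2 * l ∈ fixField (F := F) 3 1 := by
        have := sub_mem (small a2) two_mem; simpa using this
      have : l ∈ fixField (F := F) 3 1 := by
        have := div_mem hm two_mem; simpa [h2] using this
      exact hnF (hprime this)
    · exact hl (by linear_combination a2 - a1 - (l ^ 2 + l) * h30)
  | a5 hiso =>
    obtain ⟨f⟩ := hiso
    have hcard : Nat.card G = 60 := by
      rw [Nat.card_congr f.toEquiv, nat_card_alternatingGroup]; simp [Nat.factorial]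
    have hp35 : p = 3 ∨ p = 5 := by
      rw [hcard, show (60 : ℕ) = 2 ^ 2 * (3 * 5) by norm_num] at hpG
      rcases (Nat.Prime.dvd_mul hp.out).1 hpG with h | h
      · exact absurd ((Nat.prime_dvd_prime_iff_eq hp.out Nat.prime_two).1 (hp.out.dvd_of_dvd_pow h)) hp2
      · rcases (Nat.Prime.dvd_mul hp.out).1 h with h | h
        · exact Or.inl ((Nat.prime_dvd_prime_iff_eq hp.out Nat.prime_three).1 h)
        · exact Or.inr ((Nat.prime_dvd_prime_iff_eq hp.out (by norm_num)).1 h)
    have hcases : ∀ s ∈ H, (s : M2) 1 0 ≠ 0 → ((s : M2).trace = 0 ∨ (s : M2).trace ^ 2 = 1) ∨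
        (s : M2).trace ^ 4 - 3 * (s : M2).trace ^ 2 + 1 = 0 := by
      intro s hs h10
      rcases exps_a5 f _ ⟨_, hs, rfl⟩ with e | e | e | e
      · exact absurd rfl (htr s hs h10 (by omega) e).1
      · exact Or.inl (Or.inl ((htr s hs h10 (by omega) e).2.1 rfl))
      · exact Or.inl (Or.inr ((htr s hs h10 (by omega) e).2.2.1 rfl))
      · exact Or.inr ((htr s hs h10 (by omega) e).2.2.2.2 rfl)
    have a1 := hcases _ hs (by rw [c1]; simp)
    have a2 := hcases _ hs' (by rw [c2]; simpa using h2)
    rw [ht1] at a1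
    rw [ht2] at a2
    rcases hp35 with rfl | rfl
    · have h30 : (3 : F) = 0 := by exact_mod_cast CharP.cast_eq_zero F 3
      have hnF : Fintype.card F ≠ 3 := by
        intro h
        have := Subgroup.card_le_of_le hle
        rw [hcard, hcardsln h h] at this
        omega
      rcases a1 with a1 | a1
      · exact absurd (hprime (l_of_t (small a1))) hnF
      rcases a2 with a2 | a2
      · have hm : 2 * l ∈ fixField (F := F) 3 1 := by
          have := sub_mem (small a2) two_mem; simpa using this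
        have : l ∈ fixField (F := F) 3 1 := by
          have := div_mem hm two_mem; simpa [h2] using this
        exact absurd (hprime this) hnF
      right
      set t := 2 + l with htdef
      have b1 : t ^ 4 + 1 = 0 := by linear_combination a1 + t ^ 2 * h30
      have b2 : (t - 1) ^ 4 + 1 = 0 := by
        have e : 2 + 2 * l = 2 * (t - 1) := by rw [htdef]; ring
        rw [e] at a2
        linear_combination a2 - (5 * (t - 1) ^ 4 - 4 * (t - 1) ^ 2) * h30
      have b3 : t ^ 2 - t - 1 = 0 := by
        linear_combination -(b1 + t * (b2 - b1) + t * (t ^ 3 - 2 * t ^ 2 + t) * h30)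
      have hl2 : l ^ 2 = -1 := by
        rw [htdef] at b3
        linear_combination b3 - l * h30
      refine ⟨?_, hl2, hcard⟩
      have h9 : l ∈ fixField (F := F) 3 2 := by
        rw [mem_fixField, show 3 ^ 2 = 2 * 4 + 1 by norm_num, pow_succ, pow_mul, hl2]
        ring
      have hle' := card_fixField_le (F := F) (p := 3) 2 (by norm_num)
      rw [subfield_gen_of_mem hgen h9, card_top_subfield] at hle'
      obtain ⟨m, -, hm⟩ := FiniteField.card F 3
      have hm2 : (m : ℕ) ≤ 2 := (Nat.pow_le_pow_iff_right (by norm_num)).1 (hm ▸ hle')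
      have := m.pos
      interval_cases h : (m : ℕ)
      · exact absurd (by simpa using hm) hnF
      · simpa using hm
    · left
      have h50 : (5 : F) = 0 := by exact_mod_cast CharP.cast_eq_zero F 5
      have hF : Fintype.card F = 5 := by
        apply hprime; apply l_of_t
        rcases a1 with a1 | a1
        · exact small a1
        · have e : (2 + l) ^ 2 = 2 ^ 2 := by
            have : ((2 + l) ^ 2 - 2 ^ 2) * ((2 + l) ^ 2 - 2 ^ 2) = 0 := by
              linear_combination a1 + (3 - (2 + l) ^ 2) * h50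
            exact sub_eq_zero.1 (mul_self_eq_zero.1 this)
          rcases sq_eq_sq_iff_eq_or_eq_neg.1 e with e | e <;> rw [e]
          · exact two_mem
          · exact neg_mem two_mem
      refine Subgroup.eq_of_le_of_card_ge hle ?_
      have h := card_sln (F := F)
      rcases dd_cases (F := F) with ⟨-, he⟩ | ⟨e, -⟩
      · omega
      · rw [e, hF] at h; omega
  | pgl A h hGA =>
    exfalso
    have hA : A = ⊤ := key A h (fun g hg => by
      show _ ∈ (ProjGenLinGroup.map (n := Fin 2) A.subtype).range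
      rw [← hGA]; exact ⟨g, hg, rfl⟩)
    subst hA
    have hc := card_map_conj h G
    rw [hGA] at hc
    have h1 := Subgroup.card_le_of_le hle
    have h2' := card_sln (F := F)
    have h3 : Nat.card ((ProjGenLinGroup.map (n := Fin 2) (⊤ : Subfield F).subtype).range) = Nat.card (sln F) * dd F := by
      have := congrArg (fun S : Subgroup PG => Nat.card S) (ratPGL_top (F := F))
      rw [show (ProjGenLinGroup.map (n := Fin 2) (⊤ : Subfield F).subtype).range = ratPGL (⊤ : Subfield F) from rfl,
        this, Subgroup.card_top, card_pgl_eq, mul_comm (Nat.card (sln F))]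
      exact h2'.symm
    have hd : dd F = 2 := by
      rcases dd_cases (F := F) with ⟨-, he⟩ | ⟨e, -⟩
      · exact absurd he (fun he => hp2 ((Nat.prime_dvd_prime_iff_eq hp.out Nat.prime_two).1 (by
          obtain ⟨m, -, hm⟩ := FiniteField.card F p
          have h2d : 2 ∣ p ^ (m : ℕ) := hm ▸ Nat.dvd_of_mod_eq_zero he
          rw [(Nat.prime_dvd_prime_iff_eq Nat.prime_two hp.out).1 (Nat.prime_two.dvd_of_dvd_pow h2d)])))
      · exact e
    have := Nat.card_pos (α := sln F)
    rw [h3, hd] at hc
    omega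
  | psl A _ h hGA =>
    left
    have hA : A = ⊤ := key A h (fun g hg => by
      have : MulAut.conj h g ∈ ratPSL A := by
        show _ ∈ ((ProjGenLinGroup.map (n := Fin 2) A.subtype).comp (SpecialLinearGroup.toPGL (n := Fin 2) (R := A))).range
        rw [← hGA]; exact ⟨g, hg, rfl⟩
      exact ratPSL_le A this)
    subst hA
    refine Subgroup.eq_of_le_of_card_ge hle (le_of_eq ?_)
    rw [← card_map_conj h G, hGA]
    exact (congrArg (fun S : Subgroup PG => Nat.card S) (ratPSL_top (F := F))).symm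
where
  key (A : Subfield F) (h : PG) (hmem : ∀ g ∈ H.map SpecialLinearGroup.toPGL, MulAut.conj h g ∈ ratPGL A) :
      A = ⊤ := by
    have hu : lowT ∈ H := hH ▸ Subgroup.subset_closure (Or.inl rfl)
    have hv : upT l ∈ H := hH ▸ Subgroup.subset_closure (Or.inr rfl)
    have ht : ∀ s ∈ H, (s : M2).trace ^ 2 ∈ A := by
      intro s hs
      have := tinv_mem (hmem _ ⟨s, hs, rfl⟩)
      rw [tinv_conj] at this
      change tinv (ProjGenLinGroup.mk (SpecialLinearGroup.toGL s)) ∈ A at this
      rw [tinv_mk] at this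
      simpa [s.2] using this
    have a1 := ht _ (mul_mem hu hv)
    have a2 := ht _ (mul_mem hu (mul_mem hu hv))
    have e1 : ((lowT * upT l : SL(2, F)) : M2).trace = 2 + l := by
      rw [sl2_coe_mul]; simp [lowT, upT, Matrix.mul_fin_two, trace_fin_two]; ring
    have e2 : ((lowT * (lowT * upT l) : SL(2, F)) : M2).trace = 2 + 2 * l := by
      rw [sl2_coe_mul, sl2_coe_mul]; simp [lowT, upT, Matrix.mul_fin_two, trace_fin_two]; ring
    rw [e1] at a1
    rw [e2] at a2
    refine subfield_gen_of_mem hgen ?_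
    have two : (2 : F) ∈ A := by rw [← one_add_one_eq_two]; exact add_mem (one_mem _) (one_mem _)
    have h4 : (2 : F) * 2 ∈ A := mul_mem two two
    have h8 : 4 * ((2 + l) ^ 2 - 2 * 2) - ((2 + 2 * l) ^ 2 - 2 * 2) = 8 * l := by ring
    have hmem8 : 8 * l ∈ A := by
      rw [← h8, show (4 : F) = 2 * 2 by norm_num]
      exact sub_mem (mul_mem h4 (sub_mem a1 h4)) (sub_mem a2 h4)
    have h8' : (8 : F) ∈ A := by rw [show (8 : F) = 2 * 2 * 2 by norm_num]; exact mul_mem h4 two
    have h80 : (8 : F) ≠ 0 := by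
      rw [show (8 : F) = 2 * 2 * 2 by norm_num]; exact mul_ne_zero (mul_ne_zero h2 h2) h2
    have := div_mem hmem8 h8'
    rwa [mul_div_cancel_left₀ _ h80] at this

include p hp in
/-- A subgroup of `SL₂`, `q` odd, covering `PSL₂` is everything. -/
theorem eq_top_of_map_eq_sln (h2 : (2 : F) ≠ 0) (H : Subgroup SL(2, F))
    (h : H.map SpecialLinearGroup.toPGL = sln F) : H = ⊤ := by
  have hodd : Odd p := hp.out.odd_of_ne_two (prime_ne_two p h2)
  have key : ∀ x : SL(2, F), x ^ p = 1 → x ∈ H := by
    intro x hx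
    obtain ⟨a, ha, e⟩ : SpecialLinearGroup.toPGL x ∈ H.map SpecialLinearGroup.toPGL := h ▸ ⟨x, rfl⟩
    have he : SpecialLinearGroup.toPGL (a⁻¹ * x) = 1 := by rw [map_mul, map_inv, e, inv_mul_cancel]
    rcases sl_scalar_of_toPGL_one he with e' | e'
    · rw [inv_mul_eq_one] at e'; exact e' ▸ ha
    · rw [inv_mul_eq_iff_eq_mul, mul_neg_one] at e'
      have hx2 : x ^ 2 ∈ H := by rw [e', neg_sq]; exact pow_mem ha 2
      obtain ⟨k, hk⟩ := hodd
      have : x = (x ^ 2) ^ (k + 1) := by
        rw [← pow_mul, show 2 * (k + 1) = p + 1 by omega, pow_succ, hx, one_mul]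
      rw [this]; exact pow_mem hx2 _
  refine sl2_transvections_generate H (fun c => key _ ?_) (fun c => key _ ?_) <;>
    refine sl2_pow_char p _ ?_ <;> simp [SpecialLinearGroup.transvection, Matrix.transvection, det_fin_two]

/-- Evaluation of the table entries. -/
def evE [CharP F 3] (l : F) (a : Nine.E) : F :=
  ZMod.castHom (dvd_refl 3) F a.1 + ZMod.castHom (dvd_refl 3) F a.2 * l

theorem evE_mul [CharP F 3] {l : F} (hl : l ^ 2 = -1) (a b : Nine.E) :
    evE l (Nine.em a b) = evE l a * evE l b := by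
  simp only [evE, Nine.em, map_sub, map_add, map_mul]
  linear_combination -(ZMod.castHom (dvd_refl 3) F a.2 * ZMod.castHom (dvd_refl 3) F b.2) * hl

/-- Evaluation of a table matrix. -/
def evM [CharP F 3] (l : F) (A : Nine.Mat) : M2 := !![evE l A.a, evE l A.b; evE l A.c, evE l A.d]

theorem evM_mul [CharP F 3] {l : F} (hl : l ^ 2 = -1) (A B : Nine.Mat) :
    evM l (Nine.mm A B) = evM l A * evM l B := by
  have hadd : ∀ a b : Nine.E, evE l (a + b) = evE l a + evE l b := fun a b => by
    simp only [evE, Prod.fst_add, Prod.snd_add, map_add]; ring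
  simp only [evM, Nine.mm, hadd, evE_mul hl, Matrix.mul_fin_two]

theorem evE_of [CharP F 3] (l : F) :
    evE l (0, 0) = 0 ∧ evE l (1, 0) = 1 ∧ evE l (0, 1) = l := by
  simp [evE]

theorem card_closure_nine_le [CharP F 3] {l : F} (hl : l ^ 2 = -1) :
    Nat.card ↥(Subgroup.closure ({lowT, upT l} : Set SL(2, F))) ≤ 120 := by
  classical
  obtain ⟨e0, e1, el⟩ := evE_of (F := F) l
  let S : Set SL(2, F) := {x | ∃ i, (x : M2) = evM l (Nine.tbl i)}
  let K : Submonoid SL(2, F) :=
    { carrier := {y | ∀ x ∈ S, x * y ∈ S}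
      one_mem' := fun x hx => by rw [mul_one]; exact hx
      mul_mem' := fun {a b} ha hb x hx => by rw [← mul_assoc]; exact hb _ (ha x hx) }
  have hgen : ∀ y ∈ ({lowT, upT l} : Set SL(2, F)), y ∈ K := by
    rintro y hy x ⟨i, hi⟩
    have : ∃ j, (y : M2) = evM l (Nine.gen j) := by
      rcases hy with rfl | rfl
      · exact ⟨0, by simp [lowT, evM, Nine.gen, e0, e1]⟩
      · exact ⟨1, by simp [upT, evM, Nine.gen, e0, e1, el]⟩
    obtain ⟨j, hj⟩ := this
    exact ⟨Nine.step j i, by rw [sl2_coe_mul, hi, hj, ← evM_mul hl, Nine.tbl_step]⟩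
  have hone : (1 : SL(2, F)) ∈ S := ⟨0, by
    rw [Nine.tbl_zero]; ext a b
    fin_cases a <;> fin_cases b <;> simp [evM, e0, e1]⟩
  have hsub : ∀ y ∈ Subgroup.closure ({lowT, upT l} : Set SL(2, F)), y ∈ K := by
    intro y hy
    induction hy using Subgroup.closure_induction with
    | mem x hx => exact hgen x hx
    | one => exact K.one_mem
    | mul x y _ _ hx hy => exact K.mul_mem hx hy
    | inv x _ hx =>
      have e : x⁻¹ = x ^ (orderOf x - 1) :=
        inv_eq_of_mul_eq_one_right (by
          rw [← pow_succ', Nat.sub_add_cancel (orderOf_pos x), pow_orderOf_eq_one])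
      rw [e]; exact K.pow_mem hx _
  have hS : Nat.card S ≤ 120 := by
    let f : Fin 120 → M2 := fun i => evM l (Nine.tbl i)
    refine le_trans (Nat.card_le_card_of_injective
      (fun x : S => (⟨(x.1 : M2), x.2.choose, x.2.choose_spec.symm⟩ : Set.range f))
      fun a b e => Subtype.ext (sl2_ext (congrArg (fun t : Set.range f => (t : M2)) e))) ?_
    exact (Finite.card_range_le f).trans (by rw [Nat.card_eq_fintype_card, Fintype.card_fin])
  refine le_trans (Nat.card_le_card_of_injective
    (fun x : ↥(Subgroup.closure ({lowT, upT l} : Set SL(2, F))) =>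
      (⟨x.1, by simpa using hsub x.1 x.2 1 hone⟩ : S))
    fun a b e => Subtype.ext (Subtype.mk.inj e)) hS

include p hp in
/-- Dickson's theorem on two transvections. -/
theorem closure_transvections (h2 : (2 : F) ≠ 0) {l : F} (hl : l ≠ 0)
    (hgen : Subfield.closure ({l} : Set F) = ⊤) :
    (Subgroup.closure ({lowT, upT l} : Set SL(2, F)) = ⊤ ∧ ¬ (Fintype.card F = 9 ∧ l ^ 2 = -1)) ∨
    (Fintype.card F = 9 ∧ l ^ 2 = -1 ∧ Nat.card ↥(Subgroup.closure ({lowT, upT l} : Set SL(2, F))) = 120) := by
  classical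
  set H := Subgroup.closure ({lowT, upT l} : Set SL(2, F))
  have hp3 : Fintype.card F = 9 → CharP F 3 := fun h9 => by
    obtain ⟨m, -, hm⟩ := FiniteField.card F p
    have : p = 3 := (Nat.prime_dvd_prime_iff_eq hp.out Nat.prime_three).1
      (hp.out.dvd_of_dvd_pow (n := 2) (by rw [show (3 : ℕ) ^ 2 = Fintype.card F from h9.symm, hm]; exact dvd_pow_self p m.ne_zero))
    exact this ▸ ‹CharP F p›
  rcases image_cases p h2 hl hgen H rfl with h | ⟨h9, hl2, hc⟩
  · left
    have htop := eq_top_of_map_eq_sln p h2 H h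
    refine ⟨htop, fun ⟨h9, hl2⟩ => ?_⟩
    haveI := hp3 h9
    have hle : Nat.card H ≤ 120 := card_closure_nine_le hl2
    rw [htop, Subgroup.card_top, card_sl2', h9] at hle
    norm_num at hle
  · right
    refine ⟨h9, hl2, ?_⟩
    haveI := hp3 h9
    let f : H →* H.map (SpecialLinearGroup.toPGL (n := Fin 2) (R := F)) := SpecialLinearGroup.toPGL.subgroupMap H
    have hsurj : Function.Surjective f := MonoidHom.subgroupMap_surjective _ _
    have hcard : Nat.card H = Nat.card f.ker * 60 := by
      rw [← hc, ← f.ker.card_mul_index, Subgroup.index_ker, MonoidHom.range_eq_top.2 hsurj, Subgroup.card_top]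
    haveI : Fact (Nat.Prime 2) := ⟨Nat.prime_two⟩
    obtain ⟨z, hz⟩ := exists_prime_orderOf_dvd_card' 2 (G := H) ⟨Nat.card f.ker * 30, by rw [hcard]; ring⟩
    have hz' : orderOf (z : SL(2, F)) = 2 := by rw [Subgroup.orderOf_coe, hz]
    have hneg : (z : SL(2, F)) = -1 := by
      refine sl2_eq_neg_one h2 (fun e => by rw [e, orderOf_one] at hz'; omega) ?_
      rw [← pow_two]; exact orderOf_dvd_iff_pow_eq_one.1 hz'.dvd
    have hker : 2 ≤ Nat.card f.ker := by
      have hmem : z ∈ f.ker := by
        rw [MonoidHom.mem_ker]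
        apply Subtype.ext
        show SpecialLinearGroup.toPGL (z : SL(2, F)) = 1
        rw [hneg, toPGL_neg, map_one]
      have h := orderOf_dvd_natCard (⟨z, hmem⟩ : f.ker)
      rw [← Subgroup.orderOf_coe, hz] at h
      exact Nat.le_of_dvd Nat.card_pos h
    have := card_closure_nine_le (F := F) hl2
    change Nat.card H ≤ 120 at this
    have hmul : 2 * 60 ≤ Nat.card f.ker * 60 := Nat.mul_le_mul_right _ hker
    omega

end CfsgLib.Classical.Dickson
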