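import Cfsg.Agent.Lib.Classical.Dickson.Quat

/-!
# Four-groups of `PSL₂(q)` and the groups `A₄`, `S₄`, `A₅` over them
-/

set_option autoImplicit false
set_option linter.unusedSectionVars false
set_option linter.style.haveILetI false

namespace CfsgLib.Classical.Dickson

open Matrix OnePoint MulAction
open scoped MatrixGroups

variable {F : Type*} [Field F] [Fintype F] [DecidableEq F] (p : ℕ) [hp : Fact p.Prime] [CharP F p]

theorem prime_ne_two (h2 : (2 : F) ≠ 0) : p ≠ 2 := fun e => h2 (by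
  haveI : CharP F 2 := e ▸ (inferInstance : CharP F p)
  exact CharTwo.two_eq_zero)

include p hp in
/-- Two commuting involutions have no common fixed point. -/
theorem no_fixed_of_klein (h2 : (2 : F) ≠ 0) {a b : ProjGenLinGroup (Fin 2) F} (ha : orderOf a = 2)
    (hb : orderOf b = 2) (hne : a ≠ b) (hab : a * b = b * a) {x : OnePoint F} (hax : a • x = x)
    (hbx : b • x = x) : False := by
  obtain ⟨h, e⟩ := exists_to_infty x
  have hh : ∀ g : ProjGenLinGroup (Fin 2) F, g • x = x → (MulAut.conj h⁻¹ g) • (∞ : OnePoint F) = ∞ := by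
    intro g hg
    simp [mul_smul, e, hg, inv_smul_eq_iff]
  have key : ∀ g : ProjGenLinGroup (Fin 2) F, orderOf g = 2 → g • x = x →
      ∃ s : F, MulAut.conj h⁻¹ g = aff (-1) s := by
    intro g hg hgx
    obtain ⟨a, s, has⟩ := exists_aff (hh g hgx)
    have h1 : aff a s * aff a s = 1 := by
      rw [← has, ← map_mul, ← pow_two, orderOf_dvd_iff_pow_eq_one.mp (dvd_of_eq hg), map_one]
    rw [aff_mul, aff_eq_one_iff] at h1
    have hg1 : aff a s ≠ 1 := fun e' => by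
      rw [← has, map_eq_one_iff _ (MulEquiv.injective _)] at e'
      rw [e', orderOf_one] at hg; omega
    have hasq : ((a : F)) * a = 1 := by simpa using congrArg (fun u : Fˣ => (u : F)) h1.1
    rcases mul_self_eq_one_iff.mp hasq with ha1 | ha1
    · exfalso
      apply hg1
      obtain rfl : a = 1 := Units.ext ha1
      have : (2 : F) * s = 0 := by
        have := h1.2; simp at this; linear_combination this
      rw [(mul_eq_zero.mp this).resolve_left h2, aff_one]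
    · exact ⟨s, by rw [has, show a = -1 from Units.ext (by simpa using ha1)]⟩
  obtain ⟨s, hs⟩ := key a ha hax
  obtain ⟨t, ht⟩ := key b hb hbx
  apply hne
  have := congrArg (MulAut.conj h⁻¹) hab
  rw [map_mul, map_mul, hs, ht, aff_mul, aff_mul] at this
  have h3 := (aff_injective this).2
  simp at h3
  have : (2 : F) * (s - t) = 0 := by linear_combination h3
  apply (MulAut.conj h⁻¹).injective
  rw [hs, ht, sub_eq_zero.mp ((mul_eq_zero.mp this).resolve_left h2)]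

namespace Frame

variable (Φ : Frame F)

theorem exists_qmat (M : Matrix (Fin 2) (Fin 2) F) : ∃ X, Φ.qmat X = M := by
  have r := Φ.rel
  have h2 := Φ.two_ne
  refine ⟨((M 0 0 + M 1 1) / 2, (M 1 0 - M 0 1) / 2,
    -(Φ.a₀ * ((M 0 0 - M 1 1) / 2) + Φ.b₀ * ((M 1 0 + M 0 1) / 2)),
    -(Φ.a₀ * ((M 1 0 + M 0 1) / 2) - Φ.b₀ * ((M 0 0 - M 1 1) / 2))), ?_⟩
  ext i j
  fin_cases i <;> fin_cases j <;> simp [qmat] <;> field_simp
  · linear_combination (-(M 0 0 - M 1 1)) * r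
  · linear_combination (-(M 1 0 + M 0 1)) * r
  · linear_combination (-(M 1 0 + M 0 1)) * r
  · linear_combination (M 0 0 - M 1 1) * r

theorem qmat_injective : Function.Injective Φ.qmat := by
  rintro ⟨a, b, c, d⟩ ⟨a', b', c', d'⟩ h
  have r := Φ.rel
  have h2 := Φ.two_ne
  have e00 := congrFun (congrFun h 0) 0
  have e01 := congrFun (congrFun h 0) 1
  have e10 := congrFun (congrFun h 1) 0
  have e11 := congrFun (congrFun h 1) 1
  simp [qmat] at e00 e01 e10 e11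
  have ha : (2 : F) * (a - a') = 0 := by linear_combination e00 + e11
  have hb : (2 : F) * (b - b') = 0 := by linear_combination e10 - e01
  have hc : (2 : F) * (c - c') = 0 := by
    linear_combination (-Φ.a₀) * (e00 - e11) - Φ.b₀ * (e10 + e01) + 2 * (c - c') * r
  have hd : (2 : F) * (d - d') = 0 := by
    linear_combination Φ.b₀ * (e00 - e11) - Φ.a₀ * (e10 + e01) + 2 * (d - d') * r
  simp only [mul_eq_zero, h2, false_or, sub_eq_zero] at ha hb hc hd
  rw [ha, hb, hc, hd]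

theorem exists_qpg (g : ProjGenLinGroup (Fin 2) F) : ∃ X, fnorm X ≠ 0 ∧ Φ.qpg X = g := by
  induction g using ProjGenLinGroup.induction_on with | mk g =>
  obtain ⟨X, hX⟩ := Φ.exists_qmat g
  have hn : fnorm X ≠ 0 := by rw [← Φ.det_qmat, hX]; exact g.det_ne_zero
  refine ⟨X, hn, ?_⟩
  rw [qpg, dif_pos hn]
  exact congrArg ProjGenLinGroup.mk (Units.ext hX)

theorem qpg_eq_iff {X Y : F × F × F × F} (hX : fnorm X ≠ 0) (hY : fnorm Y ≠ 0) :
    Φ.qpg X = Φ.qpg Y ↔ ∃ l : F, l ≠ 0 ∧ fsmul l X = Y := by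
  constructor
  · intro h
    rw [qpg, qpg, dif_pos hX, dif_pos hY, ProjGenLinGroup.mk_eq_mk_iff] at h
    obtain ⟨u, hu⟩ := h
    refine ⟨u, u.ne_zero, Φ.qmat_injective ?_⟩
    have := congrArg (fun g : GL (Fin 2) F => (g : Matrix (Fin 2) (Fin 2) F)) hu
    simp [GeneralLinearGroup.coe_scalar] at this
    rw [← this]
    obtain ⟨a, b, c, d⟩ := X
    ext i j
    fin_cases i <;> fin_cases j <;> simp [qmat, fsmul] <;> ring
  · rintro ⟨l, hl, rfl⟩
    exact (Φ.qpg_smul hl hX).symm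

theorem qpg_ne_one {a b c d : F} (hn : fnorm (a, b, c, d) ≠ 0) (h : b ≠ 0 ∨ c ≠ 0 ∨ d ≠ 0) :
    Φ.qpg (a, b, c, d) ≠ 1 := by
  rw [← Φ.qpg_one, Ne, Φ.qpg_eq_iff hn (by simp [fnorm])]
  rintro ⟨l, hl, he⟩
  simp [fsmul, hl] at he
  tauto

theorem qpg_mem_sln_iff {X : F × F × F × F} (hX : fnorm X ≠ 0) :
    Φ.qpg X ∈ sln F ↔ IsSquare (fnorm X) := by
  rw [qpg, dif_pos hX, mem_sln_iff]
  simp [Φ.det_qmat]

/-- first involution -/
noncomputable def vI : ProjGenLinGroup (Fin 2) F := Φ.qpg (0, 1, 0, 0)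

/-- second involution -/
noncomputable def vJ : ProjGenLinGroup (Fin 2) F := Φ.qpg (0, 0, 1, 0)

theorem centralizer_le {g : ProjGenLinGroup (Fin 2) F} (hi : g * Φ.vI = Φ.vI * g) (hj : g * Φ.vJ = Φ.vJ * g) :
    g = 1 ∨ g = Φ.vI ∨ g = Φ.vJ ∨ g = Φ.vI * Φ.vJ := by
  obtain ⟨⟨a, b, c, d⟩, hn, rfl⟩ := Φ.exists_qpg g
  have nI : fnorm ((0, 1, 0, 0) : F × F × F × F) ≠ 0 := by simp [fnorm]
  have nJ : fnorm ((0, 0, 1, 0) : F × F × F × F) ≠ 0 := by simp [fnorm]
  rw [vI, Φ.qpg_mul hn nI, Φ.qpg_mul nI hn, Φ.qpg_eq_iff (by rw [fnorm_mul]; exact mul_ne_zero hn nI)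
    (by rw [fnorm_mul]; exact mul_ne_zero nI hn)] at hi
  rw [vJ, Φ.qpg_mul hn nJ, Φ.qpg_mul nJ hn, Φ.qpg_eq_iff (by rw [fnorm_mul]; exact mul_ne_zero hn nJ)
    (by rw [fnorm_mul]; exact mul_ne_zero nJ hn)] at hj
  obtain ⟨l, -, hl⟩ := hi
  obtain ⟨m, -, hm⟩ := hj
  simp [fsmul, fmul] at hl hm
  obtain ⟨l1, l2, l3, l4⟩ := hl
  obtain ⟨m1, m2, m3, m4⟩ := hm
  have h2 := Φ.two_ne
  -- each pair of coordinates has the same sign
  have hL : (a = 0 ∧ b = 0) ∨ (c = 0 ∧ d = 0) := by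
    by_cases hl1 : l = 1
    · right
      subst hl1
      exact ⟨(mul_eq_zero.mp (show (2 : F) * c = 0 by linear_combination -l4)).resolve_left h2,
        (mul_eq_zero.mp (show (2 : F) * d = 0 by linear_combination l3)).resolve_left h2⟩
    · left
      exact ⟨(mul_eq_zero.mp (show (l - 1) * a = 0 by linear_combination l2)).resolve_left (sub_ne_zero.mpr hl1),
        (mul_eq_zero.mp (show (l - 1) * b = 0 by linear_combination l1)).resolve_left (sub_ne_zero.mpr hl1)⟩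
  have hM : (a = 0 ∧ c = 0) ∨ (b = 0 ∧ d = 0) := by
    by_cases hm1 : m = 1
    · right
      subst hm1
      exact ⟨(mul_eq_zero.mp (show (2 : F) * b = 0 by linear_combination m4)).resolve_left h2,
        (mul_eq_zero.mp (show (2 : F) * d = 0 by linear_combination -m2)).resolve_left h2⟩
    · left
      exact ⟨(mul_eq_zero.mp (show (m - 1) * a = 0 by linear_combination m3)).resolve_left (sub_ne_zero.mpr hm1),
        (mul_eq_zero.mp (show (m - 1) * c = 0 by linear_combination m1)).resolve_left (sub_ne_zero.mpr hm1)⟩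
  rcases hL with ⟨rfl, rfl⟩ | ⟨rfl, rfl⟩ <;> rcases hM with ⟨ha0, h⟩ | ⟨h, h'⟩
  · subst h
    right; right; right
    rw [vI, vJ, Φ.qpg_mul nI nJ, show fmul ((0 : F), (1 : F), (0 : F), (0 : F)) (0, 0, 1, 0) = (0, 0, 0, 1) by
      simp [fmul]]
    have hd : d ≠ 0 := fun e => hn (by simp [fnorm, e])
    rw [eq_comm, Φ.qpg_eq_iff (by simp [fnorm]) hn]
    exact ⟨d, hd, by simp [fsmul]⟩
  · subst h'
    right; right; left
    have hd : c ≠ 0 := fun e => hn (by simp [fnorm, e])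
    rw [vJ, eq_comm, Φ.qpg_eq_iff nJ hn]
    exact ⟨c, hd, by simp [fsmul]⟩
  · subst ha0
    right; left
    have hd : b ≠ 0 := fun e => hn (by simp [fnorm, e])
    rw [vI, eq_comm, Φ.qpg_eq_iff nI hn]
    exact ⟨b, hd, by simp [fsmul]⟩
  · subst h
    left
    have ha : a ≠ 0 := fun e => hn (by simp [fnorm, e])
    exact Φ.qpg_scalar ha

theorem orderOf_vI : orderOf Φ.vI = 2 := by
  refine orderOf_eq_prime ?_ (Φ.qpg_ne_one (by simp [fnorm]) (Or.inl one_ne_zero))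
  rw [pow_two, vI, Φ.qpg_mul (by simp [fnorm]) (by simp [fnorm])]
  simp [fmul]
  exact Φ.qpg_scalar (by simp)

theorem orderOf_vJ : orderOf Φ.vJ = 2 := by
  refine orderOf_eq_prime ?_ (Φ.qpg_ne_one (by simp [fnorm]) (Or.inr (Or.inl one_ne_zero)))
  rw [pow_two, vJ, Φ.qpg_mul (by simp [fnorm]) (by simp [fnorm])]
  simp [fmul]
  exact Φ.qpg_scalar (by simp)

theorem vI_ne_vJ : Φ.vI ≠ Φ.vJ := by
  rw [vI, vJ, Ne, Φ.qpg_eq_iff (by simp [fnorm]) (by simp [fnorm])]
  rintro ⟨l, hl, he⟩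
  simp [fsmul] at he

theorem vI_comm_vJ : Φ.vI * Φ.vJ = Φ.vJ * Φ.vI := by
  rw [vI, vJ, Φ.qpg_mul (by simp [fnorm]) (by simp [fnorm]), Φ.qpg_mul (by simp [fnorm]) (by simp [fnorm]),
    Φ.qpg_eq_iff (by simp [fnorm, fmul]) (by simp [fnorm, fmul])]
  exact ⟨-1, by simp, by simp [fsmul, fmul]⟩

theorem vI_sq : Φ.vI * Φ.vI = 1 := by
  rw [← pow_two]; exact orderOf_dvd_iff_pow_eq_one.mp (dvd_of_eq Φ.orderOf_vI)

theorem vJ_sq : Φ.vJ * Φ.vJ = 1 := by
  rw [← pow_two]; exact orderOf_dvd_iff_pow_eq_one.mp (dvd_of_eq Φ.orderOf_vJ)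

/-- The four-group. -/
noncomputable def klein : Subgroup (ProjGenLinGroup (Fin 2) F) where
  carrier := {1, Φ.vI, Φ.vJ, Φ.vI * Φ.vJ}
  one_mem' := by simp
  mul_mem' := fun {a b} ha hb => by
    have i2 := Φ.vI_sq
    have j2 := Φ.vJ_sq
    have ji : Φ.vJ * Φ.vI = Φ.vI * Φ.vJ := Φ.vI_comm_vJ.symm
    have iij : Φ.vI * (Φ.vI * Φ.vJ) = Φ.vJ := by rw [← mul_assoc, i2, one_mul]
    have jij : Φ.vJ * (Φ.vI * Φ.vJ) = Φ.vI := by rw [← mul_assoc, ji, mul_assoc, j2, mul_one]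
    simp only [Set.mem_insert_iff, Set.mem_singleton_iff] at ha hb ⊢
    rcases ha with rfl | rfl | rfl | rfl <;> rcases hb with rfl | rfl | rfl | rfl <;>
      simp [mul_assoc, i2, j2, ji, iij, jij]
  inv_mem' := fun {a} ha => by
    have i2 : Φ.vI⁻¹ = Φ.vI := inv_eq_of_mul_eq_one_right Φ.vI_sq
    have j2 : Φ.vJ⁻¹ = Φ.vJ := inv_eq_of_mul_eq_one_right Φ.vJ_sq
    simp only [Set.mem_insert_iff, Set.mem_singleton_iff] at ha ⊢
    rcases ha with rfl | rfl | rfl | rfl <;> simp [i2, j2, Φ.vI_comm_vJ.symm]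

theorem mem_klein {g : ProjGenLinGroup (Fin 2) F} :
    g ∈ Φ.klein ↔ g = 1 ∨ g = Φ.vI ∨ g = Φ.vJ ∨ g = Φ.vI * Φ.vJ := Iff.rfl

theorem card_klein : Nat.card Φ.klein = 4 := by
  have hi : Φ.vI ≠ 1 := fun e => by have := Φ.orderOf_vI; rw [e, orderOf_one] at this; omega
  have hj : Φ.vJ ≠ 1 := fun e => by have := Φ.orderOf_vJ; rw [e, orderOf_one] at this; omega
  have hij : Φ.vI * Φ.vJ ≠ 1 := fun e => Φ.vI_ne_vJ (by
    rw [← inv_eq_of_mul_eq_one_right Φ.vI_sq,
      inv_eq_of_mul_eq_one_right e])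
  show Nat.card ({1, Φ.vI, Φ.vJ, Φ.vI * Φ.vJ} : Set (ProjGenLinGroup (Fin 2) F)) = 4
  rw [Nat.card_coe_set_eq, Set.ncard_insert_of_notMem, Set.ncard_insert_of_notMem, Set.ncard_pair]
  · exact fun e => hi (mul_eq_right.mp e.symm)
  · simp only [Set.mem_insert_iff, Set.mem_singleton_iff, not_or]
    exact ⟨Φ.vI_ne_vJ, fun e => hj (mul_eq_left.mp e.symm)⟩
  · simp only [Set.mem_insert_iff, Set.mem_singleton_iff, not_or]
    exact ⟨hi.symm, hj.symm, hij.symm⟩

theorem card_normalizer_klein : Nat.card (Subgroup.normalizer (Φ.klein : Set (ProjGenLinGroup (Fin 2) F))) ≤ 24 := by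
  classical
  set N := Subgroup.normalizer (Φ.klein : Set (ProjGenLinGroup (Fin 2) F))
  let T := {v : ProjGenLinGroup (Fin 2) F // v ∈ Φ.klein ∧ v ≠ 1}
  letI : MulAction N T :=
    { smul := fun n v => ⟨(n : ProjGenLinGroup (Fin 2) F) * v.1 * (n : ProjGenLinGroup (Fin 2) F)⁻¹,
        (Subgroup.mem_normalizer_iff.mp n.2 _).mp v.2.1, fun e => v.2.2 (conj_eq_one_iff.mp e)⟩
      one_smul := fun v => Subtype.ext (by
        show ((1 : N) : ProjGenLinGroup (Fin 2) F) * v.1 * ((1 : N) : ProjGenLinGroup (Fin 2) F)⁻¹ = v.1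
        simp)
      mul_smul := fun a b v => Subtype.ext (by
        show ((a * b : N) : ProjGenLinGroup (Fin 2) F) * v.1 * ((a * b : N) : ProjGenLinGroup (Fin 2) F)⁻¹ =
          a * (b * v.1 * (b : ProjGenLinGroup (Fin 2) F)⁻¹) * (a : ProjGenLinGroup (Fin 2) F)⁻¹
        simp [mul_assoc]) }
  let f := MulAction.toPermHom N T
  have hker : Nat.card f.ker ≤ 4 := by
    rw [← Φ.card_klein]
    refine Nat.card_le_card_of_injective (fun n => (⟨(n.1 : ProjGenLinGroup (Fin 2) F), ?_⟩ : Φ.klein))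
      (fun a b e => Subtype.ext (Subtype.ext (congrArg (fun u : Φ.klein => u.1) e)))
    have hfix : ∀ v : T, (n.1 : ProjGenLinGroup (Fin 2) F) * v.1 = v.1 * n.1 := fun v => by
      have := congrArg Subtype.val (Equiv.ext_iff.mp n.2 v)
      exact mul_inv_eq_iff_eq_mul.mp this
    refine Φ.centralizer_le (hfix ⟨Φ.vI, Or.inr (Or.inl rfl), ?_⟩) (hfix ⟨Φ.vJ, Or.inr (Or.inr (Or.inl rfl)), ?_⟩)
    · intro e; have := Φ.orderOf_vI; rw [e, orderOf_one] at this; omega
    · intro e; have := Φ.orderOf_vJ; rw [e, orderOf_one] at this; omega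
  have hran : Nat.card f.range ≤ 6 := by
    refine (Subgroup.card_le_card_group _).trans ?_
    have hT : Nat.card T = 3 := by
      have h := Set.ncard_sdiff_singleton_of_mem (s := (Φ.klein : Set (ProjGenLinGroup (Fin 2) F))) (one_mem _)
      rw [← Nat.card_coe_set_eq, ← Nat.card_coe_set_eq] at h
      exact h.trans (by rw [show Nat.card (Φ.klein : Set (ProjGenLinGroup (Fin 2) F)) = 4 from Φ.card_klein])
    rw [Nat.card_perm, hT]; rfl
  rw [← f.ker.card_mul_index, Subgroup.index_ker]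
  exact Nat.mul_le_mul hker hran

end Frame

end CfsgLib.Classical.Dickson
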