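import Cfsg.Agent.Lib.Classical.Dickson.ModelTools

/-!
# Maximal subgroups: subfield bounds and the fixed-point cases
-/

set_option autoImplicit false
set_option linter.unusedSectionVars false
set_option linter.style.haveILetI false
set_option linter.unusedVariables false

namespace CfsgLib.Classical.Dickson

open Matrix OnePoint MulAction
open scoped MatrixGroups

variable {F : Type*} [Field F] [Fintype F] [DecidableEq F] (p : ℕ) [hp : Fact p.Prime] [CharP F p]

local notation "PG" => ProjGenLinGroup (Fin 2) F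

theorem three_mul_bound {a b : ℕ} (ha : 2 ≤ a) (hab : 2 * a ≤ b) :
    2 * ((a + 1) * a * (a - 1)) < (b + 1) * b * (b - 1) := by
  have h1 : (a + 1) * (2 * a) < (b + 1) * b := by nlinarith
  calc 2 * ((a + 1) * a * (a - 1)) = (a + 1) * (2 * a) * (a - 1) := by ring
    _ < (b + 1) * b * (a - 1) := Nat.mul_lt_mul_of_pos_right h1 (by omega)
    _ ≤ (b + 1) * b * (b - 1) := Nat.mul_le_mul_left _ (by omega)

theorem three_mul_mono {a b : ℕ} (hab : a ≤ b) : (a + 1) * a * (a - 1) ≤ (b + 1) * b * (b - 1) :=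
  Nat.mul_le_mul (Nat.mul_le_mul (by omega) hab) (by omega)

theorem two_le_card (A : Subfield F) : 2 ≤ Nat.card A :=
  Finite.one_lt_card

theorem two_mul_le_of_pow {a d q : ℕ} (ha : 2 ≤ a) (hd : 2 ≤ d) (h : q = a ^ d) : 2 * a ≤ q := by
  subst h
  calc 2 * a ≤ a ^ 2 := by rw [pow_two]; exact Nat.mul_le_mul_right a ha
    _ ≤ a ^ d := Nat.pow_le_pow_right (by omega) hd

theorem card_ratPGL_lt {Γ : Subgroup PG} (hΓ : IsBig Γ) (A : Subfield F) {d : ℕ}
    (hd : Fintype.card F = Nat.card A ^ d) (hd2 : 2 ≤ d) : Nat.card (ratPGL A) < Nat.card Γ := by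
  have h1 := three_mul_bound (two_le_card A) (two_mul_le_of_pow (two_le_card A) hd2 hd)
  rw [← card_ratPGL, ← hΓ.card_mul] at h1
  have h2 : Nat.card Γ * Γ.index ≤ Nat.card Γ * 2 := Nat.mul_le_mul_left _ hΓ.index_le
  omega

theorem card_ratPSL_cases (A : Subfield F) :
    (Nat.card A % 2 = 1 ∧ 2 * Nat.card (ratPSL A) = Nat.card (ratPGL A)) ∨
    (Nat.card A % 2 = 0 ∧ Nat.card (ratPSL A) = Nat.card (ratPGL A)) := by
  have h := card_ratPSL A
  have hA := two_le_card A
  rw [← card_ratPGL] at h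
  rcases Nat.mod_two_eq_zero_or_one (Nat.card A) with e | e
  · refine Or.inr ⟨e, ?_⟩
    rwa [show Nat.gcd 2 (Nat.card A - 1) = 1 from
      Nat.Coprime.gcd_eq_one ((Nat.coprime_two_left).mpr (by rw [Nat.odd_iff]; omega)), one_mul] at h
  · refine Or.inl ⟨e, ?_⟩
    rwa [Nat.gcd_eq_left (show 2 ∣ Nat.card A - 1 by omega)] at h

theorem card_ratPSL_le (A : Subfield F) :
    (Nat.card A + 1) * Nat.card A * (Nat.card A - 1) ≤ 2 * Nat.card (ratPSL A) := by
  rw [← card_ratPGL]
  rcases card_ratPSL_cases A with ⟨-, h⟩ | ⟨-, h⟩ <;> omega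

theorem sln_eq_top_of_even (h : Fintype.card F % 2 = 0) : sln F = ⊤ := by
  rw [← Subgroup.index_eq_one, index_sln]
  rcases dd_cases (F := F) with ⟨e, -⟩ | ⟨-, e⟩
  · exact e
  · omega

theorem sln_ne_top_of_odd (h : Fintype.card F % 2 = 1) : sln F ≠ ⊤ := by
  rw [Ne, ← Subgroup.index_eq_one, index_sln]
  rcases dd_cases (F := F) with ⟨-, e⟩ | ⟨e, -⟩ <;> omega

theorem IsBig.card_ge {Γ : Subgroup PG} (hΓ : IsBig Γ) (hq : 4 ≤ Fintype.card F) :
    60 ≤ Nat.card Γ := by
  have h1 := hΓ.card_mul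
  rcases hΓ with rfl | rfl
  · rw [Subgroup.index_top, mul_one] at h1
    have := three_mul_mono hq
    omega
  · rcases dd_cases (F := F) with ⟨e, -⟩ | ⟨e, ho⟩ <;> rw [index_sln, e] at h1
    · have := three_mul_mono hq
      omega
    · have := three_mul_mono (show 5 ≤ Fintype.card F by omega)
      omega

/-- The intersection with a subfield group. -/
theorem MaxIn.inf_rat {Γ M : Subgroup PG} (hΓ : IsBig Γ) (hM : MaxIn Γ M) (A : Subfield F) {d : ℕ}
    (hd : Fintype.card F = Nat.card A ^ d) (hd2 : 2 ≤ d) (hle : M ≤ ratPGL A) :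
    M = ratPGL A ⊓ Γ ∧ ratPSL A ≤ M := by
  have h := hM.eq (ratPGL A ⊓ Γ) (le_inf hle hM.le) inf_le_right (fun e => by
    have h1 : Nat.card Γ ≤ Nat.card (ratPGL A) := Subgroup.card_le_of_le (e ▸ inf_le_left)
    have := card_ratPGL_lt hΓ A hd hd2
    omega)
  exact ⟨h.symm, h ▸ le_inf (ratPSL_le A) ((ratPSL_le_sln A).trans hΓ.sln_le)⟩

/-- An `A₅` fixes no point. -/
theorem not_fix_a5 {E : Type*} [Field E] [DecidableEq E] (p' : ℕ) [Fact p'.Prime] [CharP E p']
    {G : Subgroup (ProjGenLinGroup (Fin 2) E)} (f : G ≃* alternatingGroup (Fin 5)) (x : OnePoint E)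
    (h : ∀ g ∈ G, g • x = x) : False := by
  haveI : IsSimpleGroup (alternatingGroup (Fin 5)) := alternatingGroup.isSimpleGroup_five
  haveI : Nontrivial G := f.toEquiv.nontrivial
  haveI : IsSimpleGroup G := IsSimpleGroup.isSimpleGroup_of_surjective f.symm.toMonoidHom f.symm.surjective
  let j : G →* stabilizer (ProjGenLinGroup (Fin 2) E) x :=
    { toFun := fun g => ⟨g, h g g.2⟩, map_one' := rfl, map_mul' := fun _ _ => rfl }
  rcases IsSimpleGroup.eq_bot_or_eq_top_of_normal ((multiAt x).comp j).ker inferInstance with e | e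
  · obtain ⟨a, b, hab⟩ : ∃ a b : alternatingGroup (Fin 5), a * b ≠ b * a := by decide +kernel
    refine hab (f.symm.injective ((MonoidHom.ker_eq_bot_iff _).mp e ?_))
    rw [map_mul, map_mul, map_mul, map_mul, mul_comm]
  · obtain ⟨a, b, ha, hb, ha1, hb1⟩ : ∃ a b : alternatingGroup (Fin 5),
        a ^ 3 = 1 ∧ b ^ 5 = 1 ∧ a ≠ 1 ∧ b ≠ 1 := by decide +kernel
    have key : ∀ (c : alternatingGroup (Fin 5)) (m : ℕ), m.Prime → c ^ m = 1 → c ≠ 1 → p' = m := by
      intro c m hm hc hc1
      have h1 : f.symm c ∈ ((multiAt x).comp j).ker := e ▸ Subgroup.mem_top _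
      rw [MonoidHom.mem_ker, MonoidHom.comp_apply, multiAt_eq_one_iff p'] at h1
      have h2 : c ^ p' = 1 := by
        apply f.symm.injective
        rw [map_pow, map_one]
        exact Subtype.ext h1
      haveI := Fact.mk hm
      have h3 : orderOf c = m := orderOf_eq_prime hc hc1
      have h4 := orderOf_dvd_of_pow_eq_one h2
      rw [h3] at h4
      exact ((Nat.prime_dvd_prime_iff_eq hm (Fact.out : p'.Prime)).mp h4).symm
    have h3 := key a 3 (by norm_num) ha ha1
    have h5 := key b 5 (by norm_num) hb hb1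
    omega

/-- `A₅` in characteristic two is `PGL₂(4)`. -/
theorem a5_char_two (hp2 : p = 2) {G : Subgroup PG} (f : G ≃* alternatingGroup (Fin 5)) :
    ∃ (A : Subfield F) (h : PG), Nat.card A = 4 ∧ G.map (MulAut.conj h).toMonoidHom = ratPGL A := by
  classical
  set H := G.map (toExt p) with hH
  let D := data p H (splits_map p G)
  let e : H ≃* alternatingGroup (Fin 5) := (extEquiv p G).symm.trans f
  have hn : Nat.card H = 60 := by
    rw [Nat.card_congr e.toEquiv, nat_card_alternatingGroup, Nat.card_eq_fintype_card, Fintype.card_fin]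
    rfl
  have hinv : ∀ u : H, ∀ z, u ∈ D.Q z → u ^ 2 = 1 := fun u z hu =>
    Subtype.ext (orderOf_dvd_iff_pow_eq_one.mp ((orderOf_dvd_of_pow_eq_one hu.2).trans hp2.dvd))
  cases D.shape (by omega) with
  | fixed y he =>
    exfalso
    have htop : stabilizer H y = ⊤ := Subgroup.eq_top_of_card_eq _ he
    refine not_fix_a5 p e y fun g hg => ?_
    exact (show (⟨g, hg⟩ : H) ∈ stabilizer H y by rw [htop]; trivial)
  | half _ y hy he =>
    exfalso
    haveI := isCyclic_stabilizer p H hy
    obtain ⟨c, hc⟩ := IsCyclic.exists_generator (α := stabilizer H y)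
    have h30 : orderOf (e c.1) = 30 := by
      rw [MulEquiv.orderOf_eq, Subgroup.orderOf_coe, orderOf_eq_card_of_forall_mem_zpowers hc]
      show TwoFixed.e (G := H) y = 30
      omega
    have key : ∀ g : alternatingGroup (Fin 5), g ^ 15 = 1 ∨ g ^ 2 = 1 := by decide +kernel
    rcases key (e c.1) with h | h <;> have := orderOf_dvd_of_pow_eq_one h <;> rw [h30] at this <;>
      norm_num at this
  | twelve y hn' he hQ => omega
  | octahedral y hn' he hmin hu hQ => omega
  | sixty y hn' he hQ =>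
    exfalso
    obtain ⟨g, hg⟩ := exists_prime_orderOf_dvd_card' (G := H) 2 (by rw [hn]; norm_num)
    obtain ⟨z, hz⟩ := splits_map p G g
    have hgQ : g ∈ D.Q z := ⟨hz, orderOf_dvd_iff_pow_eq_one.mp (by
      rw [Subgroup.orderOf_coe, hg]; exact hp2.symm.dvd)⟩
    have h2 : 2 ∣ Nat.card (D.Q z) := by
      have := Subgroup.orderOf_dvd_natCard (D.Q z) hgQ
      rwa [hg] at this
    rcases hQ z with h | h <;> omega
  | affineLine y P t hP hP2 he ho ht =>
    obtain ⟨x, rfl⟩ := unip_point_rational p G y (by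
      show Nat.card (D.Q y) ≠ 1
      omega)
    have hprod := TwoFixed.o_mul_e (G := H) (ptExt p x)
    rw [ho, he, hn] at hprod
    obtain ⟨A, h, hA, hc⟩ := affineLine_form p G x P t hP hP2 he ho ht
    have hP4 : P ≤ 5 := by
      by_contra hc
      have h1 : 7 * (6 * 1) ≤ (P + 1) * (P * t) :=
        Nat.mul_le_mul (by omega) (Nat.mul_le_mul (by omega) (by
          rcases ht with e | e <;> omega))
      rcases ht with e | e
      · subst e
        have : 7 * (6 * 5) ≤ (P + 1) * (P * (P - 1)) :=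
          Nat.mul_le_mul (by omega) (Nat.mul_le_mul (by omega) (by omega))
        omega
      · have : 7 * (6 * 2) ≤ (P + 1) * (P * t) :=
          Nat.mul_le_mul (by omega) (Nat.mul_le_mul (by omega) (by omega))
        omega
    have hP4' : P = 4 ∨ P = 5 := by
      interval_cases P <;> rcases ht with e | e <;> omega
    rcases hP4' with rfl | rfl
    · rcases hc with hc | ⟨hodd, -⟩
      · exact ⟨A, h, hA, hc⟩
      · omega
    · exfalso
      haveI := Fact.mk (show Nat.Prime 5 by norm_num)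
      obtain ⟨g, hg⟩ := exists_prime_orderOf_dvd_card' (G := D.Q (ptExt p x)) 5
        (show 5 ∣ Nat.card (D.Q (ptExt p x)) by rw [hP])
      have h2 := orderOf_dvd_of_pow_eq_one (hinv g.1 _ g.2)
      rw [Subgroup.orderOf_coe, hg] at h2
      norm_num at h2

/-- In characteristic two a subgroup with a normal four-group has a fixed point. -/
theorem fixed_of_normal_pair (hp2 : p = 2) {G : Subgroup PG} {a b : PG} (ha : orderOf a = 2)
    (hb : orderOf b = 2) (hab : a * b = b * a)
    (hN : ∀ g ∈ G, g * a * g⁻¹ = a ∨ g * a * g⁻¹ = b ∨ g * a * g⁻¹ = a * b) :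
    ∃ x : OnePoint F, ∀ g ∈ G, g • x = x := by
  have ha1 : a ≠ 1 := fun e => by rw [e, orderOf_one] at ha; omega
  have hap : a ^ p = 1 := orderOf_dvd_iff_pow_eq_one.mp (by rw [ha]; exact hp2.symm.dvd)
  obtain ⟨x, hx⟩ := exists_fixed_of_unip p hap
  refine ⟨x, fun g hg => ?_⟩
  have hbx : b • x = x := fix_of_unip p ha1 hap hx (by rw [← mul_smul, hab, mul_smul, hx])
  have h' : (g * a * g⁻¹) • x = x := by
    rcases hN g hg with e | e | e <;> rw [e]
    · exact hx
    · exact hbx
    · rw [mul_smul, hbx, hx]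
  rw [mul_smul, mul_smul] at h'
  have h'' : a • g⁻¹ • x = g⁻¹ • x := eq_inv_smul_iff.mpr h'
  have := fix_of_unip p ha1 hap hx h''
  exact (inv_smul_eq_iff.mp this).symm

end CfsgLib.Classical.Dickson
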