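import Cfsg.Agent.Lib.Classical.Dickson.MaxBasic

/-!
# The maximal subgroups of `PGL₂(q)` and `PSL₂(q)`
-/

set_option autoImplicit false
set_option linter.unusedSectionVars false
set_option linter.style.haveILetI false
set_option linter.unusedVariables false

namespace CfsgLib.Classical.Dickson

open Matrix OnePoint MulAction Equiv
open scoped MatrixGroups

variable {F : Type*} [Field F] [Fintype F] [DecidableEq F] (p : ℕ) [hp : Fact p.Prime] [CharP F p]

local notation "PG" => ProjGenLinGroup (Fin 2) F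

/-- The kinds of maximal subgroups. -/
inductive MaxKind (Γ M : Subgroup PG) : Prop
  | stab (x : OnePoint F) (hM : M = stabIn Γ x)
  | tori (c : PG) (hc : ¬ p ∣ orderOf c) (hc1 : c ≠ 1) (hcΓ : c ∈ Γ) (hM : M = pairStab p Γ c)
  | a4 (hΓ : Γ = sln F) (hq : Fintype.card F = p)
      (h8 : Fintype.card F % 8 = 3 ∨ Fintype.card F % 8 = 5)
      (h10 : ¬ (Fintype.card F % 10 = 1 ∨ Fintype.card F % 10 = 9))
      (hM : Nonempty (M ≃* alternatingGroup (Fin 4)))
  | s4 (hodd : Fintype.card F % 2 = 1) (hq : Fintype.card F = p)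
      (hsln : Γ = sln F → (Fintype.card F % 8 = 1 ∨ Fintype.card F % 8 = 7))
      (htop : Γ = ⊤ → (Fintype.card F % 8 = 3 ∨ Fintype.card F % 8 = 5))
      (hM : Nonempty (M ≃* Perm (Fin 4)))
  | a5 (hΓ : Γ = sln F) (hmod : Fintype.card F % 10 = 1 ∨ Fintype.card F % 10 = 9)
      (hq : Fintype.card F = p ∨ (Fintype.card F = p ^ 2 ∧ (p % 10 = 3 ∨ p % 10 = 7)))
      (hM : Nonempty (M ≃* alternatingGroup (Fin 5)))
  | pgl (A : Subfield F) (r : ℕ) (h : PG) (hr : r.Prime) (hd : Fintype.card F = Nat.card A ^ r)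
      (hA : 3 ≤ Nat.card A)
      (hsln : Fintype.card F % 2 = 1 → Γ = sln F → r = 2)
      (htop : Fintype.card F % 2 = 1 → Γ = ⊤ → Odd r)
      (hM : M.map (MulAut.conj h).toMonoidHom = ratPGL A)
  | psl (A : Subfield F) (r : ℕ) (h : PG) (hr : r.Prime) (hd : Fintype.card F = Nat.card A ^ r)
      (hΓ : Γ = sln F) (hodd : Fintype.card F % 2 = 1) (hr2 : Odd r)
      (hM : M.map (MulAut.conj h).toMonoidHom = ratPSL A)

variable {p}
variable {Γ M : Subgroup (ProjGenLinGroup (Fin 2) F)}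

theorem MaxIn.of_fixed (hΓ : IsBig Γ) (hM : MaxIn Γ M) {x : OnePoint F}
    (h : ∀ g ∈ M, g • x = x) : M = stabIn Γ x :=
  (hM.eq _ (fun g hg => mem_stabIn.mpr ⟨hM.le hg, h g hg⟩) (fun g hg => (mem_stabIn.mp hg).1)
    (stabIn_ne hΓ.sln_le x)).symm

theorem MaxIn.eq_pairStab (hΓ : IsBig Γ) (hq : 4 ≤ Fintype.card F) (hM : MaxIn Γ M) {c : PG}
    (hc : ¬ p ∣ orderOf c) (hc1 : c ≠ 1) (hcM : c ∈ M)
    (hn : ∀ g ∈ M, g * c * g⁻¹ ∈ Subgroup.zpowers c) : M = pairStab p Γ c := by
  obtain ⟨h, -, -, -, -, -, -, -, hne⟩ := pairStab_data p hΓ hq hc hc1 (hM.le hcM)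
  refine (hM.eq _ (fun g hg => normalizing_mem_pairStab (hM.le hg) (hn g hg) ?_) (fun g hg => hg.1) hne).symm
  simpa using hn g⁻¹ (inv_mem hg)

theorem MaxIn.ne_zpowers (hΓ : IsBig Γ) (hq : 4 ≤ Fintype.card F) (hM : MaxIn Γ M) {c : PG}
    (hc : ¬ p ∣ orderOf c) : M ≠ Subgroup.zpowers c := by
  intro e
  by_cases hc1 : c = 1
  · subst hc1
    rw [Subgroup.zpowers_one_eq_bot] at e
    have h := (hM.eq (stabIn Γ ∞) (e ▸ bot_le) (fun g hg => (mem_stabIn.mp hg).1)
      (stabIn_ne hΓ.sln_le ∞)).trans e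
    have h1 := card_stabIn hΓ.sln_le (∞ : OnePoint F)
    rw [h, Subgroup.card_bot, one_mul] at h1
    have := hΓ.two_mul_lt hq
    omega
  · have hcM : c ∈ M := e ▸ Subgroup.mem_zpowers c
    have hcp := pow_ne_one_of_semisimple hc hc1
    have hcomm : ∀ g ∈ M, g * c * g⁻¹ ∈ Subgroup.zpowers c := fun g hg => by
      rw [e] at hg
      obtain ⟨k, rfl⟩ := Subgroup.mem_zpowers_iff.mp hg
      exact mul_mem (mul_mem (zpow_mem (Subgroup.mem_zpowers c) k) (Subgroup.mem_zpowers c))
        (inv_mem (zpow_mem (Subgroup.mem_zpowers c) k))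
    obtain ⟨h, hh, hhT, -⟩ := pairStab_data p hΓ hq hc hc1 (hM.le hcM)
    have heq := hM.eq_pairStab hΓ hq hc hc1 hcM hcomm
    refine hhT (?_ : h ∈ torus p Γ c)
    rw [← heq, e] at hh
    exact (Subgroup.zpowers_le.mpr (show c ∈ torus p Γ c from ⟨hM.le hcM, fun z hz => hz⟩)) hh

theorem sln_not_le_conj (h : PG) (hL : ¬ sln F ≤ M) :
    ¬ sln F ≤ M.map (MulAut.conj h).toMonoidHom := fun e => hL (by
  have := Subgroup.map_mono (f := (MulAut.conj h⁻¹).toMonoidHom) e
  rw [map_conj_map_conj] at this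
  refine le_trans ?_ this
  intro g hg
  exact ⟨h * g * h⁻¹, sln_normal.conj_mem g hg h, by simp [mul_assoc]⟩)

theorem IsBig.eq_sln_of_le (hΓ : IsBig Γ) (hM : MaxIn Γ M) (hle : M ≤ sln F) (hL : ¬ sln F ≤ M) :
    Γ = sln F := by
  by_contra hne
  exact hL (hM.eq (sln F) hle hΓ.sln_le (Ne.symm hne) ▸ le_rfl)

/-- Intermediate fields. -/
theorem exists_proper_between (A : Subfield F) {d : ℕ} (hd : Fintype.card F = Nat.card A ^ d)
    {e : ℕ} (he : e ∣ d) (he1 : 1 < e) (hed : e < d) :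
    ∃ (E : Subfield F) (d' : ℕ), A ≤ E ∧ Nat.card E = Nat.card A ^ e ∧
      Fintype.card F = Nat.card E ^ d' ∧ d = e * d' ∧ 2 ≤ d' ∧ Nat.card A < Nat.card E := by
  obtain ⟨p', hp'⟩ := CharP.exists F
  haveI := Fact.mk (CharP.char_is_prime F p')
  obtain ⟨E, hAE, hE⟩ := exists_intermediate p' A hd he
  obtain ⟨d', rfl⟩ := he
  refine ⟨E, d', hAE, hE, by rw [hE, ← pow_mul, hd], rfl, ?_, ?_⟩
  · by_contra h
    rcases (show d' = 0 ∨ d' = 1 by omega) with rfl | rfl <;> simp at hed
  · rw [hE]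
    calc Nat.card A = Nat.card A ^ 1 := (pow_one _).symm
      _ < Nat.card A ^ e := Nat.pow_lt_pow_right (two_le_card A) he1

theorem pgl_case (hΓ : IsBig Γ) (hq : 4 ≤ Fintype.card F) (hM : MaxIn Γ M) (hL : ¬ sln F ≤ M)
    {A : Subfield F} {h : PG} (hc : M.map (MulAut.conj h).toMonoidHom = ratPGL A) : MaxKind p Γ M := by
  classical
  by_cases hA : 3 ≤ Nat.card A
  swap
  · -- the symmetric group of degree three
    have hA2 : Nat.card A = 2 := by have := two_le_card A; omega
    have h2 : (2 : F) = 0 := two_eq_zero_of_even A (by rw [hA2])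
    have hp2 : p = 2 := by
      have h' : ((2 : ℕ) : F) = 0 := by simpa using h2
      rw [CharP.cast_eq_zero_iff F p] at h'
      exact (Nat.prime_dvd_prime_iff_eq hp.out Nat.prime_two).mp h'
    have h6 : Nat.card M = 6 := by rw [← card_map_conj h M, hc, card_ratPGL, hA2]
    haveI := Fact.mk Nat.prime_three
    obtain ⟨c, hc3⟩ := exists_prime_orderOf_dvd_card' (G := M) 3 (by rw [h6]; norm_num)
    have hord : orderOf (c : PG) = 3 := by rw [Subgroup.orderOf_coe, hc3]
    have hidx : (Subgroup.zpowers c).index = 2 := by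
      have := (Subgroup.zpowers c).card_mul_index
      rw [Nat.card_zpowers, hc3, h6] at this
      omega
    haveI := Subgroup.normal_of_index_eq_two hidx
    refine .tori (c : PG) (by rw [hord, hp2]; norm_num) (fun e => by rw [e, orderOf_one] at hord; omega)
      (hM.le c.2) (hM.eq_pairStab hΓ hq (by rw [hord, hp2]; norm_num)
        (fun e => by rw [e, orderOf_one] at hord; omega) c.2 fun g hg => ?_)
    obtain ⟨k, hk⟩ := Subgroup.mem_zpowers_iff.mp
      (Subgroup.Normal.conj_mem (H := Subgroup.zpowers c) inferInstance c (Subgroup.mem_zpowers c) ⟨g, hg⟩)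
    refine Subgroup.mem_zpowers_iff.mpr ⟨k, ?_⟩
    have := congrArg Subtype.val hk
    simpa using this
  have hM' := hM.conj hΓ.normal h
  have hL' := sln_not_le_conj h hL
  rw [hc] at hM' hL'
  obtain ⟨a, d, ha, hd0, hAp, hFp, hd⟩ := subfield_data p A
  have hd2 : 2 ≤ d := by
    by_contra hd1
    obtain rfl : d = 1 := by omega
    rw [pow_one] at hd
    rw [eq_top_of_card hd.symm, ratPGL_top] at hL'
    exact hL' le_top
  -- no intermediate field
  have hbetween : ∀ e, e ∣ d → 1 < e → e < d →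
      (∀ E : Subfield F, Fintype.card F = Nat.card E ^ (d / e) → ratPGL E ≤ Γ) → False := by
    intro e he he1 hed hok
    obtain ⟨E, d', hAE, hE, hF', hdd, hd', hlt⟩ := exists_proper_between A hd he he1 hed
    refine hM'.absurd_of_card (ratPGL_mono hAE) (hok E ?_) ?_ (card_ratPGL_lt hΓ E hF' hd')
    · rw [hdd, Nat.mul_div_cancel_left _ (by omega)]; exact hF'
    · rw [card_ratPGL, card_ratPGL]
      have h3 : (Nat.card A + 1) * Nat.card A < (Nat.card E + 1) * Nat.card E :=
        Nat.mul_lt_mul_of_le_of_lt (by omega) hlt (by omega)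
      calc _ < (Nat.card E + 1) * Nat.card E * (Nat.card A - 1) :=
            Nat.mul_lt_mul_of_pos_right h3 (by omega)
        _ ≤ _ := Nat.mul_le_mul_left _ (by omega)
  rcases Nat.mod_two_eq_zero_or_one (Fintype.card F) with heven | hodd
  · have htop : Γ = ⊤ := by
      rcases hΓ with e | e
      · exact e
      · rw [e, sln_eq_top_of_even heven]
    refine .pgl A d h ?_ hd hA (fun e => absurd e (by omega)) (fun e => absurd e (by omega)) hc
    by_contra hnp
    obtain ⟨e, he, he1, hed⟩ := Nat.exists_dvd_of_not_prime2 hd2 hnp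
    exact hbetween e he (by omega) hed fun E _ => htop ▸ le_top
  · rcases hΓ with htop | hsln
    · have hprime : d.Prime := by
        by_contra hnp
        obtain ⟨e, he, he1, hed⟩ := Nat.exists_dvd_of_not_prime2 hd2 hnp
        exact hbetween e he (by omega) hed fun E _ => htop ▸ le_top
      refine .pgl A d h hprime hd hA (fun _ e => ?_) (fun _ _ => ?_) hc
      · exact absurd (e.symm.trans htop) (sln_ne_top_of_odd hodd)
      · rw [← Nat.not_even_iff_odd]
        intro hev
        have h1 : ratPGL A ≤ sln F :=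
          (ratPGL_le_sln_iff A).mpr ((forall_isSquare_iff A hd (Nat.odd_iff.mpr hodd)).mpr hev)
        exact sln_ne_top_of_odd hodd ((IsBig.eq_sln_of_le (Or.inl htop) hM' h1 hL').symm.trans htop)
    · have hev : Even d := (forall_isSquare_iff A hd (Nat.odd_iff.mpr hodd)).mp
        ((ratPGL_le_sln_iff A).mp (hM'.le.trans_eq hsln))
      have hd_eq : d = 2 := by
        by_contra hne
        obtain ⟨k, hk⟩ := hev
        refine hbetween k ⟨2, by omega⟩ (by omega) (by omega) fun E hE => ?_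
        rw [hsln, ratPGL_le_sln_iff]
        refine (forall_isSquare_iff E hE (Nat.odd_iff.mpr hodd)).mpr ?_
        rw [show d = k * 2 by omega, Nat.mul_div_cancel_left _ (by omega)]
        exact even_two
      exact .pgl A d h (hd_eq ▸ Nat.prime_two) hd hA (fun _ _ => hd_eq)
        (fun _ e => absurd (hsln.symm.trans e) (sln_ne_top_of_odd hodd)) hc

theorem psl_case (hΓ : IsBig Γ) (hq : 4 ≤ Fintype.card F) (hM : MaxIn Γ M) (hL : ¬ sln F ≤ M)
    {A : Subfield F} {h : PG} (hA : Nat.card A % 2 = 1)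
    (hc : M.map (MulAut.conj h).toMonoidHom = ratPSL A) : MaxKind p Γ M := by
  classical
  have hM' := hM.conj hΓ.normal h
  have hL' := sln_not_le_conj h hL
  rw [hc] at hM' hL'
  obtain ⟨a, d, ha, hd0, hAp, hFp, hd⟩ := subfield_data p A
  have hsln : Γ = sln F := hΓ.eq_sln_of_le hM' (ratPSL_le_sln A) hL'
  have hodd : Fintype.card F % 2 = 1 := by
    rw [hd]; exact Nat.odd_iff.mp (Nat.odd_iff.mpr hA).pow
  have hd2 : 2 ≤ d := by
    by_contra hd1
    obtain rfl : d = 1 := by omega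
    rw [pow_one] at hd
    rw [eq_top_of_card hd.symm, ratPSL_top] at hL'
    exact hL' le_rfl
  have hcardA : 2 * Nat.card (ratPSL A) = Nat.card (ratPGL A) := by
    rcases card_ratPSL_cases A with ⟨-, h⟩ | ⟨h, -⟩ <;> omega
  have hdodd : Odd d := by
    rw [← Nat.not_even_iff_odd]
    intro hev
    refine hM'.absurd_of_card (ratPSL_le A) ?_ ?_ (card_ratPGL_lt hΓ A hd hd2)
    · rw [hsln, ratPGL_le_sln_iff]
      exact (forall_isSquare_iff A hd (Nat.odd_iff.mpr hodd)).mpr hev
    · have := Nat.card_pos (α := ratPSL A)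
      omega
  refine .psl A d h ?_ hd hsln hodd hdodd hc
  by_contra hnp
  obtain ⟨e, he, he1, hed⟩ := Nat.exists_dvd_of_not_prime2 hd2 hnp
  obtain ⟨E, d', hAE, hE, hF', hdd, hd', hlt⟩ := exists_proper_between A hd he (by omega) hed
  refine hM'.absurd_of_card (ratPSL_mono hAE) (hsln ▸ ratPSL_le_sln E) ?_
    (lt_of_le_of_lt (Subgroup.card_le_of_le (ratPSL_le E)) (card_ratPGL_lt hΓ E hF' hd'))
  have hEodd : Nat.card E % 2 = 1 := by rw [hE]; exact Nat.odd_iff.mp (Nat.odd_iff.mpr hA).pow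
  have hcardE : 2 * Nat.card (ratPSL E) = Nat.card (ratPGL E) := by
    rcases card_ratPSL_cases E with ⟨-, h⟩ | ⟨h, -⟩ <;> omega
  rw [card_ratPGL] at hcardA hcardE
  have h3 : (Nat.card A + 1) * Nat.card A * (Nat.card A - 1) <
      (Nat.card E + 1) * Nat.card E * (Nat.card E - 1) := by
    have h4 : (Nat.card A + 1) * Nat.card A < (Nat.card E + 1) * Nat.card E :=
      Nat.mul_lt_mul_of_le_of_lt (by omega) hlt (by omega)
    calc _ < (Nat.card E + 1) * Nat.card E * (Nat.card A - 1) :=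
          Nat.mul_lt_mul_of_pos_right h4 (by have := two_le_card A; omega)
      _ ≤ _ := Nat.mul_le_mul_left _ (by have := two_le_card A; omega)
  rw [← hcardA, ← hcardE] at h3
  omega

variable (p)

theorem prime_frame_of_odd (hodd : Fintype.card F % 2 = 1) :
    (2 : F) ≠ 0 ∧ ∃ Φ : Frame F, Φ.a₀ ∈ fixField p 1 ∧ Φ.b₀ ∈ fixField p 1 := by
  have h2 : (2 : F) ≠ 0 := Ring.two_ne_zero fun e => by
    have := FiniteField.even_card_iff_char_two.mp e
    omega
  exact ⟨h2, exists_prime_frame p h2⟩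

theorem card_eq_p_or (hq : 4 ≤ Fintype.card F) :
    Fintype.card F = p ∨ ∃ (n : ℕ), 2 ≤ n ∧ Fintype.card F = p ^ n ∧ Nat.card (fixField (F := F) p 1) = p := by
  obtain ⟨n, -, hn⟩ := FiniteField.card F p
  rcases Nat.lt_or_ge (n : ℕ) 2 with h | h
  · left
    rw [hn, show (n : ℕ) = 1 by have := n.pos; omega, pow_one]
  · exact Or.inr ⟨n, h, hn, by rw [card_fixField p hn (one_dvd _) one_ne_zero, pow_one]⟩

theorem a4_case (hΓ : IsBig Γ) (hq : 4 ≤ Fintype.card F) (hodd : Fintype.card F % 2 = 1)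
    (hM : MaxIn Γ M) (hL : ¬ sln F ≤ M) (f : M ≃* alternatingGroup (Fin 4)) : MaxKind p Γ M := by
  classical
  obtain ⟨h2, Φ, hΦa, hΦb⟩ := prime_frame_of_odd p hodd
  have hsln : Γ = sln F := hΓ.eq_sln_of_le hM (a4_le_sln f) hL
  obtain ⟨h, hc⟩ := Φ.std_a4 f
  have hM' := hM.conj hΓ.normal h
  rw [hc] at hM'
  have hcard := hΓ.card_ge hq
  have h8 : Fintype.card F % 8 = 3 ∨ Fintype.card F % 8 = 5 := by
    by_contra hne
    refine hM'.absurd_of_card Φ.g12_le24 ?_ (by rw [Φ.card_g12, Φ.card_g24]; norm_num)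
      (by rw [Φ.card_g24]; omega)
    rw [hsln, Φ.g24_le_sln_iff, FiniteField.isSquare_two_iff]
    omega
  rcases card_eq_p_or p hq with hqp | ⟨n, hn2, hn, hB⟩
  · refine .a4 hsln hqp h8 (fun h10 => ?_) ⟨f⟩
    have hp5 : p ≠ 5 := by omega
    obtain ⟨φ, hφ⟩ := exists_phi h2 (isSquare_five p h2 hp5 h10)
    obtain ⟨hc60, -⟩ := Φ.g60_iso (p := p) φ hφ hp5
    refine hM'.absurd_of_card (Φ.g12_le60 φ hφ) (hsln ▸ Φ.g60_le_sln φ hφ)
      (by rw [Φ.card_g12, hc60]; norm_num) ?_
    have h1 := hΓ.card_mul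
    have h2' := hΓ.index_le
    have h3 := three_mul_mono (show 11 ≤ Fintype.card F by omega)
    have h4 : Nat.card Γ * Γ.index ≤ Nat.card Γ * 2 := Nat.mul_le_mul_left _ h2'
    omega
  · obtain ⟨heq, hle⟩ := hM'.inf_rat hΓ (fixField p 1) (d := n) (by rw [hB, hn]) hn2
      (Φ.g12_le24.trans (Φ.g24_rational hΦa hΦb))
    have h12 := Subgroup.card_le_of_le hle
    have hlow := card_ratPSL_le (fixField (F := F) p 1)
    rw [Φ.card_g12] at h12
    rw [hB] at hlow
    have hp3 : p = 3 := by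
      have h1 := hp.out.two_le
      have h4 : p < 4 := by
        by_contra h4
        have := three_mul_mono (show 4 ≤ p by omega)
        omega
      have hpodd : p ≠ 2 := by rintro rfl; rw [hn, Nat.pow_mod] at hodd; simp [show n ≠ 0 by omega] at hodd
      omega
    refine psl_case hΓ hq hM hL (A := fixField p 1) (h := h) (by rw [hB, hp3]) ?_
    rw [hc]
    refine (Subgroup.eq_of_le_of_card_ge hle ?_).symm
    rw [Φ.card_g12]
    subst hp3
    omega

theorem s4_case (hΓ : IsBig Γ) (hq : 4 ≤ Fintype.card F) (hodd : Fintype.card F % 2 = 1)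
    (hM : MaxIn Γ M) (hL : ¬ sln F ≤ M) (f : M ≃* Perm (Fin 4)) : MaxKind p Γ M := by
  classical
  obtain ⟨h2, Φ, hΦa, hΦb⟩ := prime_frame_of_odd p hodd
  obtain ⟨h, hc⟩ := Φ.std_s4 f
  have hM' := hM.conj hΓ.normal h
  have hL' := sln_not_le_conj h hL
  rw [hc] at hM' hL'
  rcases card_eq_p_or p hq with hqp | ⟨n, hn2, hn, hB⟩
  · refine .s4 hodd hqp (fun e => ?_) (fun e => ?_) ⟨f⟩
    · have := (FiniteField.isSquare_two_iff).mp (Φ.g24_le_sln_iff.mp (e ▸ hM'.le))
      omega
    · by_contra hne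
      have h1 : Φ.g24 ≤ sln F := Φ.g24_le_sln_iff.mpr (FiniteField.isSquare_two_iff.mpr (by omega))
      exact sln_ne_top_of_odd hodd ((IsBig.eq_sln_of_le (Or.inl e) (e ▸ hM') h1 hL').symm.trans e)
  · obtain ⟨heq, hle⟩ := hM'.inf_rat hΓ (fixField p 1) (d := n) (by rw [hB, hn]) hn2
      (Φ.g24_rational hΦa hΦb)
    have h24 := Subgroup.card_le_of_le hle
    have hlow := card_ratPSL_le (fixField (F := F) p 1)
    rw [Φ.card_g24] at h24
    rw [hB] at hlow
    have hp3 : p = 3 := by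
      have h1 := hp.out.two_le
      have h5 : p < 5 := by
        by_contra h4
        have := three_mul_mono (show 5 ≤ p by omega)
        omega
      have hpodd : p ≠ 2 := by rintro rfl; rw [hn, Nat.pow_mod] at hodd; simp [show n ≠ 0 by omega] at hodd
      have hp4 : p ≠ 4 := by rintro rfl; exact absurd hp.out (by norm_num)
      omega
    refine pgl_case hΓ hq hM hL (A := fixField p 1) (h := h) ?_
    rw [hc]
    refine Subgroup.eq_of_le_of_card_ge (Φ.g24_rational hΦa hΦb) ?_
    rw [card_ratPGL, hB, hp3, Φ.card_g24]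

theorem a5_case (hΓ : IsBig Γ) (hq : 4 ≤ Fintype.card F) (hodd : Fintype.card F % 2 = 1)
    (hM : MaxIn Γ M) (hL : ¬ sln F ≤ M) (f : M ≃* alternatingGroup (Fin 5)) : MaxKind p Γ M := by
  classical
  obtain ⟨h2, Φ, hΦa, hΦb⟩ := prime_frame_of_odd p hodd
  have hsln : Γ = sln F := hΓ.eq_sln_of_le hM (a5_le_sln f) hL
  obtain ⟨h, hk⟩ := Φ.std_a5 f
  have hM' := hM.conj hΓ.normal h
  set M' := M.map (MulAut.conj h).toMonoidHom with hM'def
  let f' : M' ≃* alternatingGroup (Fin 5) := (conjEquiv h M).symm.trans f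
  have h60 : Nat.card M' = 60 := by
    rw [Nat.card_congr f'.toEquiv, nat_card_alternatingGroup, Nat.card_eq_fintype_card, Fintype.card_fin]
    rfl
  have hcardΓ : 2 * Nat.card Γ = (Fintype.card F + 1) * Fintype.card F * (Fintype.card F - 1) := by
    rw [hsln, ← card_sln]
    rcases dd_cases (F := F) with ⟨-, e⟩ | ⟨e, -⟩
    · omega
    · rw [e]
  obtain ⟨n, -, hn⟩ := FiniteField.card F p
  have hp2 : p ≠ 2 := prime_ne_two p h2
  -- the group is rational wherever the golden ratio is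
  have hrat : ∀ (B : Subfield F) (φ : F), φ * φ = φ + 1 → φ ∈ B → fixField p 1 ≤ B → M' ≤ ratPGL B := by
    intro B φ hφ hφB hB
    refine Φ.rational_of_traces (hB hΦa) (hB hΦb) (a5_le_sln f') hk fun s hs => ?_
    rcases exps_a5 f' _ hs with e | e | e | e
    · exact trace_mem_of_phi h2 s hφ hφB (Or.inl rfl) e
    · exact trace_mem_of_phi h2 s hφ hφB (Or.inr (Or.inl rfl)) e
    · exact trace_mem_of_phi h2 s hφ hφB (Or.inr (Or.inr (Or.inl rfl))) e
    · exact trace_mem_of_phi h2 s hφ hφB (Or.inr (Or.inr (Or.inr rfl))) e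
  have hbound : ∀ (B : Subfield F) (d : ℕ), Fintype.card F = Nat.card B ^ d → 2 ≤ d →
      M' ≤ ratPGL B → Nat.card B ≤ 5 ∧ ratPSL B ≤ M' := by
    intro B d hd hd2 hle
    obtain ⟨-, hle'⟩ := hM'.inf_rat hΓ B hd hd2 hle
    refine ⟨?_, hle'⟩
    have h1 := Subgroup.card_le_of_le hle'
    have h2' := card_ratPSL_le B
    rw [h60] at h1
    by_contra h6
    have := three_mul_mono (show 6 ≤ Nat.card B by omega)
    omega
  by_cases hp5 : p = 5
  · have h5F : (5 : F) = 0 := by
      have := CharP.cast_eq_zero F p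
      rw [hp5] at this
      simpa using this
    have hφ : (3 : F) * 3 = 3 + 1 := by linear_combination h5F
    have h3 : (3 : F) ∈ fixField (F := F) p 1 := by
      rw [show (3 : F) = 1 + 1 + 1 by norm_num]
      exact add_mem (add_mem (one_mem _) (one_mem _)) (one_mem _)
    rcases card_eq_p_or p hq with hqp | ⟨m, hm2, hm, hB⟩
    · exfalso
      rw [hqp, hp5] at hcardΓ
      refine hM'.ne (Subgroup.eq_of_le_of_card_ge hM'.le ?_)
      rw [h60]
      omega
    · obtain ⟨-, hle⟩ := hbound (fixField p 1) m (by rw [hB, hm]) hm2 (hrat _ 3 hφ h3 le_rfl)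
      refine psl_case hΓ hq hM hL (A := fixField p 1) (h := h) (by rw [hB, hp5]) ?_
      refine (Subgroup.eq_of_le_of_card_ge hle ?_).symm
      have := card_ratPSL_le (fixField (F := F) p 1)
      rw [hB] at this
      rw [h60]
      subst hp5
      omega
  -- five divides the order
  have hmod : Fintype.card F % 10 = 1 ∨ Fintype.card F % 10 = 9 := by
    have hdvd : 5 ∣ (Fintype.card F + 1) * Fintype.card F * (Fintype.card F - 1) := by
      rw [← hcardΓ]
      exact Dvd.dvd.mul_left (((by norm_num : 5 ∣ 60).trans (h60 ▸ dvd_rfl)).trans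
        (Subgroup.card_dvd_of_le hM'.le)) 2
    have h5 : ¬ 5 ∣ Fintype.card F := by
      rw [hn]
      intro e
      exact hp5 ((Nat.prime_dvd_prime_iff_eq (by norm_num) hp.out).mp
        ((show Nat.Prime 5 by norm_num).dvd_of_dvd_pow e)).symm
    rcases ((show Nat.Prime 5 by norm_num).dvd_mul.mp hdvd) with e | e
    · rcases ((show Nat.Prime 5 by norm_num).dvd_mul.mp e) with e | e
      · omega
      · exact absurd e h5
    · omega
  have hq10 : Fintype.card F % 10 = p ^ (n : ℕ) % 10 := by rw [hn]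
  by_cases hp10 : p % 10 = 1 ∨ p % 10 = 9
  · refine .a5 hsln hmod ?_ ⟨f⟩
    rcases card_eq_p_or p hq with hqp | ⟨m, hm2, hm, hB⟩
    · exact Or.inl hqp
    · exfalso
      haveI := Fact.mk hp.out
      have h2z : (2 : ZMod p) ≠ 0 := fun e => h2 (by
        have := congrArg (ZMod.castHom dvd_rfl F) e
        rwa [map_ofNat, map_zero] at this)
      obtain ⟨φ₀, hφ₀⟩ := exists_phi h2z (isSquare_five (F := ZMod p) p h2z hp5 (by rw [ZMod.card]; exact hp10))
      obtain ⟨hle5, -⟩ := hbound (fixField p 1) m (by rw [hB, hm]) hm2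
        (hrat _ (ZMod.castHom dvd_rfl F φ₀)
          (by rw [← map_mul, hφ₀, map_add, map_one])
          (by rw [mem_fixField, pow_one, ← map_pow, ZMod.pow_card]) le_rfl)
      rw [hB] at hle5
      have := hp.out.two_le
      omega
  · -- even degree
    have hp37 : p % 10 = 3 ∨ p % 10 = 7 := by
      have h2' : p % 2 = 1 := (hp.out.eq_two_or_odd).resolve_left hp2
      have h5' : p % 5 ≠ 0 := fun e => hp5
        ((Nat.prime_dvd_prime_iff_eq (by norm_num) hp.out).mp (Nat.dvd_of_mod_eq_zero e)).symm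
      omega
    have hev : Even (n : ℕ) := by
      rw [← Nat.not_odd_iff_even]
      rintro ⟨k, hk⟩
      have h1 : ∀ k : ℕ, p ^ (2 * k + 1) % 5 = 2 ∨ p ^ (2 * k + 1) % 5 = 3 := by
        intro k
        induction k with
        | zero => simp; omega
        | succ k ih =>
          rw [show 2 * (k + 1) + 1 = 2 * k + 1 + 1 + 1 by ring, pow_succ, pow_succ, Nat.mul_mod,
            Nat.mul_mod (p ^ (2 * k + 1))]
          rcases ih with e | e <;> rcases (show p % 5 = 2 ∨ p % 5 = 3 by omega) with e' | e' <;>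
            rw [e, e'] <;> norm_num
      have := h1 k
      rw [← hk] at this
      omega
    refine .a5 hsln hmod (Or.inr ⟨?_, hp37⟩) ⟨f⟩
    obtain ⟨φ, hφ⟩ := exists_phi h2 (isSquare_five p h2 hp5 hmod)
    have hB : Nat.card (fixField (F := F) p 2) = p ^ 2 :=
      card_fixField p hn (even_iff_two_dvd.mp hev) two_ne_zero
    by_contra hne
    obtain ⟨k, hk⟩ := hev
    have hk2 : 2 ≤ k := by
      by_contra hk2
      have := n.pos
      rw [hk, show k = 1 by omega] at hn
      exact hne hn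
    obtain ⟨hle5, -⟩ := hbound (fixField p 2) k (by rw [hB, ← pow_mul, hn, hk, two_mul]) hk2
      (hrat _ φ (hφ) (phi_mem_fixField h2 hφ) (fixField_one_le 2))
    rw [hB] at hle5
    have : 3 * 3 ≤ p ^ 2 := by rw [pow_two]; exact Nat.mul_le_mul (by omega) (by omega)
    omega

/-- Groups with a normal four-group in characteristic two. -/
theorem fixed_of_four (hp2 : p = 2) (emb : M →* Perm (Fin 4)) (hemb : Function.Injective emb)
    (hA : ∀ x : Perm (Fin 4), x ∈ alternatingGroup (Fin 4) → x ∈ emb.range) :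
    ∃ x : OnePoint F, ∀ g ∈ M, g • x = x := by
  obtain ⟨a, ha⟩ := hA (swap 0 1 * swap 2 3) (Equiv.Perm.mem_alternatingGroup.mpr (by decide))
  obtain ⟨b, hb⟩ := hA (swap 0 2 * swap 1 3) (Equiv.Perm.mem_alternatingGroup.mpr (by decide))
  have ho : ∀ u : M, orderOf (u : PG) = orderOf (emb u) := fun u => by
    rw [Subgroup.orderOf_coe, orderOf_injective emb hemb]
  refine fixed_of_normal_pair p hp2 (a := (a : PG)) (b := (b : PG))
    (by rw [ho, ha]; exact orderOf_eq_prime (by decide) (by decide))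
    (by rw [ho, hb]; exact orderOf_eq_prime (by decide) (by decide)) ?_ fun g hg => ?_
  · rw [← Subgroup.coe_mul, ← Subgroup.coe_mul]
    exact congrArg Subtype.val (hemb (by rw [map_mul, map_mul, ha, hb]; decide) : a * b = b * a)
  · have h := (klein_normal_four (emb ⟨g, hg⟩)).1
    rw [← ha, ← hb, ← map_inv, ← map_mul, ← map_mul, ← map_mul] at h
    simp only [Finset.mem_insert, Finset.mem_singleton] at h
    rcases h with e | e | e
    · exact Or.inl (congrArg Subtype.val (hemb e))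
    · exact Or.inr (Or.inl (congrArg Subtype.val (hemb e)))
    · exact Or.inr (Or.inr (congrArg Subtype.val (hemb e)))

/-- The maximal subgroups of `PGL₂(q)` and `PSL₂(q)` not containing `PSL₂(q)`. -/
theorem maxKind (hΓ : IsBig Γ) (hq : 4 ≤ Fintype.card F) (hM : MaxIn Γ M) (hL : ¬ sln F ≤ M) :
    MaxKind p Γ M := by
  classical
  have heven2 : Fintype.card F % 2 = 0 → p = 2 := fun he => by
    obtain ⟨n, -, hn⟩ := FiniteField.card F p
    rw [hn] at he
    exact ((Nat.prime_dvd_prime_iff_eq Nat.prime_two hp.out).mp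
      (Nat.prime_two.dvd_of_dvd_pow (Nat.dvd_of_mod_eq_zero he))).symm
  cases kind p M with
  | fixed x h => exact .stab x (hM.of_fixed hΓ h)
  | cyclic c hc hcp => exact absurd hc (hM.ne_zpowers hΓ hq hcp)
  | dihedral c hc hcp h2 hG =>
    obtain ⟨f⟩ := hG
    have hc1 : c ≠ 1 := fun e => by rw [e, orderOf_one] at h2; omega
    exact .tori c hcp hc1 (hM.le hc) (hM.eq_pairStab hΓ hq hcp hc1 hc (dihedral_normalizes hc h2 f))
  | a4 h =>
    obtain ⟨f⟩ := h
    rcases Nat.mod_two_eq_zero_or_one (Fintype.card F) with he | ho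
    · obtain ⟨x, hx⟩ := fixed_of_four p (heven2 he) ((alternatingGroup (Fin 4)).subtype.comp f.toMonoidHom)
        (Subtype.val_injective.comp f.injective) fun x hx => ⟨f.symm ⟨x, hx⟩, by simp⟩
      exact .stab x (hM.of_fixed hΓ hx)
    · exact a4_case p hΓ hq ho hM hL f
  | s4 h =>
    obtain ⟨f⟩ := h
    rcases Nat.mod_two_eq_zero_or_one (Fintype.card F) with he | ho
    · obtain ⟨x, hx⟩ := fixed_of_four p (heven2 he) f.toMonoidHom f.injective
        fun x _ => ⟨f.symm x, f.apply_symm_apply x⟩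
      exact .stab x (hM.of_fixed hΓ hx)
    · exact s4_case p hΓ hq ho hM hL f
  | a5 h =>
    obtain ⟨f⟩ := h
    rcases Nat.mod_two_eq_zero_or_one (Fintype.card F) with he | ho
    · obtain ⟨A, h, -, hc⟩ := a5_char_two p (heven2 he) f
      exact pgl_case hΓ hq hM hL hc
    · exact a5_case p hΓ hq ho hM hL f
  | pgl A h hG => exact pgl_case hΓ hq hM hL hG
  | psl A hA h hG => exact psl_case hΓ hq hM hL hA hG

end CfsgLib.Classical.Dickson
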