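import Cfsg.Agent.Lib.Classical.Dickson.MaxClass

/-!
# Small exceptions among the dihedral subgroups
-/

set_option autoImplicit false
set_option linter.unusedSectionVars false
set_option linter.style.haveILetI false
set_option linter.unusedVariables false

namespace CfsgLib.Classical.Dickson

open Matrix OnePoint MulAction Equiv
open scoped MatrixGroups

variable {F : Type*} [Field F] [Fintype F] [DecidableEq F] (p : ℕ) [hp : Fact p.Prime] [CharP F p]

local notation "PG" => ProjGenLinGroup (Fin 2) F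

variable {Γ M : Subgroup (ProjGenLinGroup (Fin 2) F)}

/-- The data of a torus normaliser. -/
theorem tori_shape (hΓ : IsBig Γ) (hq : 4 ≤ Fintype.card F) {c : PG} (hc : ¬ p ∣ orderOf c) (hc1 : c ≠ 1)
    (hcΓ : c ∈ Γ) :
    ∃ k, k = Nat.card (torus p Γ c) ∧ (k * Γ.index = Fintype.card F - 1 ∨ k * Γ.index = Fintype.card F + 1) ∧
      Nat.card (pairStab p Γ c) = 2 * k ∧ Nonempty (pairStab p Γ c ≃* DihedralGroup k) := by
  obtain ⟨h, -, -, -, -, -, h2, h3, -⟩ := pairStab_data p hΓ hq hc hc1 hcΓ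
  obtain ⟨z, z', -, -, -, h4⟩ := torus_data p hΓ hq hc hc1 hcΓ
  exact ⟨_, rfl, h4.imp And.right And.right, h2, h3⟩

theorem MaxIn.not_prime_power (hM : MaxIn Γ M) {X : Subgroup PG} (hX : X ≤ Γ) {l a : ℕ} [Fact l.Prime]
    (hcard : Nat.card M = l ^ a) (hfull : ¬ l ^ (a + 1) ∣ Nat.card Γ) (hdvd : l ^ a ∣ Nat.card X)
    (h1 : Nat.card M < Nat.card X) (h2 : Nat.card X < Nat.card Γ) (hΓn : Γ.Normal) : False := by
  obtain ⟨g, -, hg⟩ := exists_conj_le hM.le hX hcard hfull hdvd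
  exact (hM.conj hΓn g).absurd_of_card hg hX (by rwa [card_map_conj]) h2

theorem MaxIn.not_small_dihedral (hΓ : IsBig Γ) (hq : 4 ≤ Fintype.card F) (hM : MaxIn Γ M) {c : PG}
    (hc : ¬ p ∣ orderOf c) (hc1 : c ≠ 1) (hcΓ : c ∈ Γ) (hMeq : M = pairStab p Γ c)
    {X : Subgroup PG} (hX : X ≤ Γ) {k : ℕ} [Fact k.Prime] (hk : 3 ≤ k)
    (hT : Nat.card (torus p Γ c) = k) (hfull : ¬ k ^ 2 ∣ Nat.card Γ) (hdvd : k ∣ Nat.card X)
    (hinv : ∀ x ∈ X, x ^ k = 1 → ∃ y ∈ X, y * x * y⁻¹ = x⁻¹)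
    (h1 : 2 * k < Nat.card X) (h2 : Nat.card X < Nat.card Γ) : False := by
  have hcp := pow_ne_one_of_semisimple hc hc1
  set T := torus p Γ c
  have hcT : c ∈ T := ⟨hcΓ, fun z hz => hz⟩
  have hck : c ^ k = 1 := by
    rw [← hT]
    exact congrArg Subtype.val (pow_card_eq_one' (x := (⟨c, hcT⟩ : T)))
  obtain ⟨g, hgΓ, hg⟩ := exists_conj_le (a := 1) (fun x (hx : x ∈ T) => hx.1) hX
    (by rw [hT, pow_one]) hfull (by rwa [pow_one])
  have hx : MulAut.conj g c ∈ X := hg ⟨c, hcT, rfl⟩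
  obtain ⟨y, hy, hyx⟩ := hinv _ hx (by rw [← map_pow, hck, map_one])
  set y' := g⁻¹ * y * g with hy'
  have hyc : y' * c * y'⁻¹ = c⁻¹ := by
    have := congrArg (MulAut.conj g⁻¹) hyx
    simpa [hy', mul_assoc] using this
  have hyM : y' ∈ M := by
    rw [hMeq]
    refine normalizing_mem_pairStab (mul_mem (mul_mem (inv_mem hgΓ) (hX hy)) hgΓ)
      (hyc ▸ inv_mem (Subgroup.mem_zpowers c)) ?_
    have : y'⁻¹ * c * y' = c⁻¹ := by
      have h' := congrArg Inv.inv hyc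
      simp only [_root_.mul_inv_rev, inv_inv] at h'
      calc y'⁻¹ * c * y' = y'⁻¹ * (y' * (c⁻¹ * y'⁻¹)) * y' := by rw [h']
        _ = c⁻¹ := by group
    exact this ▸ inv_mem (Subgroup.mem_zpowers c)
  have hyT : y' ∉ T := fun h => by
    have hcomm := commute_torus hcp hcΓ h
    rw [hcomm, mul_inv_cancel_right] at hyc
    have hc2 : c ^ 2 = 1 := by rw [pow_two]; exact eq_inv_iff_mul_eq_one.mp hyc
    have hd := Nat.dvd_gcd (orderOf_dvd_of_pow_eq_one hck) (orderOf_dvd_of_pow_eq_one hc2)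
    rw [(Nat.coprime_primes (Fact.out : k.Prime) Nat.prime_two).mpr (by omega)] at hd
    exact hc1 (orderOf_eq_one_iff.mp (Nat.dvd_one.mp hd))
  set X' := X.map (MulAut.conj g⁻¹).toMonoidHom
  have hTX : T ≤ X' := fun t ht => ⟨MulAut.conj g t, hg ⟨t, ht, rfl⟩, by simp [mul_assoc]⟩
  have hyX : y' ∈ X' := ⟨y, hy, by simp [hy', mul_assoc]⟩
  have hTM : T ≤ M := hMeq ▸ torus_le_pairStab hcp
  obtain ⟨-, -, -, -, -, -, hcardM, -, -⟩ := pairStab_data p hΓ hq hc hc1 hcΓ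
  rw [← hMeq, hT] at hcardM
  have hMX : M ≤ X' := by
    have hd1 : k ∣ Nat.card (X' ⊓ M : Subgroup PG) := hT ▸ Subgroup.card_dvd_of_le (le_inf hTX hTM)
    have hd2 : Nat.card (X' ⊓ M : Subgroup PG) ∣ 2 * k := hcardM ▸ Subgroup.card_dvd_of_le inf_le_right
    obtain ⟨m, hm⟩ := hd1
    rw [hm, mul_comm 2] at hd2
    have hm2 := Nat.dvd_of_mul_dvd_mul_left (by omega) hd2
    rcases (Nat.dvd_prime Nat.prime_two).mp hm2 with rfl | rfl
    · exfalso
      have heq : T = X' ⊓ M := Subgroup.eq_of_le_of_card_ge (le_inf hTX hTM) (by rw [hm, hT, mul_one])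
      exact hyT (heq ▸ Subgroup.mem_inf.mpr ⟨hyX, hyM⟩)
    · exact (Subgroup.eq_of_le_of_card_ge (inf_le_right : X' ⊓ M ≤ M) (by rw [hm, hcardM, mul_comm])).ge.trans
        inf_le_left
  refine hM.absurd_of_card hMX (map_conj_le hΓ.normal _ hX) ?_ ?_
  · rw [card_map_conj, hcardM]; omega
  · rwa [card_map_conj]

namespace Frame

variable (Φ : Frame F)

theorem g24_inverts : ∀ x ∈ Φ.g24, x ^ 3 = 1 → ∃ y ∈ Φ.g24, y * x * y⁻¹ = x⁻¹ := by
  obtain ⟨f⟩ := Φ.g24_iso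
  have key : ∀ x : Perm (Fin 4), x ^ 3 = 1 → ∃ y, y * x * y⁻¹ = x⁻¹ := by decide +kernel
  intro x hx h3
  obtain ⟨y, hy⟩ := key (f ⟨x, hx⟩) (by
    rw [← map_pow, MulEquiv.map_eq_one_iff]; exact Subtype.ext h3)
  refine ⟨f.symm y, (f.symm y).2, ?_⟩
  have := congrArg f.symm hy
  rw [map_mul, map_mul, map_inv, map_inv, MulEquiv.symm_apply_apply] at this
  exact congrArg Subtype.val this

theorem g60_inverts (φ : F) (hφ : φ * φ = φ + 1) (hp5 : p ≠ 5) :
    ∀ x ∈ Φ.g60 φ hφ, x ^ 5 = 1 → ∃ y ∈ Φ.g60 φ hφ, y * x * y⁻¹ = x⁻¹ := by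
  obtain ⟨-, ⟨f⟩⟩ := Φ.g60_iso (p := p) φ hφ hp5
  have key : ∀ x : alternatingGroup (Fin 5), x ^ 5 = 1 → ∃ y, y * x * y⁻¹ = x⁻¹ := by decide +kernel
  intro x hx h5
  obtain ⟨y, hy⟩ := key (f ⟨x, hx⟩) (by
    rw [← map_pow, MulEquiv.map_eq_one_iff]; exact Subtype.ext h5)
  refine ⟨f.symm y, (f.symm y).2, ?_⟩
  have := congrArg f.symm hy
  rw [map_mul, map_mul, map_inv, map_inv, MulEquiv.symm_apply_apply] at this
  exact congrArg Subtype.val this

end Frame

theorem card_sln_odd (hodd : Fintype.card F % 2 = 1) :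
    2 * Nat.card (sln F) = (Fintype.card F + 1) * Fintype.card F * (Fintype.card F - 1) := by
  rw [← card_sln]
  rcases dd_cases (F := F) with ⟨-, e⟩ | ⟨e, -⟩
  · omega
  · rw [e]

/-- The excluded dihedral subgroups of `PSL₂`. -/
theorem tori_exclusions (hodd : Fintype.card F % 2 = 1) (hq : 4 ≤ Fintype.card F) (hM : MaxIn (sln F) M)
    {c : PG} (hc : ¬ p ∣ orderOf c) (hc1 : c ≠ 1) (hcΓ : c ∈ sln F) (hMeq : M = pairStab p (sln F) c)
    {k : ℕ} (hT : k = Nat.card (torus p (sln F) c)) :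
    (2 * k = Fintype.card F - 1 → 13 ≤ Fintype.card F) ∧
    (2 * k = Fintype.card F + 1 → Fintype.card F ≠ 7 ∧ Fintype.card F ≠ 9) := by
  classical
  have hΓ : IsBig (sln F) := Or.inr rfl
  obtain ⟨h, -, -, -, -, -, hcardM, -, -⟩ := pairStab_data p hΓ hq hc hc1 hcΓ
  rw [← hMeq, ← hT] at hcardM
  obtain ⟨h2, Φ, -, -⟩ := prime_frame_of_odd p hodd
  have hcard := card_sln_odd hodd
  have h24 : Fintype.card F % 8 = 1 ∨ Fintype.card F % 8 = 7 → Φ.g24 ≤ sln F := fun h =>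
    Φ.g24_le_sln_iff.mpr (FiniteField.isSquare_two_iff.mpr (by omega))
  have h60 : Fintype.card F = 9 ∨ Fintype.card F = 11 → p ≠ 5 := by
    rintro hq' rfl
    obtain ⟨n, -, hn⟩ := FiniteField.card F 5
    have : 5 ∣ Fintype.card F := hn ▸ dvd_pow_self 5 n.ne_zero
    omega
  have five : ∀ {φ : F} (hφ : φ * φ = φ + 1), p ≠ 5 → k = 5 → ¬ 25 ∣ Nat.card (sln F) →
      60 < Nat.card (sln F) → False := by
    intro φ hφ hp5 hk hfull hlt
    haveI := Fact.mk (show Nat.Prime 5 by norm_num)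
    obtain ⟨hc60, -⟩ := Φ.g60_iso (p := p) φ hφ hp5
    exact hM.not_small_dihedral p hΓ hq hc hc1 hcΓ hMeq (Φ.g60_le_sln φ hφ) (k := 5) (by norm_num)
      (hT ▸ hk) (by norm_num; exact hfull) (by rw [hc60]; norm_num) (Φ.g60_inverts p φ hφ hp5)
      (by rw [hc60]; norm_num) (by rw [hc60]; exact hlt)
  haveI := Fact.mk Nat.prime_two
  refine ⟨fun hk => ?_, fun hk => ⟨fun e => ?_, fun e => ?_⟩⟩
  · by_contra hlt
    have : Fintype.card F = 5 ∨ Fintype.card F = 7 ∨ Fintype.card F = 9 ∨ Fintype.card F = 11 := by omega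
    rcases this with e | e | e | e <;> rw [e] at hcard hk
    · refine hM.not_prime_power (X := Φ.g12) Φ.g12_le_sln (l := 2) (a := 2) (by rw [hcardM]; omega) ?_
        (by rw [Φ.card_g12]; norm_num) (by rw [hcardM, Φ.card_g12]; omega) (by rw [Φ.card_g12]; omega)
        hΓ.normal
      omega
    · haveI := Fact.mk Nat.prime_three
      exact hM.not_small_dihedral p hΓ hq hc hc1 hcΓ hMeq (h24 (Or.inr (by rw [e]))) (k := 3) le_rfl
        (by omega) (by norm_num; omega) (by rw [Φ.card_g24]; norm_num) Φ.g24_inverts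
        (by rw [Φ.card_g24]; norm_num) (by rw [Φ.card_g24]; omega)
    · exact hM.not_prime_power (X := Φ.g24) (h24 (Or.inl (by rw [e]))) (l := 2) (a := 3)
        (by rw [hcardM]; omega) (by norm_num; omega) (by rw [Φ.card_g24]; norm_num)
        (by rw [hcardM, Φ.card_g24]; omega) (by rw [Φ.card_g24]; omega) hΓ.normal
    · obtain ⟨φ, hφ⟩ := exists_phi h2 (isSquare_five p h2 (h60 (Or.inr e)) (Or.inl (by rw [e])))
      exact five hφ (h60 (Or.inr e)) (by omega) (by omega) (by omega)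
  · rw [e] at hcard hk
    exact hM.not_prime_power (X := Φ.g24) (h24 (Or.inr (by rw [e]))) (l := 2) (a := 3)
      (by rw [hcardM]; omega) (by norm_num; omega) (by rw [Φ.card_g24]; norm_num)
      (by rw [hcardM, Φ.card_g24]; omega) (by rw [Φ.card_g24]; omega) hΓ.normal
  · rw [e] at hcard hk
    obtain ⟨φ, hφ⟩ := exists_phi h2 (isSquare_five p h2 (h60 (Or.inl e)) (Or.inr (by rw [e])))
    exact five hφ (h60 (Or.inl e)) (by omega) (by omega) (by omega)

/-- The excluded dihedral subgroup of `PGL₂(5)`. -/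
theorem tori_exclusion_five (hq : Fintype.card F = 5) (hM : MaxIn ⊤ M) (hcardM : Nat.card M = 8) :
    False := by
  classical
  obtain ⟨p', hp'⟩ := CharP.exists F
  haveI := Fact.mk (CharP.char_is_prime F p')
  obtain ⟨h2, Φ, -, -⟩ := prime_frame_of_odd p' (by rw [hq] : Fintype.card F % 2 = 1)
  haveI := Fact.mk Nat.prime_two
  have hcard : Nat.card (⊤ : Subgroup PG) = 120 := by
    rw [Subgroup.card_top, card_pgl_eq, hq]
  exact hM.not_prime_power (X := Φ.g24) le_top (l := 2) (a := 3) (by rw [hcardM]; norm_num)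
    (by rw [hcard]; norm_num) (by rw [Φ.card_g24]; norm_num) (by rw [hcardM, Φ.card_g24]; norm_num)
    (by rw [hcard, Φ.card_g24]; norm_num) inferInstance

end CfsgLib.Classical.Dickson
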