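import Cfsg.Agent.Lib.Classical.Dickson.MaxExcl

/-!
# Existence of the maximal subgroups `A₄`, `S₄`, `A₅` and of subfield type
-/

set_option autoImplicit false
set_option linter.unusedSectionVars false
set_option linter.style.haveILetI false
set_option linter.unusedVariables false

namespace CfsgLib.Classical.Dickson

open Matrix OnePoint MulAction Equiv
open scoped MatrixGroups

variable {F : Type*} [Field F] [Fintype F] [DecidableEq F] (p : ℕ) [hp : Fact p.Prime] [CharP F p]

local notation "PG" => ProjGenLinGroup (Fin 2) F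

include hp in
/-- What can lie above the standard `A₄`. -/
theorem above_g12 (Φ : Frame F) {K : Subgroup PG} (hK : Φ.g12 ≤ K) :
    Nat.card K = 12 ∨ Nat.card K = 24 ∨ Nat.card K = 60 ∨
      (∃ (A : Subfield F) (h : PG), K.map (MulAut.conj h).toMonoidHom = ratPGL A) ∨
      (∃ (A : Subfield F) (h : PG), K.map (MulAut.conj h).toMonoidHom = ratPSL A) := by
  classical
  obtain ⟨a, ha, b, hb, ha3, hb3, hab⟩ := Φ.g12_noncomm
  cases kind p K with
  | fixed x h =>
    exact (no_fixed_of_klein p Φ.two_ne Φ.orderOf_vI Φ.orderOf_vJ Φ.vI_ne_vJ Φ.vI_comm_vJ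
      (h _ (hK Φ.vI_mem12)) (h _ (hK Φ.vJ_mem12))).elim
  | cyclic c hc hcp =>
    refine absurd ?_ hab
    obtain ⟨i, rfl⟩ := Subgroup.mem_zpowers_iff.mp (hc ▸ hK ha)
    obtain ⟨j, rfl⟩ := Subgroup.mem_zpowers_iff.mp (hc ▸ hK hb)
    exact ((Commute.refl c).zpow_zpow i j).eq
  | dihedral c hc hcp h2 hG =>
    obtain ⟨f⟩ := hG
    refine absurd ?_ hab
    have := dihedral_cubes_commute (f ⟨a, hK ha⟩) (f ⟨b, hK hb⟩)
      (by rw [← map_pow, MulEquiv.map_eq_one_iff]; exact Subtype.ext ha3)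
      (by rw [← map_pow, MulEquiv.map_eq_one_iff]; exact Subtype.ext hb3)
    rw [← map_mul, ← map_mul] at this
    exact congrArg Subtype.val (f.injective this)
  | a4 h =>
    obtain ⟨f⟩ := h
    left
    rw [Nat.card_congr f.toEquiv, nat_card_alternatingGroup, Nat.card_eq_fintype_card, Fintype.card_fin]
    rfl
  | s4 h =>
    obtain ⟨f⟩ := h
    right; left
    rw [Nat.card_congr f.toEquiv, Nat.card_perm, Nat.card_eq_fintype_card, Fintype.card_fin]
    rfl
  | a5 h =>
    obtain ⟨f⟩ := h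
    right; right; left
    rw [Nat.card_congr f.toEquiv, nat_card_alternatingGroup, Nat.card_eq_fintype_card, Fintype.card_fin]
    rfl
  | pgl A h hG => exact Or.inr (Or.inr (Or.inr (Or.inl ⟨A, h, hG⟩)))
  | psl A _ h hG => exact Or.inr (Or.inr (Or.inr (Or.inr ⟨A, h, hG⟩)))

theorem top_cases {K : Subgroup PG} {A : Subfield F} {h : PG} (hA : A = ⊤)
    (hc : K.map (MulAut.conj h).toMonoidHom = ratPGL A ∨ K.map (MulAut.conj h).toMonoidHom = ratPSL A)
    (hK : K ≤ sln F) : K = sln F := by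
  subst hA
  refine Subgroup.eq_of_le_of_card_ge hK ?_
  rw [← card_map_conj h K]
  rcases hc with e | e <;> rw [e]
  · rw [ratPGL_top]; exact Subgroup.card_le_of_le le_top
  · rw [ratPSL_top]

include hp in
theorem eq_top_of_prime_field (hq : Fintype.card F = p) (A : Subfield F) : A = ⊤ := by
  obtain ⟨a, d, ha, hd, hA, hF, -⟩ := subfield_data p A
  refine eq_top_of_card ?_
  rw [hA, hq]
  have h : p ^ (a * d) = p ^ 1 := by rw [← hF, hq, pow_one]
  have := Nat.pow_right_injective hp.out.two_le h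
  rw [show a = 1 from Nat.eq_one_of_mul_eq_one_right this, pow_one]

theorem g24_maxIn (Φ : Frame F) (hodd : Fintype.card F % 2 = 1) (hq5 : 5 ≤ Fintype.card F)
    (hq : Fintype.card F = p) (h8 : Fintype.card F % 8 = 1 ∨ Fintype.card F % 8 = 7) :
    MaxIn (sln F) Φ.g24 := by
  classical
  have hle : Φ.g24 ≤ sln F := Φ.g24_le_sln_iff.mpr (FiniteField.isSquare_two_iff.mpr (by omega))
  have hcard := card_sln_odd (F := F) hodd
  have := three_mul_mono hq5
  refine ⟨hle, fun e => ?_, fun K hSK hK hne => ?_⟩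
  · have h := congrArg (fun S : Subgroup PG => Nat.card S) e
    simp only [Φ.card_g24] at h
    omega
  have hdvd : 24 ∣ Nat.card K := Φ.card_g24 ▸ Subgroup.card_dvd_of_le hSK
  rcases above_g12 p Φ (Φ.g12_le24.trans hSK) with h | h | h | ⟨A, g, hg⟩ | ⟨A, g, hg⟩
  · omega
  · exact (Subgroup.eq_of_le_of_card_ge hSK (by rw [h, Φ.card_g24])).symm
  · omega
  · exact absurd (top_cases (eq_top_of_prime_field p hq A) (Or.inl hg) hK) hne
  · exact absurd (top_cases (eq_top_of_prime_field p hq A) (Or.inr hg) hK) hne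

theorem five_dvd_cases (hodd : Fintype.card F % 2 = 1) (h : 5 ∣ Nat.card (sln F)) :
    Fintype.card F % 10 = 1 ∨ Fintype.card F % 10 = 9 ∨ 5 ∣ Fintype.card F := by
  have h' : 5 ∣ (Fintype.card F + 1) * Fintype.card F * (Fintype.card F - 1) :=
    card_sln_odd (F := F) hodd ▸ Dvd.dvd.mul_left h 2
  rcases ((show Nat.Prime 5 by norm_num).dvd_mul.mp h') with e | e
  · rcases ((show Nat.Prime 5 by norm_num).dvd_mul.mp e) with e | e
    · omega
    · exact Or.inr (Or.inr e)
  · omega

theorem not_eight_dvd_sln (h8 : Fintype.card F % 8 = 3 ∨ Fintype.card F % 8 = 5) :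
    ¬ 8 ∣ Nat.card (sln F) := by
  intro h
  have h1 : 16 ∣ (Fintype.card F + 1) * Fintype.card F * (Fintype.card F - 1) :=
    card_sln_odd (F := F) (by omega) ▸ (Nat.mul_dvd_mul_left 2 h)
  rw [Nat.dvd_iff_mod_eq_zero, Nat.mul_mod, Nat.mul_mod (Fintype.card F + 1)] at h1
  have h16 : Fintype.card F % 16 = 3 ∨ Fintype.card F % 16 = 5 ∨ Fintype.card F % 16 = 11 ∨
      Fintype.card F % 16 = 13 := by omega
  rcases h16 with e | e | e | e
  · rw [show (Fintype.card F + 1) % 16 = 4 by omega, e, show (Fintype.card F - 1) % 16 = 2 by omega] at h1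
    omega
  · rw [show (Fintype.card F + 1) % 16 = 6 by omega, e, show (Fintype.card F - 1) % 16 = 4 by omega] at h1
    omega
  · rw [show (Fintype.card F + 1) % 16 = 12 by omega, e, show (Fintype.card F - 1) % 16 = 10 by omega] at h1
    omega
  · rw [show (Fintype.card F + 1) % 16 = 14 by omega, e, show (Fintype.card F - 1) % 16 = 12 by omega] at h1
    omega

theorem g12_maxIn (Φ : Frame F) (hq5 : 5 ≤ Fintype.card F) (hq : Fintype.card F = p)
    (h8 : Fintype.card F % 8 = 3 ∨ Fintype.card F % 8 = 5)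
    (h10 : ¬ (Fintype.card F % 10 = 1 ∨ Fintype.card F % 10 = 9)) :
    MaxIn (sln F) Φ.g12 := by
  classical
  have hodd : Fintype.card F % 2 = 1 := by omega
  have hcard := card_sln_odd (F := F) hodd
  have := three_mul_mono hq5
  refine ⟨Φ.g12_le_sln, fun e => ?_, fun K hSK hK hne => ?_⟩
  · have h := congrArg (fun S : Subgroup PG => Nat.card S) e
    simp only [Φ.card_g12] at h
    omega
  have hdvd : Nat.card K ∣ Nat.card (sln F) := Subgroup.card_dvd_of_le hK
  rcases above_g12 p Φ hSK with h | h | h | ⟨A, g, hg⟩ | ⟨A, g, hg⟩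
  · exact (Subgroup.eq_of_le_of_card_ge hSK (by rw [h, Φ.card_g12])).symm
  · exact absurd ((by norm_num : 8 ∣ 24).trans (h ▸ hdvd)) (not_eight_dvd_sln h8)
  · exfalso
    rcases five_dvd_cases hodd ((by norm_num : 5 ∣ 60).trans (h ▸ hdvd)) with e | e | e
    · exact h10 (Or.inl e)
    · exact h10 (Or.inr e)
    · have h5 : Fintype.card F = 5 := by
        rw [hq] at e ⊢
        exact ((Nat.prime_dvd_prime_iff_eq (by norm_num) hp.out).mp e).symm
      rw [h5] at hcard
      exact hne (Subgroup.eq_of_le_of_card_ge hK (by rw [h]; omega))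
  · exact absurd (top_cases (eq_top_of_prime_field p hq A) (Or.inl hg) hK) hne
  · exact absurd (top_cases (eq_top_of_prime_field p hq A) (Or.inr hg) hK) hne

theorem exists_a5_maxIn
    (h : (Fintype.card F = p ∧ (p % 10 = 1 ∨ p % 10 = 9)) ∨
      (Fintype.card F = p ^ 2 ∧ (p % 10 = 3 ∨ p % 10 = 7))) :
    ∃ S : Subgroup PG, MaxIn (sln F) S ∧ Nonempty (S ≃* alternatingGroup (Fin 5)) := by
  classical
  have h2 := hp.out.two_le
  have hp5 : p ≠ 5 := by omega
  have hsq : ∀ b, b = p % 10 → p ^ 2 % 10 = b * b % 10 := fun b hb => by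
    rw [hb, pow_two, Nat.mul_mod]
  have hmod : Fintype.card F % 10 = 1 ∨ Fintype.card F % 10 = 9 := by
    rcases h with ⟨e, e'⟩ | ⟨e, e'⟩
    · rwa [e]
    · rw [e]
      rcases e' with e' | e' <;> rw [hsq _ e'.symm] <;> norm_num
  have hodd : Fintype.card F % 2 = 1 := by omega
  have hq9 : 9 ≤ Fintype.card F := by
    rcases h with ⟨e, e'⟩ | ⟨e, e'⟩
    · omega
    · have : 3 * 3 ≤ p * p := Nat.mul_le_mul (by omega) (by omega)
      rw [e, pow_two]; omega
  obtain ⟨hF2, Φ, -, -⟩ := prime_frame_of_odd p hodd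
  obtain ⟨φ, hφ⟩ := exists_phi hF2 (isSquare_five p hF2 hp5 hmod)
  obtain ⟨h60, hiso⟩ := Φ.g60_iso (p := p) φ hφ hp5
  have hcard := card_sln_odd (F := F) hodd
  have := three_mul_mono hq9
  refine ⟨Φ.g60 φ hφ, ⟨Φ.g60_le_sln φ hφ, fun e => ?_, fun K hSK hK hne => ?_⟩, hiso⟩
  · have h' := congrArg (fun S : Subgroup PG => Nat.card S) e
    simp only [h60] at h'
    omega
  have hdvd : 60 ∣ Nat.card K := h60 ▸ Subgroup.card_dvd_of_le hSK
  have hsub : ∀ (A : Subfield F) (g : PG),
      (K.map (MulAut.conj g).toMonoidHom = ratPGL A ∨ K.map (MulAut.conj g).toMonoidHom = ratPSL A) →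
      False := by
    intro A g hg
    rcases h with ⟨e, -⟩ | ⟨e, e'⟩
    · exact hne (top_cases (eq_top_of_prime_field p e A) hg hK)
    · obtain ⟨a, d, ha, hd, hA, hF, hF'⟩ := subfield_data p A
      have had : a * d = 2 := Nat.pow_right_injective hp.out.two_le (hF.symm.trans e)
      by_cases hd1 : d = 1
      · exact hne (top_cases (eq_top_of_card (by rw [hF', hd1, pow_one])) hg hK)
      have ha1 : a = 1 := by
        have : d ∣ 2 := ⟨a, by rw [mul_comm]; exact had.symm⟩
        have hd2 : d = 2 := ((Nat.dvd_prime Nat.prime_two).mp this).resolve_left hd1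
        subst hd2; omega
      subst ha1
      rw [pow_one] at hA
      have hle : K.map (MulAut.conj g).toMonoidHom ≤ ratPGL A := by
        rcases hg with hg | hg <;> rw [hg]
        exact ratPSL_le A
      have h5 : 5 ∣ (p + 1) * p * (p - 1) := by
        rw [← hA, ← card_ratPGL]
        exact ((by norm_num : 5 ∣ 60).trans hdvd).trans ((card_map_conj g K) ▸ Subgroup.card_dvd_of_le hle)
      rcases ((show Nat.Prime 5 by norm_num).dvd_mul.mp h5) with q | q
      · rcases ((show Nat.Prime 5 by norm_num).dvd_mul.mp q) with q | q <;> omega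
      · omega
  rcases above_g12 p Φ ((Φ.g12_le60 φ hφ).trans hSK) with e | e | e | ⟨A, g, hg⟩ | ⟨A, g, hg⟩
  · omega
  · omega
  · exact (Subgroup.eq_of_le_of_card_ge hSK (by rw [e, h60])).symm
  · exact (hsub A g (Or.inl hg)).elim
  · exact (hsub A g (Or.inr hg)).elim

section Subfields

theorem exists_subfield_of_card {q r : ℕ} (hq : 2 ≤ q) (hF : Fintype.card F = q ^ r) (hr : r ≠ 0) :
    ∃ A : Subfield F, Nat.card A = q := by
  obtain ⟨p', hp'⟩ := CharP.exists F
  haveI := Fact.mk (CharP.char_is_prime F p')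
  obtain ⟨n, hp'', hn⟩ := FiniteField.card F p'
  obtain ⟨m, -, hm⟩ := (Nat.dvd_prime_pow hp'').mp (hn ▸ hF ▸ dvd_pow_self q hr)
  have hm0 : m ≠ 0 := by rintro rfl; rw [pow_zero] at hm; omega
  have hmr : m * r = n := Nat.pow_right_injective hp''.two_le (by
    show p' ^ (m * r) = p' ^ (n : ℕ)
    rw [pow_mul, ← hm, ← hF, hn])
  exact ⟨fixField p' m, by rw [card_fixField p' hn ⟨r, hmr.symm⟩ hm0, hm]⟩

theorem subfield_between {A B : Subfield F} (hle : A ≤ B) {r : ℕ} (hr : r.Prime)
    (hd : Fintype.card F = Nat.card A ^ r) : B = A ∨ B = ⊤ := by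
  classical
  obtain ⟨p', hp'⟩ := CharP.exists F
  haveI := Fact.mk (CharP.char_is_prime F p')
  obtain ⟨b, d, -, hd0, -, -, hB⟩ := subfield_data p' B
  letI := (Subfield.inclusion hle).toAlgebra
  have he : Nat.card B = Nat.card A ^ Module.finrank A B := Module.natCard_eq_pow_finrank
  have hmul : Module.finrank A B * d = r := Nat.pow_right_injective (two_le_card A) (by
    show Nat.card A ^ (Module.finrank A B * d) = Nat.card A ^ r
    rw [pow_mul, ← he, ← hB, hd])
  rcases (Nat.dvd_prime hr).mp (hmul ▸ dvd_mul_left d _) with e | e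
  · right
    exact eq_top_of_card (by rw [hB, e, pow_one])
  · left
    subst e
    have h1 : Module.finrank A B = 1 := Nat.eq_of_mul_eq_mul_right hd0 (by rw [hmul, one_mul])
    rw [h1, pow_one] at he
    refine (SetLike.coe_injective (Set.eq_of_subset_of_ncard_le hle ?_ (Set.toFinite _))).symm
    rw [← Nat.card_coe_set_eq, ← Nat.card_coe_set_eq]
    exact he.le

include hp in
/-- Above a subfield group of prime degree. -/
theorem above_rat {A : Subfield F} {r : ℕ} (hr : r.Prime) (hd : Fintype.card F = Nat.card A ^ r)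
    {S K : Subgroup PG} (hS : ratPSL A ≤ S) (h4 : p = 2 → 4 ∣ Nat.card S) (hSK : S ≤ K) :
    Nat.card K = 12 ∨ Nat.card K = 24 ∨ Nat.card K = 60 ∨
    (∃ g : PG, K.map (MulAut.conj g).toMonoidHom = ratPGL A) ∨
    (∃ g : PG, K.map (MulAut.conj g).toMonoidHom = ratPSL A) ∨
    (∃ (g : PG) (B : Subfield F), B = ⊤ ∧
      (K.map (MulAut.conj g).toMonoidHom = ratPGL B ∨ K.map (MulAut.conj g).toMonoidHom = ratPSL B)) := by
  classical
  have hpK : p ∣ Nat.card K := (dvd_card_ratPSL p A).trans (Subgroup.card_dvd_of_le (hS.trans hSK))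
  cases kind p K with
  | fixed x h =>
    obtain ⟨g, hg, hgx⟩ := ratPSL_no_fixed p A x
    exact absurd (h g (hSK (hS hg))) hgx
  | cyclic c hc hcp =>
    rw [hc, Nat.card_zpowers] at hpK
    exact absurd hpK hcp
  | dihedral c hc hcp h2 hG =>
    obtain ⟨f⟩ := hG
    have hK : Nat.card K = 2 * orderOf c := by rw [Nat.card_congr f.toEquiv, DihedralGroup.nat_card]
    exfalso
    rw [hK] at hpK
    rcases hp.out.dvd_mul.mp hpK with e | e
    · have hp2 : p = 2 := (Nat.prime_dvd_prime_iff_eq hp.out Nat.prime_two).mp e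
      have h4' := (h4 hp2).trans (Subgroup.card_dvd_of_le hSK)
      rw [hK] at h4'
      exact hcp (hp2.symm ▸ (show 2 ∣ orderOf c by omega))
    · exact hcp e
  | a4 h =>
    obtain ⟨f⟩ := h
    left
    rw [Nat.card_congr f.toEquiv, nat_card_alternatingGroup, Nat.card_eq_fintype_card, Fintype.card_fin]
    rfl
  | s4 h =>
    obtain ⟨f⟩ := h
    right; left
    rw [Nat.card_congr f.toEquiv, Nat.card_perm, Nat.card_eq_fintype_card, Fintype.card_fin]
    rfl
  | a5 h =>
    obtain ⟨f⟩ := h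
    right; right; left
    rw [Nat.card_congr f.toEquiv, nat_card_alternatingGroup, Nat.card_eq_fintype_card, Fintype.card_fin]
    rfl
  | pgl B g hG =>
    have hle : A ≤ B := subfield_le_of_conj ((Subgroup.map_mono (hS.trans hSK)).trans hG.le)
    rcases subfield_between hle hr hd with rfl | rfl
    · exact Or.inr (Or.inr (Or.inr (Or.inl ⟨g, hG⟩)))
    · exact Or.inr (Or.inr (Or.inr (Or.inr (Or.inr ⟨g, ⊤, rfl, Or.inl hG⟩))))
  | psl B _ g hG =>
    have hle : A ≤ B := subfield_le_of_conj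
      ((Subgroup.map_mono (hS.trans hSK)).trans (hG.le.trans (ratPSL_le B)))
    rcases subfield_between hle hr hd with rfl | rfl
    · exact Or.inr (Or.inr (Or.inr (Or.inr (Or.inl ⟨g, hG⟩))))
    · exact Or.inr (Or.inr (Or.inr (Or.inr (Or.inr ⟨g, ⊤, rfl, Or.inr hG⟩))))

include hp in
/-- `PGL₂` of a subfield of index two is maximal in `PSL₂`. -/
theorem ratPGL_maxIn_two {A : Subfield F} (hodd : Fintype.card F % 2 = 1)
    (hd : Fintype.card F = Nat.card A ^ 2) : MaxIn (sln F) (ratPGL A) := by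
  classical
  have hle : ratPGL A ≤ sln F :=
    (ratPGL_le_sln_iff A).mpr ((forall_isSquare_iff A hd (Nat.odd_iff.mpr hodd)).mpr even_two)
  have hlt := card_ratPGL_lt (Or.inr rfl : IsBig (sln F)) A hd le_rfl
  have haodd : Nat.card A % 2 = 1 := by
    rw [hd, Nat.pow_mod] at hodd
    rcases Nat.mod_two_eq_zero_or_one (Nat.card A) with e | e
    · rw [e] at hodd; norm_num at hodd
    · exact e
  have h3 : 3 ≤ Nat.card A := by have := two_le_card A; omega
  refine ⟨hle, fun e => by rw [e] at hlt; exact lt_irrefl _ hlt, fun K hSK hK hne => ?_⟩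
  have h24 : 24 ≤ Nat.card (ratPGL A) := by
    rw [card_ratPGL]; exact le_trans (by norm_num) (three_mul_mono h3)
  have hdvd := Subgroup.card_dvd_of_le hSK
  have h4 : p = 2 → 4 ∣ Nat.card (ratPGL A) := fun hp2 => by
    obtain ⟨n, -, hn⟩ := FiniteField.card F p
    subst hp2
    rw [hn, Nat.pow_mod] at hodd
    simp at hodd
  rcases above_rat p (r := 2) Nat.prime_two hd (ratPSL_le A) h4 hSK with
    e | e | e | ⟨g, hg⟩ | ⟨g, hg⟩ | ⟨g, B, hB, hg⟩
  · have := Subgroup.card_le_of_le hSK; omega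
  · exact (Subgroup.eq_of_le_of_card_ge hSK (by omega)).symm
  · exfalso
    rw [e, card_ratPGL] at hdvd
    rw [card_ratPGL] at h24
    have h4 : Nat.card A < 4 := by
      by_contra h4
      have h5 := three_mul_mono (show 5 ≤ Nat.card A by omega)
      have := Nat.le_of_dvd (by norm_num) hdvd
      omega
    rw [show Nat.card A = 3 by omega] at hdvd
    omega
  · exact (Subgroup.eq_of_le_of_card_ge hSK (by rw [← card_map_conj g K, hg])).symm
  · exfalso
    have h1 := Subgroup.card_le_of_le hSK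
    rw [← card_map_conj g K, hg] at h1
    rcases card_ratPSL_cases A with ⟨-, h'⟩ | ⟨h', -⟩ <;> omega
  · exact absurd (top_cases hB hg hK) hne

include hp in
/-- `PSL₂` of a subfield of odd prime degree is maximal in `PSL₂`. -/
theorem ratPSL_maxIn_odd {A : Subfield F} {r : ℕ} (hr : r.Prime) (hr2 : Odd r)
    (hodd : Fintype.card F % 2 = 1) (hd : Fintype.card F = Nat.card A ^ r) :
    MaxIn (sln F) (ratPSL A) := by
  classical
  have haodd : Nat.card A % 2 = 1 := by
    rw [hd, Nat.pow_mod] at hodd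
    rcases Nat.mod_two_eq_zero_or_one (Nat.card A) with e | e
    · rw [e, zero_pow hr.ne_zero] at hodd; norm_num at hodd
    · exact e
  have hlt := lt_of_le_of_lt (Subgroup.card_le_of_le (ratPSL_le A))
    (card_ratPGL_lt (Or.inr rfl : IsBig (sln F)) A hd hr.two_le)
  have h2S : 2 * Nat.card (ratPSL A) = (Nat.card A + 1) * Nat.card A * (Nat.card A - 1) := by
    rw [← card_ratPGL]
    rcases card_ratPSL_cases A with ⟨-, h⟩ | ⟨h, -⟩ <;> omega
  have h3 : 3 ≤ Nat.card A := by have := two_le_card A; omega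
  refine ⟨ratPSL_le_sln A, fun e => by rw [e] at hlt; exact lt_irrefl _ hlt, fun K hSK hK hne => ?_⟩
  have hdvd := Subgroup.card_dvd_of_le hSK
  have hdvd' := Subgroup.card_dvd_of_le hK
  have hA35 : Nat.card K ≤ 60 → Nat.card A = 3 ∨ Nat.card A = 5 := fun hK60 => by
    by_contra hA
    have := three_mul_mono (show 6 ≤ Nat.card A by omega)
    have := Subgroup.card_le_of_le hSK
    omega
  have h4 : p = 2 → 4 ∣ Nat.card (ratPSL A) := fun hp2 => by
    obtain ⟨n, -, hn⟩ := FiniteField.card F p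
    subst hp2
    rw [hn, Nat.pow_mod] at hodd
    simp at hodd
  rcases above_rat p hr hd le_rfl h4 hSK with
    e | e | e | ⟨g, hg⟩ | ⟨g, hg⟩ | ⟨g, B, hB, hg⟩
  · refine (Subgroup.eq_of_le_of_card_ge hSK ?_).symm
    have := three_mul_mono h3
    omega
  · exfalso
    rcases hA35 (by omega) with hA | hA <;> rw [hA] at h2S
    · obtain ⟨k, hk⟩ := hr2
      have h8 : Fintype.card F % 8 = 3 := by
        rw [hd, hA, hk, pow_succ, pow_mul, Nat.mul_mod, Nat.pow_mod]; norm_num
      exact not_eight_dvd_sln (Or.inl h8) ((by norm_num : 8 ∣ 24).trans (e ▸ hdvd'))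
    · have := Subgroup.card_le_of_le hSK
      omega
  · rcases hA35 (by omega) with hA | hA <;> rw [hA] at h2S
    · exfalso
      obtain ⟨k, hk⟩ := hr2
      have h5 : ∀ k : ℕ, 3 ^ (2 * k + 1) % 10 = 3 ∨ 3 ^ (2 * k + 1) % 10 = 7 := by
        intro k
        induction k with
        | zero => simp
        | succ k ih =>
          rw [show 2 * (k + 1) + 1 = 2 * k + 1 + 2 by ring, pow_add, Nat.mul_mod]
          rcases ih with h | h <;> rw [h] <;> norm_num
      have h10 : Fintype.card F % 10 = 3 ∨ Fintype.card F % 10 = 7 := by rw [hd, hA, hk]; exact h5 k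
      rcases five_dvd_cases hodd ((by norm_num : 5 ∣ 60).trans (e ▸ hdvd')) with h | h | h <;> omega
    · exact (Subgroup.eq_of_le_of_card_ge hSK (by omega)).symm
  · exfalso
    have h1 : ratPGL A ≤ sln F := hg ▸ map_conj_le sln_normal g hK
    have := (forall_isSquare_iff A hd (Nat.odd_iff.mpr hodd)).mp ((ratPGL_le_sln_iff A).mp h1)
    exact (Nat.not_even_iff_odd.mpr hr2) this
  · exact (Subgroup.eq_of_le_of_card_ge hSK (by rw [← card_map_conj g K, hg])).symm
  · exact absurd (top_cases hB hg hK) hne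

include hp in
/-- In characteristic two a subfield group of prime degree is maximal. -/
theorem rat_maxIn_even {A : Subfield F} {r : ℕ} (hr : r.Prime) (hd : Fintype.card F = Nat.card A ^ r)
    (hev : Nat.card A % 2 = 0) (hA4 : 4 ≤ Nat.card A) : MaxIn (sln F) (ratPSL A) := by
  classical
  have hqe : Fintype.card F % 2 = 0 := by rw [hd]; exact Nat.even_iff.mp ((Nat.even_iff.mpr hev).pow_of_ne_zero hr.ne_zero)
  have heq : ratPSL A = ratPGL A := Subgroup.eq_of_le_of_card_ge (ratPSL_le A) (by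
    rcases card_ratPSL_cases A with ⟨h', -⟩ | ⟨-, h'⟩ <;> omega)
  have htop : sln F = ⊤ := sln_eq_top_of_even hqe
  have hlt := card_ratPGL_lt (Or.inr rfl : IsBig (sln F)) A hd hr.two_le
  rw [← heq] at hlt
  refine ⟨htop ▸ le_top, fun e => by rw [e] at hlt; exact lt_irrefl _ hlt, fun K hSK hK hne => ?_⟩
  have hS60 : 60 ≤ Nat.card (ratPSL A) := by
    rw [heq, card_ratPGL]; exact le_trans (by norm_num) (three_mul_mono hA4)
  have hS := Subgroup.card_le_of_le hSK
  have h4 : p = 2 → 4 ∣ Nat.card (ratPSL A) := fun _ => by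
    rw [heq, card_ratPGL]
    obtain ⟨a, d, ha, -, hAp, -, -⟩ := subfield_data p A
    have hp2 : p = 2 := by
      rw [hAp, ← Nat.dvd_iff_mod_eq_zero] at hev
      exact ((Nat.prime_dvd_prime_iff_eq Nat.prime_two hp.out).mp (Nat.prime_two.dvd_of_dvd_pow hev)).symm
    have h4A : 4 ∣ Nat.card A := by
      rw [hAp, hp2]
      rw [hAp, hp2] at hA4
      have : 2 ≤ a := by
        by_contra h
        rw [show a = 1 by omega] at hA4
        norm_num at hA4
      exact pow_dvd_pow 2 this
    exact Dvd.dvd.mul_right (Dvd.dvd.mul_left h4A _) _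
  rcases above_rat p hr hd le_rfl h4 hSK with
    e | e | e | ⟨g, hg⟩ | ⟨g, hg⟩ | ⟨g, B, hB, hg⟩
  · omega
  · omega
  · exact (Subgroup.eq_of_le_of_card_ge hSK (by omega)).symm
  · exact (Subgroup.eq_of_le_of_card_ge hSK (by rw [← card_map_conj g K, hg, heq])).symm
  · exact (Subgroup.eq_of_le_of_card_ge hSK (by rw [← card_map_conj g K, hg])).symm
  · exact absurd (top_cases hB hg hK) hne

end Subfields

end CfsgLib.Classical.Dickson
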