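import Cfsg.Agent.Lib.Classical.Dickson.MaxExist

/-!
# Maximal subgroups of `PGL₂(q)` meet `PSL₂(q)` maximally
-/

set_option autoImplicit false
set_option linter.unusedSectionVars false
set_option linter.style.haveILetI false
set_option linter.unusedVariables false

namespace CfsgLib.Classical.Dickson

open Matrix OnePoint MulAction Equiv
open scoped MatrixGroups

variable {F : Type*} [Field F] [Fintype F] [DecidableEq F] (p : ℕ) [hp : Fact p.Prime] [CharP F p]

local notation "PG" => ProjGenLinGroup (Fin 2) F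

theorem stabIn_inf (x : OnePoint F) : stabIn (⊤ : Subgroup PG) x ⊓ sln F = stabIn (sln F) x := by
  ext g
  simp [Subgroup.mem_inf, mem_stabIn, and_comm]

theorem pairStab_congr {Γ : Subgroup PG} {c c' : PG} (h : ∀ w, FixE p c w ↔ FixE p c' w) :
    pairStab p Γ c = pairStab p Γ c' := by
  ext g
  exact and_congr_right fun _ => forall_congr' fun z => iff_congr (h _) (h _)

theorem pairStab_inf (c : PG) : pairStab p (⊤ : Subgroup PG) c ⊓ sln F = pairStab p (sln F) c := by
  ext g
  exact ⟨fun h => ⟨h.2, h.1.2⟩, fun h => ⟨⟨trivial, h.2⟩, h.1⟩⟩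

theorem fix_iff_of_mem_torus {Γ : Subgroup PG} {c t : PG} (hcp : c ^ p ≠ 1) (ht : t ∈ torus p Γ c)
    (ht1 : t ≠ 1) (w : OnePoint (FiniteField.Extension F p 2)) : FixE p c w ↔ FixE p t w := by
  obtain ⟨z, z', hne, hz, hz', hall⟩ := exists_pair hcp
  refine ⟨ht.2 w, fun hw => ?_⟩
  rcases eq_or_eq_of_fix (toExt_ne_one ht1) hne (ht.2 z hz) (ht.2 z' hz') hw with rfl | rfl
  exacts [hz, hz']

theorem dihedral_conj_high {n : ℕ} (x y : DihedralGroup n) (h3 : 3 ≤ orderOf x) :
    y * x * y⁻¹ ∈ Subgroup.zpowers x := by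
  rcases x with i | i
  · rcases y with j | j
    · have : DihedralGroup.r j * DihedralGroup.r i * (DihedralGroup.r j)⁻¹ = DihedralGroup.r i := by simp
      rw [this]; exact Subgroup.mem_zpowers _
    · have : DihedralGroup.sr j * DihedralGroup.r i * (DihedralGroup.sr j)⁻¹ = (DihedralGroup.r i)⁻¹ := by
        simp
      rw [this]; exact inv_mem (Subgroup.mem_zpowers _)
  · rw [DihedralGroup.orderOf_sr] at h3
    omega

include hp in
/-- Torus normalisers in `PSL₂` are maximal, apart from the small exceptions. -/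
theorem pairStab_maxIn (hodd : Fintype.card F % 2 = 1) (hq : 4 ≤ Fintype.card F)
    (h7 : Fintype.card F ≠ 7) (h9 : Fintype.card F ≠ 9) (h11 : Fintype.card F ≠ 11) {c : PG}
    (hc : ¬ p ∣ orderOf c) (hc1 : c ≠ 1) (hcΓ : c ∈ sln F)
    (h3 : 3 ≤ Nat.card (torus p (sln F) c)) : MaxIn (sln F) (pairStab p (sln F) c) := by
  classical
  have hΓ : IsBig (sln F) := Or.inr rfl
  obtain ⟨k, hk, hkq, hD, -⟩ := tori_shape p hΓ hq hc hc1 hcΓ
  obtain ⟨h, hh, hhT, -, hinv, -, -, -, hne⟩ := pairStab_data p hΓ hq hc hc1 hcΓ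
  have hcp := pow_ne_one_of_semisimple hc hc1
  rw [← hk] at h3
  have hidx : (sln F).index = 2 := by
    rw [index_sln]; rcases dd_cases (F := F) with ⟨-, e⟩ | ⟨e, -⟩ <;> omega
  rw [hidx] at hkq
  haveI := isCyclic_torus (Γ := sln F) hcp
  obtain ⟨⟨t, htT⟩, ht⟩ := IsCyclic.exists_generator (α := torus p (sln F) c)
  have hord : orderOf t = k := by
    rw [hk, ← orderOf_eq_card_of_forall_mem_zpowers ht, ← Subgroup.orderOf_coe]
  have ht1 : t ≠ 1 := fun e => by rw [e, orderOf_one] at hord; omega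
  have ht2 : t * t ≠ 1 := fun e => by
    have := Nat.le_of_dvd (by norm_num) (orderOf_dvd_of_pow_eq_one ((pow_two t).trans e))
    omega
  have htp : ¬ p ∣ orderOf t := by rw [hord, hk]; exact not_dvd_torus hcp
  have hht : h * t * h⁻¹ = t⁻¹ := hinv t htT
  refine ⟨fun g hg => hg.1, hne, fun K hSK hK hKne => ?_⟩
  have htK : t ∈ K := hSK (torus_le_pairStab hcp htT)
  have hhK : h ∈ K := hSK hh
  have hdvd := Subgroup.card_dvd_of_le hSK
  have hdvd' := Subgroup.card_dvd_of_le hK
  rw [hD] at hdvd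
  have horder : ∀ (m : ℕ), t ^ m = 1 → k ∣ m := fun m hm => hord ▸ orderOf_dvd_of_pow_eq_one hm
  -- the rational subfield groups
  have hsub : ∀ (B : Subfield F) (g : PG),
      (K.map (MulAut.conj g).toMonoidHom = ratPGL B ∨ K.map (MulAut.conj g).toMonoidHom = ratPSL B) →
      False := by
    intro B g hg
    obtain ⟨b, d, hb, hd0, hB, hF, hd⟩ := subfield_data p B
    by_cases hd1 : d = 1
    · exact hKne (top_cases (eq_top_of_card (by rw [hd, hd1, pow_one])) hg hK)
    have hle : K.map (MulAut.conj g).toMonoidHom ≤ ratPGL B := by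
      rcases hg with e | e <;> rw [e]
      exact ratPSL_le B
    obtain ⟨m, hm⟩ := hle ⟨t, htK, rfl⟩
    haveI := Fintype.ofFinite B
    haveI : CharP B p := (RingHom.charP_iff B.subtype B.subtype.injective p).mpr inferInstance
    have hm' : orderOf m = k := by
      rw [← orderOf_injective _ (map_injective_subfield B), hm]
      exact (orderOf_injective (MulAut.conj g).toMonoidHom (MulEquiv.injective _) t).trans hord
    have hkB : k ≤ Nat.card B + 1 := by
      rw [Nat.card_eq_fintype_card]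
      have hB2 := Fintype.one_lt_card (α := B)
      rcases order_dvd_pgl p (c := m) (by rw [hm', ← hord]; exact htp) with e | e <;> rw [hm'] at e <;>
        have := Nat.le_of_dvd (by omega) e <;> omega
    have hb2 : Nat.card B * Nat.card B ≤ Fintype.card F := by
      rw [hd, ← pow_two]; exact Nat.pow_le_pow_right (by have := two_le_card B; omega) (by omega)
    have hb3 : Nat.card B ≤ 3 := by
      by_contra hb4
      have : 4 * Nat.card B ≤ Nat.card B * Nat.card B := Nat.mul_le_mul_right _ (by omega)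
      omega
    have hq5 : Fintype.card F = 5 := by omega
    have hprime : Fintype.card F = p := by
      rw [hq5] at hF ⊢
      exact ((Nat.prime_dvd_prime_iff_eq hp.out (by norm_num)).mp
        (hF ▸ dvd_pow_self p (Nat.mul_ne_zero hb.ne' hd0.ne'))).symm
    exact hKne (top_cases (eq_top_of_prime_field p hprime B) hg hK)
  have hsmall : Nat.card K = 12 ∨ Nat.card K = 24 ∨ Nat.card K = 60 → (∃ m, m ≤ 5 ∧ 0 < m ∧ t ^ m = 1) →
      Fintype.card F = 5 ∧ k = 3 := by
    rintro - ⟨m, hm5, hm0, hm⟩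
    have := Nat.le_of_dvd hm0 (horder m hm)
    omega
  have hsln5 : Fintype.card F = 5 → Nat.card (sln F) = 60 := fun e => by
    have := card_sln_odd (F := F) hodd
    rw [e] at this
    omega
  cases kind p K with
  | fixed x hx =>
    exfalso
    obtain ⟨z, z', hzz, hz, hz', hall⟩ := exists_pair hcp
    have hFx : FixE p c (ptExt p x) := (fix_iff_of_mem_torus p hcp htT ht1 _).mpr (by
      rw [FixE, toExt_smul, hx t htK])
    refine hhT ⟨hh.1, fun w hw => ?_⟩
    have hhw := (hh.2 w).mp hw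
    have hhx : toExt p h • ptExt p x = ptExt p x := by rw [toExt_smul, hx h hhK]
    by_cases hwx : w = ptExt p x
    · rw [hwx]; exact hhx
    rcases eq_or_eq_of_fix (toExt_ne_one hc1) (Ne.symm hwx) hFx hw hhw with e | e
    · exact absurd (MulAction.injective (toExt p h) (e.trans hhx.symm)) hwx
    · exact e
  | cyclic c' hc' hcp' =>
    exfalso
    obtain ⟨i, hi⟩ := Subgroup.mem_zpowers_iff.mp (hc' ▸ htK)
    obtain ⟨j, hj⟩ := Subgroup.mem_zpowers_iff.mp (hc' ▸ hhK)
    apply ht2
    have hcomm : h * t = t * h := by rw [← hi, ← hj]; exact ((Commute.refl c').zpow_zpow j i).eq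
    rw [hcomm, mul_inv_cancel_right] at hht
    exact eq_inv_iff_mul_eq_one.mp hht
  | dihedral c' hc' hcp' h2 hG =>
    obtain ⟨f⟩ := hG
    refine le_antisymm (fun g hg => ?_) hSK
    have key : ∀ g ∈ K, g * t * g⁻¹ ∈ Subgroup.zpowers t := by
      intro g hg
      have h' := dihedral_conj_high (f ⟨t, htK⟩) (f ⟨g, hg⟩) (by
        rw [MulEquiv.orderOf_eq, ← Subgroup.orderOf_coe]; show 3 ≤ orderOf t; omega)
      obtain ⟨j, hj⟩ := Subgroup.mem_zpowers_iff.mp h'
      rw [← map_zpow, ← map_inv, ← map_mul, ← map_mul] at hj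
      exact Subgroup.mem_zpowers_iff.mpr ⟨j, by
        have := congrArg Subtype.val (f.injective hj)
        simpa using this⟩
    rw [pairStab_congr p (fix_iff_of_mem_torus p hcp htT ht1)]
    exact normalizing_mem_pairStab (hK hg) (key g hg) (by simpa using key g⁻¹ (inv_mem hg))
  | a4 hf =>
    obtain ⟨f⟩ := hf
    exfalso
    have key : ∀ x y : alternatingGroup (Fin 4), y * x * y⁻¹ = x⁻¹ → x * x = 1 := by decide +kernel
    have := key (f ⟨t, htK⟩) (f ⟨h, hhK⟩) (by
      rw [← map_inv, ← map_mul, ← map_mul, ← map_inv]; exact congrArg f (Subtype.ext hht))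
    rw [← map_mul, MulEquiv.map_eq_one_iff] at this
    exact ht2 (congrArg Subtype.val this)
  | s4 hf =>
    obtain ⟨f⟩ := hf
    exfalso
    have key : ∀ x : Perm (Fin 4), x ^ 1 = 1 ∨ x ^ 2 = 1 ∨ x ^ 3 = 1 ∨ x ^ 4 = 1 := by decide +kernel
    have h24 : Nat.card K = 24 := by
      rw [Nat.card_congr f.toEquiv, Nat.card_perm, Nat.card_eq_fintype_card, Fintype.card_fin]; rfl
    have hm : ∃ m, m ≤ 5 ∧ 0 < m ∧ t ^ m = 1 := by
      rcases key (f ⟨t, htK⟩) with e | e | e | e <;>
        rw [← map_pow, MulEquiv.map_eq_one_iff] at e <;>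
        exact ⟨_, by norm_num, by norm_num, congrArg Subtype.val e⟩
    obtain ⟨h5, -⟩ := hsmall (Or.inr (Or.inl h24)) hm
    rw [h24, hsln5 h5] at hdvd'
    omega
  | a5 hf =>
    obtain ⟨f⟩ := hf
    exfalso
    have h60 : Nat.card K = 60 := by
      rw [Nat.card_congr f.toEquiv, nat_card_alternatingGroup, Nat.card_eq_fintype_card, Fintype.card_fin]
      rfl
    have hm : ∃ m, m ≤ 5 ∧ 0 < m ∧ t ^ m = 1 := by
      rcases exps_a5 f t htK with e | e | e | e <;> exact ⟨_, by norm_num, by norm_num, e⟩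
    obtain ⟨h5, -⟩ := hsmall (Or.inr (Or.inr h60)) hm
    exact hKne (Subgroup.eq_of_le_of_card_ge hK (by rw [h60, hsln5 h5]))
  | pgl B g hG => exact (hsub B g (Or.inl hG)).elim
  | psl B _ g hG => exact (hsub B g (Or.inr hG)).elim

theorem inf_sln_eq_of_half {M S : Subgroup PG} (hSM : S ≤ M) (hSL : S ≤ sln F) (hML : ¬ M ≤ sln F)
    (hcard : Nat.card M = 2 * Nat.card S) : M ⊓ sln F = S := by
  refine (Subgroup.eq_of_le_of_card_ge (le_inf hSM hSL) ?_).symm
  have h1 : Nat.card (M ⊓ sln F : Subgroup PG) ∣ Nat.card M := Subgroup.card_dvd_of_le inf_le_left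
  have h2 : Nat.card S ∣ Nat.card (M ⊓ sln F : Subgroup PG) := Subgroup.card_dvd_of_le (le_inf hSM hSL)
  obtain ⟨m, hm⟩ := h2
  rw [hm, hcard, mul_comm 2] at h1
  have hm2 := Nat.dvd_of_mul_dvd_mul_left Nat.card_pos h1
  rcases (Nat.dvd_prime Nat.prime_two).mp hm2 with rfl | rfl
  · rw [hm, mul_one]
  · exfalso
    have heq : M ⊓ sln F = M := Subgroup.eq_of_le_of_card_ge inf_le_left (by rw [hm, hcard, mul_comm])
    exact hML (heq ▸ inf_le_right)

theorem map_conj_inf_sln (h : PG) (M : Subgroup PG) :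
    (M ⊓ sln F).map (MulAut.conj h).toMonoidHom = M.map (MulAut.conj h).toMonoidHom ⊓ sln F := by
  rw [Subgroup.map_inf _ _ _ (MulEquiv.injective _)]
  congr 1
  refine le_antisymm (map_conj_le sln_normal h le_rfl) fun g hg => ?_
  exact ⟨h⁻¹ * g * h, by simpa using sln_normal.conj_mem g hg h⁻¹, by simp [mul_assoc]⟩

include hp in
/-- A maximal subgroup of `PGL₂` not containing `PSL₂` meets it in a maximal subgroup. -/
theorem inf_maxIn (hq : 4 ≤ Fintype.card F) (h7 : Fintype.card F ≠ 7) (h9 : Fintype.card F ≠ 9)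
    (h11 : Fintype.card F ≠ 11)
    (h40 : (Fintype.card F).Prime → Fintype.card F % 40 ∉ ({11, 19, 21, 29} : Finset ℕ))
    {M : Subgroup PG} (hM : MaxIn ⊤ M) (hL : ¬ sln F ≤ M) : MaxIn (sln F) (M ⊓ sln F) := by
  classical
  rcases Nat.mod_two_eq_zero_or_one (Fintype.card F) with he | ho
  · rw [sln_eq_top_of_even he, inf_top_eq]; exact hM
  have hne := sln_ne_top_of_odd (F := F) ho
  have hnle : ¬ M ≤ sln F := fun h => hne (IsBig.eq_sln_of_le (Or.inl rfl) hM h hL).symm
  have hback : ∀ (g : PG), MaxIn (sln F) (M.map (MulAut.conj g).toMonoidHom ⊓ sln F) →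
      MaxIn (sln F) (M ⊓ sln F) := by
    intro g hg
    have := hg.conj sln_normal g⁻¹
    rwa [← map_conj_inf_sln, map_conj_map_conj] at this
  have hnle' : ∀ g : PG, ¬ M.map (MulAut.conj g).toMonoidHom ≤ sln F := fun g h => hnle (by
    have := map_conj_le sln_normal g⁻¹ h
    rwa [map_conj_map_conj] at this)
  cases maxKind p (Or.inl rfl) hq hM hL with
  | stab x hx => rw [hx, stabIn_inf]; exact stabIn_maxIn le_rfl x
  | tori c hc hc1 hcΓ hMeq =>
    have hΓ : IsBig (⊤ : Subgroup PG) := Or.inl rfl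
    obtain ⟨k, hk, hkq, hkM, -⟩ := tori_shape p hΓ hq hc hc1 hcΓ
    rw [Subgroup.index_top, mul_one] at hkq
    have hcp := pow_ne_one_of_semisimple hc hc1
    haveI := isCyclic_torus (Γ := (⊤ : Subgroup PG)) hcp
    obtain ⟨⟨t, htT⟩, ht⟩ := IsCyclic.exists_generator (α := torus p (⊤ : Subgroup PG) c)
    have hord : orderOf t = k := by
      rw [hk, ← orderOf_eq_card_of_forall_mem_zpowers ht, ← Subgroup.orderOf_coe]
    set c' := t ^ 2 with hc'
    have hc'1 : c' ≠ 1 := fun e => by
      have := Nat.le_of_dvd (by norm_num) (orderOf_dvd_of_pow_eq_one e)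
      omega
    have hc'p : ¬ p ∣ orderOf c' := fun e =>
      not_dvd_torus hcp (hk ▸ hord ▸ e.trans (orderOf_pow_dvd 2))
    have hc'T : c' ∈ torus p (⊤ : Subgroup PG) c := pow_mem htT 2
    have hc'L : c' ∈ sln F := sq_mem_sln t
    rw [hMeq, pairStab_congr p (fix_iff_of_mem_torus p hcp hc'T hc'1), pairStab_inf]
    refine pairStab_maxIn p ho hq h7 h9 h11 hc'p hc'1 hc'L ?_
    obtain ⟨k', hk', hkq', -, -⟩ := tori_shape p (Or.inr rfl : IsBig (sln F)) hq hc'p hc'1 hc'L
    have hidx : (sln F).index = 2 := by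
      rw [index_sln]; rcases dd_cases (F := F) with ⟨-, e⟩ | ⟨e, -⟩ <;> omega
    rw [hidx] at hkq'
    rw [← hk']
    by_contra hlt
    -- only `q = 5` with the split torus is small
    have h5 : Fintype.card F = 5 := by omega
    have hk'2 : k' = 2 := by omega
    have hk4 : k = 4 := by
      rcases hkq with e | e
      · omega
      · exfalso
        -- nonsplit over `⊤` forces nonsplit in `PSL₂`
        have hdvd : orderOf c' ∣ k' := by
          rw [hk']
          exact Subgroup.orderOf_dvd_natCard _ (show c' ∈ torus p (sln F) c' from ⟨hc'L, fun z hz => hz⟩)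
        have hk6 : orderOf c' = 3 := by
          rw [hc', orderOf_pow' t two_ne_zero, hord, show k = 6 by omega]; norm_num
        rw [hk6, hk'2] at hdvd
        norm_num at hdvd
    exact tori_exclusion_five h5 hM (by rw [hMeq, hkM, hk4])
  | a4 hs _ _ _ _ => exact absurd hs.symm hne
  | a5 hs _ _ _ => exact absurd hs.symm hne
  | psl A r h hr hd hs _ _ _ => exact absurd hs.symm hne
  | s4 _ hq' _ ht hm =>
    obtain ⟨f⟩ := hm
    obtain ⟨h2, Φ, -, -⟩ := prime_frame_of_odd p ho
    obtain ⟨g, hg⟩ := Φ.std_s4 f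
    refine hback g ?_
    rw [hg, inf_sln_eq_of_half Φ.g12_le24 Φ.g12_le_sln (hg ▸ hnle' g) (by rw [Φ.card_g24, Φ.card_g12])]
    refine g12_maxIn p Φ ?_ hq' (ht rfl) fun h10 => ?_
    · have := ht rfl; omega
    · have h40' := h40 (hq'.symm ▸ hp.out)
      simp only [Finset.mem_insert, Finset.mem_singleton, not_or] at h40'
      have := ht rfl
      omega
  | pgl A r h hr hd hA _ htop hc =>
    refine hback h ?_
    have hr2 := htop ho rfl
    have hcard : Nat.card (ratPGL A) = 2 * Nat.card (ratPSL A) := by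
      rcases card_ratPSL_cases A with ⟨-, e⟩ | ⟨e, -⟩
      · omega
      · rw [hd, Nat.pow_mod, e, zero_pow hr.ne_zero] at ho
        simp at ho
    rw [hc, inf_sln_eq_of_half (ratPSL_le A) (ratPSL_le_sln A) (hc ▸ hnle' h) hcard]
    exact ratPSL_maxIn_odd p hr hr2 ho hd

end CfsgLib.Classical.Dickson
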