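import Cfsg.Agent.Lib.Classical.Dickson.Rational
import Cfsg.Agent.Lib.Classical.Dickson.PSL

/-!
# Maximal subgroups of `PGL₂(q)` and `PSL₂(q)`: tools
-/

set_option autoImplicit false
set_option linter.unusedSectionVars false
set_option linter.style.haveILetI false

namespace CfsgLib.Classical.Dickson

open Matrix OnePoint MulAction
open scoped MatrixGroups

variable {F : Type*} [Field F] [Fintype F] [DecidableEq F]

local notation "PG" => ProjGenLinGroup (Fin 2) F

/-- `M` is maximal among the proper subgroups of `Γ`. -/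
structure MaxIn (Γ M : Subgroup PG) : Prop where
  le : M ≤ Γ
  ne : M ≠ Γ
  eq : ∀ K, M ≤ K → K ≤ Γ → K ≠ Γ → K = M

theorem maxIn_map_iff {H : Type*} [Group H] {f : H →* PG} (hf : Function.Injective f)
    (S : Subgroup H) : IsCoatom S ↔ MaxIn f.range (S.map f) := by
  have hr : f.range = (⊤ : Subgroup H).map f := MonoidHom.range_eq_map f
  constructor
  · rintro ⟨hne, hmax⟩
    refine ⟨Subgroup.map_le_range f S, fun e => hne (Subgroup.map_injective hf (e.trans hr)), ?_⟩
    intro K hSK hK hKne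
    rw [← Subgroup.map_comap_eq_self hK]
    congr 1
    by_contra h
    have h1 : S < K.comap f := lt_of_le_of_ne (Subgroup.map_le_iff_le_comap.mp hSK) (Ne.symm h)
    exact hKne (by rw [← Subgroup.map_comap_eq_self hK, hmax _ h1, ← hr])
  · rintro ⟨-, hne, hmax⟩
    refine ⟨fun e => hne (by rw [e, ← hr]), fun K hK => ?_⟩
    by_contra h
    have := hmax (K.map f) (Subgroup.map_mono hK.le) (Subgroup.map_le_range f K)
      (fun e => h (Subgroup.map_injective hf (e.trans hr)))
    exact hK.ne (Subgroup.map_injective hf this).symm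

theorem isCoatom_iff_maxIn (M : Subgroup PG) : IsCoatom M ↔ MaxIn ⊤ M := by
  constructor
  · rintro ⟨hne, h⟩
    refine ⟨le_top, hne, fun K hMK _ hK => ?_⟩
    by_contra e
    exact hK (h K (lt_of_le_of_ne hMK (Ne.symm e)))
  · rintro ⟨-, hne, h⟩
    refine ⟨hne, fun K hK => ?_⟩
    by_contra e
    exact hK.ne (h K hK.le le_top e).symm

theorem range_toPGL' :
    (ProjectiveSpecialLinearGroup.toPGL (n := Fin 2) (R := F)).range = sln F := by
  apply le_antisymm
  · rintro _ ⟨g, rfl⟩
    induction g using QuotientGroup.induction_on with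
    | H g => exact ⟨g, rfl⟩
  · rintro _ ⟨g, rfl⟩; exact ⟨(g : ProjectiveSpecialLinearGroup (Fin 2) F), rfl⟩

theorem psl_isCoatom_iff (M : Subgroup (ProjectiveSpecialLinearGroup (Fin 2) F)) :
    IsCoatom M ↔ MaxIn (sln F) (inPGL M) := by
  rw [maxIn_map_iff ProjectiveSpecialLinearGroup.toPGL_injective M, range_toPGL']
  rfl

/-- Existence of a maximal subgroup of `PSL₂` from one of the image. -/
theorem exists_coatom_psl {X : Type*} [Group X] {S : Subgroup PG} (h : MaxIn (sln F) S)
    (e : Nonempty (S ≃* X)) :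
    ∃ H : Subgroup (ProjectiveSpecialLinearGroup (Fin 2) F), IsCoatom H ∧ Nonempty (H ≃* X) := by
  obtain ⟨e⟩ := e
  have hS : inPGL (S.comap ProjectiveSpecialLinearGroup.toPGL) = S :=
    Subgroup.map_comap_eq_self (h.le.trans_eq range_toPGL'.symm)
  exact ⟨_, (psl_isCoatom_iff _).mpr (by rw [hS]; exact h),
    ⟨((inPGLEquiv _).trans (MulEquiv.subgroupCongr hS)).trans e⟩⟩

theorem IsBig.normal {Γ : Subgroup PG} (h : IsBig Γ) : Γ.Normal := by
  rcases h with rfl | rfl <;> infer_instance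

theorem map_conj_map_conj (h : PG) (M : Subgroup PG) :
    (M.map (MulAut.conj h).toMonoidHom).map (MulAut.conj h⁻¹).toMonoidHom = M := by
  ext g
  simp [mul_assoc]

theorem map_conj_le {Γ : Subgroup PG} (hΓ : Γ.Normal) (h : PG) {M : Subgroup PG} (hM : M ≤ Γ) :
    M.map (MulAut.conj h).toMonoidHom ≤ Γ := by
  rintro _ ⟨g, hg, rfl⟩
  exact hΓ.conj_mem g (hM hg) h

theorem card_map_conj (h : PG) (M : Subgroup PG) :
    Nat.card (M.map (MulAut.conj h).toMonoidHom) = Nat.card M :=
  Subgroup.card_map_of_injective (MulEquiv.injective _)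

noncomputable def conjEquiv (h : PG) (M : Subgroup PG) : M ≃* M.map (MulAut.conj h).toMonoidHom :=
  M.equivMapOfInjective _ (MulEquiv.injective (MulAut.conj h))

theorem MaxIn.conj {Γ M : Subgroup PG} (hM : MaxIn Γ M) (hΓ : Γ.Normal) (h : PG) :
    MaxIn Γ (M.map (MulAut.conj h).toMonoidHom) := by
  refine ⟨map_conj_le hΓ h hM.le, fun e => hM.ne (Subgroup.eq_of_le_of_card_ge hM.le ?_), ?_⟩
  · rw [← card_map_conj h M, e]
  · intro K hMK hK hne
    have h1 : M ≤ K.map (MulAut.conj h⁻¹).toMonoidHom := by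
      rw [← map_conj_map_conj h M]; exact Subgroup.map_mono hMK
    have h2 := hM.eq _ h1 (map_conj_le hΓ _ hK) (fun e => hne (Subgroup.eq_of_le_of_card_ge hK
      (by rw [← card_map_conj h⁻¹ K, e])))
    rw [← h2]
    conv_lhs => rw [← map_conj_map_conj h⁻¹ K, inv_inv]

/-- Nothing strictly bigger than a maximal subgroup. -/
theorem MaxIn.absurd_of_card {Γ M K : Subgroup PG} (hM : MaxIn Γ M) (hMK : M ≤ K) (hK : K ≤ Γ)
    (h1 : Nat.card M < Nat.card K) (h2 : Nat.card K < Nat.card Γ) : False := by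
  have := hM.eq K hMK hK (fun e => absurd h2 (by rw [e]; exact lt_irrefl _))
  rw [this] at h1
  exact lt_irrefl _ h1

section Sylow

/-- A subgroup of full prime-power order can be conjugated into any subgroup whose order it divides. -/
theorem exists_conj_le {Γ H X : Subgroup PG} (hH : H ≤ Γ) (hX : X ≤ Γ) {l a : ℕ} [Fact l.Prime]
    (hcard : Nat.card H = l ^ a) (hfull : ¬ l ^ (a + 1) ∣ Nat.card Γ) (hdvd : l ^ a ∣ Nat.card X) :
    ∃ g ∈ Γ, H.map (MulAut.conj g).toMonoidHom ≤ X := by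
  classical
  obtain ⟨Q, hQ⟩ := Sylow.exists_subgroup_card_pow_prime l hdvd
  set Q' := Q.map X.subtype with hQ'
  have hQX : Q' ≤ X := Subgroup.map_subtype_le Q
  have hQc : Nat.card Q' = l ^ a := by
    rw [hQ', Subgroup.card_map_of_injective (Subgroup.subtype_injective X), hQ]
  have aux : ∀ (S : Subgroup PG), S ≤ Γ → Nat.card S = l ^ a →
      ∃ P : Sylow l Γ, (P : Subgroup Γ) = S.subgroupOf Γ := by
    intro S hS hSc
    have hc : Nat.card (S.subgroupOf Γ) = l ^ a := by
      rw [Nat.card_congr (Subgroup.subgroupOfEquivOfLe hS).toEquiv, hSc]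
    obtain ⟨P, hP⟩ := (IsPGroup.of_card hc).exists_le_sylow
    obtain ⟨b, hb⟩ := IsPGroup.iff_card.mp P.isPGroup'
    refine ⟨P, (Subgroup.eq_of_le_of_card_ge hP ?_).symm⟩
    rw [hc, hb]
    refine Nat.pow_le_pow_right (Fact.out : l.Prime).pos ?_
    by_contra hab
    exact hfull ((Nat.pow_dvd_pow l (by omega : a + 1 ≤ b)).trans (hb ▸ (P : Subgroup Γ).card_subgroup_dvd_card))
  obtain ⟨P, hP⟩ := aux H hH hcard
  obtain ⟨P', hP'⟩ := aux Q' (hQX.trans hX) hQc
  obtain ⟨g, hg⟩ := MulAction.exists_smul_eq Γ P P'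
  refine ⟨g, g.2, ?_⟩
  rintro _ ⟨x, hx, rfl⟩
  apply hQX
  have h1 : (⟨x, hH hx⟩ : Γ) ∈ (P : Subgroup Γ) := by rw [hP]; exact hx
  have h2 : g * ⟨x, hH hx⟩ * g⁻¹ ∈ (P' : Subgroup Γ) := by
    rw [← hg]
    exact Subgroup.mem_map.mpr ⟨⟨x, hH hx⟩, h1, rfl⟩
  rw [hP'] at h2
  exact h2

end Sylow

section Points

/-- A subgroup containing both unipotent translations and transvections has no fixed point. -/
theorem ratPSL_no_fixed (p : ℕ) [Fact p.Prime] [CharP F p] (A : Subfield F) (x : OnePoint F) :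
    ∃ g ∈ ratPSL A, g • x ≠ x := by
  let t : SL(2, A) := ⟨!![1, 1; 0, 1], by simp⟩
  let w : SL(2, A) := ⟨!![0, -1; 1, 0], by simp⟩
  have ht : (ProjGenLinGroup.map (n := Fin 2) A.subtype) (SpecialLinearGroup.toPGL t) =
      aff (1 : Fˣ) (1 : F) := by
    show ProjGenLinGroup.map A.subtype (ProjGenLinGroup.mk _) = _
    rw [ProjGenLinGroup.map_mk, aff]
    apply congrArg ProjGenLinGroup.mk
    apply Units.ext; ext i j; fin_cases i <;> fin_cases j <;> simp [affGL, t] <;> rfl
  by_cases hx : x = ∞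
  · subst hx
    refine ⟨_, ⟨w, rfl⟩, ?_⟩
    show (ProjGenLinGroup.map (n := Fin 2) A.subtype) (SpecialLinearGroup.toPGL w) • (∞ : OnePoint F) ≠ _
    rw [show SpecialLinearGroup.toPGL w = ProjGenLinGroup.mk (SpecialLinearGroup.toGL w) from rfl,
      ProjGenLinGroup.map_mk, mk_smul]
    intro e
    rw [OnePoint.smul_infty_eq_self_iff] at e
    exact one_ne_zero (α := F) (by simpa [w, SpecialLinearGroup.toGL] using e)
  · refine ⟨_, ⟨t, rfl⟩, ?_⟩
    rw [MonoidHom.comp_apply, ht]
    intro e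
    refine hx (fix_of_unip p ?_ ((aff_pow_char_eq_one_iff p 1 1).mpr rfl) (aff_smul_infty 1 1) e)
    rw [Ne, aff_eq_one_iff]
    simp

theorem dvd_card_ratPSL (p : ℕ) [hp : Fact p.Prime] [CharP F p] (A : Subfield F) :
    p ∣ Nat.card (ratPSL A) := by
  let t : SL(2, A) := ⟨!![1, 1; 0, 1], by simp⟩
  have ht : (ProjGenLinGroup.map (n := Fin 2) A.subtype) (SpecialLinearGroup.toPGL t) =
      aff (1 : Fˣ) (1 : F) := by
    show ProjGenLinGroup.map A.subtype (ProjGenLinGroup.mk _) = _
    rw [ProjGenLinGroup.map_mk, aff]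
    apply congrArg ProjGenLinGroup.mk
    apply Units.ext; ext i j; fin_cases i <;> fin_cases j <;> simp [affGL, t] <;> rfl
  have hmem : aff (1 : Fˣ) (1 : F) ∈ ratPSL A := ⟨t, ht⟩
  rw [← orderOf_eq_prime (G := ProjGenLinGroup (Fin 2) F) ((aff_pow_char_eq_one_iff p 1 1).mpr rfl)
    (by rw [Ne, aff_eq_one_iff]; simp)]
  exact Subgroup.orderOf_dvd_natCard _ hmem

/-- Point stabilisers are maximal. -/
theorem stabIn_maxIn {Γ : Subgroup PG} (hΓ : sln F ≤ Γ) (x : OnePoint F) :
    MaxIn Γ (stabIn Γ x) := by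
  refine ⟨fun g hg => hg.1, stabIn_ne hΓ x, fun K hSK hK hne => ?_⟩
  by_contra hne'
  obtain ⟨g, hgK, hgS⟩ : ∃ g ∈ K, g ∉ stabIn Γ x := by
    by_contra h
    push Not at h
    exact hne' (le_antisymm h hSK)
  have hgx : g • x ≠ x := fun e => hgS ⟨hK hgK, e⟩
  have htrans : ∀ y : OnePoint F, ∃ k ∈ K, k • x = y := by
    intro y
    by_cases hy : y = x
    · exact ⟨1, one_mem _, by rw [one_smul, hy]⟩
    -- `stab x` moves `g • x` to every other point
    obtain ⟨m, hm, hmi⟩ := exists_sln_to_infty x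
    have hfin : ∀ z, z ≠ x → ∃ b : F, m⁻¹ • z = ((b : F) : OnePoint F) := by
      intro z hz
      cases hz' : m⁻¹ • z with
      | infty => exact absurd (by rw [← hmi, ← hz', smul_inv_smul]) hz
      | coe b => exact ⟨b, rfl⟩
    obtain ⟨b, hb⟩ := hfin _ hgx
    obtain ⟨c, hc⟩ := hfin _ hy
    have ht : aff (1 : Fˣ) (c - b) ∈ sln F := aff_mem_sln_iff.mpr (by simp)
    have hs : m * aff 1 (c - b) * m⁻¹ ∈ stabIn Γ x :=
      mem_stabIn.mpr ⟨hΓ (mul_mem (mul_mem hm ht) (inv_mem hm)), by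
        rw [mul_smul, mul_smul, inv_smul_eq_iff.mpr hmi.symm, aff_smul_infty, hmi]⟩
    refine ⟨m * aff 1 (c - b) * m⁻¹ * g, mul_mem (hSK hs) hgK, ?_⟩
    rw [mul_smul, mul_smul, mul_smul, hb, aff_smul_coe, Units.val_one, one_mul, add_sub_cancel,
      ← hc, smul_inv_smul]
  refine hne (le_antisymm hK fun l hl => ?_)
  obtain ⟨k, hk, hkx⟩ := htrans (l • x)
  have : k⁻¹ * l ∈ stabIn Γ x :=
    mem_stabIn.mpr ⟨mul_mem (inv_mem (hK hk)) hl, by rw [mul_smul, inv_smul_eq_iff, hkx]⟩
  simpa using mul_mem hk (hSK this)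

end Points

section Dihedral

theorem dihedral_normalizes {G : Subgroup PG} {c : PG} (hc : c ∈ G) (h2 : 2 ≤ orderOf c)
    (f : G ≃* DihedralGroup (orderOf c)) : ∀ g ∈ G, g * c * g⁻¹ ∈ Subgroup.zpowers c := by
  have aux : ∀ n : ℕ, 2 ≤ n → ∀ x y : DihedralGroup n, orderOf x = n →
      y * x * y⁻¹ ∈ Subgroup.zpowers x := by
    intro n hn x y hx
    by_cases hn2 : n = 2
    · subst hn2
      have hcomm : ∀ a b : DihedralGroup 2, b * a * b⁻¹ = a := by decide
      rw [hcomm]; exact Subgroup.mem_zpowers x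
    rcases x with i | i
    · rcases y with j | j
      · have : DihedralGroup.r j * DihedralGroup.r i * (DihedralGroup.r j)⁻¹ = DihedralGroup.r i := by
          simp
        rw [this]; exact Subgroup.mem_zpowers _
      · have : DihedralGroup.sr j * DihedralGroup.r i * (DihedralGroup.sr j)⁻¹ =
            (DihedralGroup.r i)⁻¹ := by simp
        rw [this]; exact inv_mem (Subgroup.mem_zpowers _)
    · rw [DihedralGroup.orderOf_sr] at hx
      omega
  intro g hg
  have h := aux _ h2 (f ⟨c, hc⟩) (f ⟨g, hg⟩) (by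
    rw [MulEquiv.orderOf_eq, ← Subgroup.orderOf_coe])
  obtain ⟨k, hk⟩ := Subgroup.mem_zpowers_iff.mp h
  rw [← map_zpow, ← map_inv, ← map_mul, ← map_mul] at hk
  exact Subgroup.mem_zpowers_iff.mpr ⟨k, by
    have := congrArg Subtype.val (f.injective hk)
    simpa using this⟩

/-- Two non-commuting elements of order three do not fit into a dihedral group. -/
theorem dihedral_cubes_commute {n : ℕ} (a b : DihedralGroup n) (ha : a ^ 3 = 1) (hb : b ^ 3 = 1) :
    a * b = b * a := by
  rcases a with i | i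
  · rcases b with j | j
    · simp [add_comm]
    · exfalso
      rw [pow_succ, pow_two, DihedralGroup.sr_mul_self, one_mul, DihedralGroup.one_def] at hb
      exact nomatch hb
  · exfalso
    rw [pow_succ, pow_two, DihedralGroup.sr_mul_self, one_mul, DihedralGroup.one_def] at ha
    exact nomatch ha

end Dihedral

section Squares

theorem exists_pow_eq (a : ℕ) (ha : Odd a) :
    ∀ d : ℕ, ∃ S, a ^ d = (a - 1) * S + 1 ∧ (Odd S ↔ Odd d)
  | 0 => ⟨0, by simp, by simp⟩
  | d + 1 => by
    obtain ⟨S, h1, h2⟩ := exists_pow_eq a ha d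
    refine ⟨a * S + 1, ?_, ?_⟩
    · obtain ⟨b, rfl⟩ : ∃ b, a = b + 1 := ⟨a - 1, by have := ha.pos; omega⟩
      rw [pow_succ, h1, Nat.add_sub_cancel]; ring
    · rw [Nat.odd_add_one, Nat.odd_add_one, Nat.odd_mul]
      simp [ha, h2]

/-- In an extension of degree `d` all elements of the subfield are squares iff `d` is even. -/
theorem forall_isSquare_iff (A : Subfield F) {d : ℕ} (hd : Fintype.card F = Nat.card A ^ d)
    (hodd : Odd (Fintype.card F)) : (∀ a : A, IsSquare (a : F)) ↔ Even d := by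
  classical
  haveI := Fintype.ofFinite A
  have hd0 : d ≠ 0 := fun h => by
    rw [h, pow_zero] at hd
    have := Fintype.one_lt_card (α := F)
    omega
  have haodd : Odd (Nat.card A) := (Nat.odd_pow_iff hd0).mp (hd ▸ hodd)
  have hF : ringChar F ≠ 2 := fun e => by
    have h1 := FiniteField.even_card_iff_char_two.mp e
    rw [Nat.odd_iff] at hodd
    omega
  have hA : ringChar A ≠ 2 := fun e => by
    have h1 := FiniteField.even_card_iff_char_two.mp e
    rw [Nat.odd_iff, Nat.card_eq_fintype_card] at haodd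
    omega
  obtain ⟨S, hS, hpar⟩ := exists_pow_eq _ haodd d
  have hdiv : Fintype.card F / 2 = Fintype.card A / 2 * S := by
    rw [hd, hS]
    obtain ⟨k, hk⟩ := haodd
    rw [← Nat.card_eq_fintype_card (α := A), hk, Nat.add_sub_cancel,
      show (2 * k + 1) / 2 = k by omega, mul_assoc]
    omega
  constructor
  · intro h
    obtain ⟨a, ha⟩ := FiniteField.exists_nonsquare hA
    have ha0 : a ≠ 0 := fun e => ha (e ▸ IsSquare.zero)
    have h1 := (FiniteField.isSquare_iff hF (a := (a : F)) (by simpa using ha0)).mp (h a)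
    have h2 : a ^ (Fintype.card A / 2) = -1 :=
      (FiniteField.pow_dichotomy hA ha0).resolve_left fun e =>
        ha ((FiniteField.isSquare_iff hA ha0).mpr e)
    rw [hdiv, pow_mul, ← SubmonoidClass.coe_pow, h2] at h1
    by_contra hde
    rw [Nat.not_even_iff_odd, ← hpar] at hde
    rw [NegMemClass.coe_neg, OneMemClass.coe_one, hde.neg_one_pow] at h1
    exact Ring.neg_one_ne_one_of_char_ne_two hF h1
  · intro hde a
    by_cases ha0 : a = 0
    · rw [ha0]; exact IsSquare.zero
    refine (FiniteField.isSquare_iff hF (by simpa using ha0)).mpr ?_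
    obtain ⟨m, hm⟩ : Even S := by
      rw [← Nat.not_odd_iff_even, hpar, Nat.not_odd_iff_even]; exact hde
    rw [hdiv, pow_mul, ← SubmonoidClass.coe_pow]
    rcases FiniteField.pow_dichotomy hA ha0 with e | e <;> rw [e] <;> simp [hm, ← two_mul, pow_mul]

end Squares

section Fields

variable (p : ℕ) [hp : Fact p.Prime] [CharP F p]

include hp in
theorem card_fixField {m n : ℕ} (hn : Fintype.card F = p ^ n) (hm : m ∣ n) (hm0 : m ≠ 0) :
    Nat.card (fixField (F := F) p m) = p ^ m := by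
  classical
  refine le_antisymm (card_fixField_le m (Nat.one_le_iff_ne_zero.mpr hm0)) ?_
  have h1 : Nat.card (powMonoidHom (p ^ m - 1) : Fˣ →* Fˣ).ker = p ^ m - 1 := by
    rw [IsCyclic.card_powMonoidHom_ker, Nat.card_units, Nat.card_eq_fintype_card, hn]
    exact Nat.gcd_eq_right (Nat.pow_sub_one_dvd_pow_sub_one p hm)
  have hpm : 1 ≤ p ^ m := Nat.one_le_pow _ _ hp.out.pos
  let f : Option (powMonoidHom (p ^ m - 1) : Fˣ →* Fˣ).ker → fixField (F := F) p m := fun o =>
    o.elim 0 (fun u => ⟨((u : Fˣ) : F), by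
      have he : ((u : Fˣ) : F) ^ p ^ m = ((u : Fˣ) : F) ^ (p ^ m - 1) * ((u : Fˣ) : F) := by
        rw [← pow_succ, Nat.sub_add_cancel hpm]
      rw [mem_fixField, he, ← Units.val_pow_eq_pow_val,
        show (u : Fˣ) ^ (p ^ m - 1) = 1 from u.2, Units.val_one, one_mul]⟩)
  have hf : Function.Injective f := by
    rintro (_ | a) (_ | b) h
    · rfl
    · exact absurd (congrArg Subtype.val h).symm (Units.ne_zero _)
    · exact absurd (congrArg Subtype.val h) (Units.ne_zero _)
    · exact congrArg Option.some (Subtype.ext (Units.ext (congrArg Subtype.val h)))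
  have := Nat.card_le_card_of_injective f hf
  rw [Finite.card_option, h1] at this
  omega

theorem le_fixField (A : Subfield F) {a m : ℕ} (hA : Nat.card A = p ^ a) (hm : a ∣ m) :
    A ≤ fixField p m := by
  intro x hx
  haveI := Fintype.ofFinite A
  have h := congrArg Subtype.val (FiniteField.pow_card (⟨x, hx⟩ : A))
  rw [← Nat.card_eq_fintype_card, hA] at h
  simp only [SubmonoidClass.coe_pow] at h
  obtain ⟨k, rfl⟩ := hm
  rw [mem_fixField]
  induction k with
  | zero => simp
  | succ k ih => rw [mul_add, mul_one, pow_add, pow_mul, ih, h]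

include hp in
theorem subfield_data (A : Subfield F) :
    ∃ a d : ℕ, 0 < a ∧ 0 < d ∧ Nat.card A = p ^ a ∧ Fintype.card F = p ^ (a * d) ∧
      Fintype.card F = Nat.card A ^ d := by
  haveI := Fintype.ofFinite A
  haveI : CharP A p := (RingHom.charP_iff A.subtype A.subtype.injective p).mpr inferInstance
  obtain ⟨a, -, ha⟩ := FiniteField.card A p
  refine ⟨a, Module.finrank A F, a.pos, Module.finrank_pos, ?_, ?_, ?_⟩
  · rw [Nat.card_eq_fintype_card, ha]
  · rw [pow_mul, ← ha, ← Nat.card_eq_fintype_card (α := A), ← Module.natCard_eq_pow_finrank,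
      Nat.card_eq_fintype_card]
  · rw [← Module.natCard_eq_pow_finrank, Nat.card_eq_fintype_card]

include hp in
theorem exists_intermediate (A : Subfield F) {d e : ℕ} (hd : Fintype.card F = Nat.card A ^ d)
    (he : e ∣ d) : ∃ E : Subfield F, A ≤ E ∧ Nat.card E = Nat.card A ^ e := by
  obtain ⟨a, d', ha, hd', hA, hF, hF'⟩ := subfield_data p A
  have h1 : d = d' := Nat.pow_right_injective (by rw [hA]; exact Nat.one_lt_pow ha.ne' hp.out.one_lt)
    (hd.symm.trans hF')
  subst h1
  refine ⟨fixField p (a * e), le_fixField p A hA (dvd_mul_right a e), ?_⟩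
  rw [card_fixField p hF (Nat.mul_dvd_mul_left a he) (Nat.mul_ne_zero ha.ne'
    (fun h => hd'.ne' (Nat.eq_zero_of_zero_dvd (h ▸ he)))), hA, pow_mul]

end Fields

section Rat

theorem ratPGL_mono {A E : Subfield F} (h : A ≤ E) : ratPGL A ≤ ratPGL E := by
  rintro _ ⟨m, rfl⟩
  induction m using ProjGenLinGroup.induction_on with | mk m =>
  rw [ProjGenLinGroup.map_mk]
  exact mk_mem_ratPGL fun i j => h (by simp)

theorem ratPSL_mono {A E : Subfield F} (h : A ≤ E) : ratPSL A ≤ ratPSL E := by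
  rintro _ ⟨s, rfl⟩
  refine ⟨SpecialLinearGroup.map (Subfield.inclusion h) s, ?_⟩
  show ProjGenLinGroup.map E.subtype (ProjGenLinGroup.mk _) =
    ProjGenLinGroup.map A.subtype (ProjGenLinGroup.mk (SpecialLinearGroup.toGL s))
  rw [ProjGenLinGroup.map_mk, ProjGenLinGroup.map_mk]
  apply congrArg ProjGenLinGroup.mk
  apply Units.ext; ext i j; rfl

theorem ratPSL_le_sln (A : Subfield F) : ratPSL A ≤ sln F := by
  rintro _ ⟨s, rfl⟩
  refine ⟨SpecialLinearGroup.map A.subtype s, ?_⟩
  show _ = ProjGenLinGroup.map A.subtype (ProjGenLinGroup.mk (SpecialLinearGroup.toGL s))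
  rw [ProjGenLinGroup.map_mk]
  apply congrArg ProjGenLinGroup.mk
  apply Units.ext; ext i j; rfl

theorem ratPGL_le_sln_iff (A : Subfield F) :
    ratPGL A ≤ sln F ↔ ∀ a : A, IsSquare (a : F) := by
  constructor
  · intro h a
    by_cases ha : (a : F) = 0
    · rw [ha]; exact IsSquare.zero
    refine aff_mem_sln_iff.mp (h (mk_mem_ratPGL (B := A) (g := affGL (Units.mk0 (a : F) ha) 0) ?_))
    intro i j
    fin_cases i <;> fin_cases j <;> simp [affGL]
  · rintro h _ ⟨m, rfl⟩
    induction m using ProjGenLinGroup.induction_on with | mk m =>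
    rw [ProjGenLinGroup.map_mk, mem_sln_iff]
    have : ((Matrix.GeneralLinearGroup.map A.subtype m : GL (Fin 2) F) : Matrix (Fin 2) (Fin 2) F).det =
        ((m : Matrix (Fin 2) (Fin 2) A).det : F) := by
      simp [det_fin_two]
    rw [this]
    exact h _

noncomputable def ratPGLEquiv (A : Subfield F) : ratPGL A ≃* ProjGenLinGroup (Fin 2) A :=
  (MonoidHom.ofInjective (map_injective_subfield A)).symm

theorem ratPSL_equiv (A : Subfield F) {K : Type*} [Field K] (e : A ≃+* K) :
    Nonempty (ratPSL A ≃* ProjectiveSpecialLinearGroup (Fin 2) K) := by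
  obtain ⟨f⟩ := psl_congr e
  exact ⟨(MulEquiv.subgroupCongr (MonoidHom.range_comp _ _)).trans
    ((Subgroup.equivMapOfInjective _ _ (map_injective_subfield A)).symm.trans f)⟩

theorem ratPGL_equiv (A : Subfield F) {K : Type*} [Field K] (e : A ≃+* K) :
    Nonempty (ratPGL A ≃* ProjGenLinGroup (Fin 2) K) :=
  ⟨(ratPGLEquiv A).trans (pglCongr e)⟩

theorem eq_top_of_card {A : Subfield F} (h : Nat.card A = Fintype.card F) : A = ⊤ :=
  SetLike.coe_injective (Set.eq_of_subset_of_ncard_le (Set.subset_univ _) (by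
    rw [Subfield.coe_top, Set.ncard_univ, ← Nat.card_coe_set_eq, Nat.card_eq_fintype_card]
    exact h.ge) (Set.toFinite _))

theorem card_top_subfield : Nat.card (⊤ : Subfield F) = Fintype.card F := by
  rw [Nat.card_congr (Equiv.subtypeUnivEquiv fun x : F => Subfield.mem_top x), Nat.card_eq_fintype_card]

theorem ratPGL_top : ratPGL (⊤ : Subfield F) = ⊤ := by
  apply Subgroup.eq_top_of_card_eq
  rw [card_ratPGL, card_top_subfield, card_pgl_eq]

theorem ratPSL_top : ratPSL (⊤ : Subfield F) = sln F := by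
  refine Subgroup.eq_of_le_of_card_ge (ratPSL_le_sln _) ?_
  have h1 := card_ratPSL (⊤ : Subfield F)
  have h2 := card_sln (F := F)
  rw [card_top_subfield] at h1
  have hpos : 0 < Nat.gcd 2 (Fintype.card F - 1) := Nat.gcd_pos_of_pos_left _ two_pos
  exact le_of_eq (Nat.eq_of_mul_eq_mul_left hpos (h1.trans h2.symm)).symm

end Rat

end CfsgLib.Classical.Dickson
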