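import Cfsg.Agent.Lib.Classical.Dickson.MaxClass
import Cfsg.Agent.Lib.Classical.Quat.Subfields
import Cfsg.Agent.Lib.Classical.SLBasic
import Cfsg.Agent.Lib.NumberTheory.SwapClosure
import Cfsg.Agent.S0250
import Cfsg.Agent.S0251

/-!
# The minimal simple groups `PSL₂(q)`
-/

set_option autoImplicit false
set_option linter.unusedSectionVars false
set_option linter.style.haveILetI false

namespace CfsgLib.Classical.Dickson

open Matrix OnePoint MulAction Equiv
open scoped MatrixGroups

variable {F : Type*} [Field F] [Fintype F] [DecidableEq F] (p : ℕ) [hp : Fact p.Prime] [CharP F p]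

local notation "PG" => ProjGenLinGroup (Fin 2) F
local notation "PSL" => ProjectiveSpecialLinearGroup (Fin 2) F

theorem solvable_dihedral (n : ℕ) : Group.IsSolvable (DihedralGroup n) := by
  let χ : DihedralGroup n →* Multiplicative (ZMod 2) :=
    { toFun := fun g => match g with
        | DihedralGroup.r _ => 1
        | DihedralGroup.sr _ => Multiplicative.ofAdd 1
      map_one' := rfl
      map_mul' := by rintro (i | i) (j | j) <;> simp <;> rfl }
  let ρ : Multiplicative (ZMod n) →* DihedralGroup n :=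
    { toFun := fun a => DihedralGroup.r a.toAdd
      map_one' := rfl
      map_mul' := fun a b => by simp }
  refine solvable_of_ker_le_range ρ χ ?_
  rintro (i | i) h
  · exact ⟨Multiplicative.ofAdd i, rfl⟩
  · exact absurd (show Multiplicative.ofAdd (1 : ZMod 2) = 1 from h) (by decide)

theorem solvable_perm_four : Group.IsSolvable (Perm (Fin 4)) :=
  CfsgLib.NumberTheory.SwapClosure.isSolvable_perm_fin_four

theorem solvable_alt_four : Group.IsSolvable (alternatingGroup (Fin 4)) := by
  haveI := solvable_perm_four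
  exact solvable_of_solvable_injective (f := (alternatingGroup (Fin 4)).subtype) Subtype.val_injective

include p hp in
/-- A point stabiliser is solvable. -/
theorem solvable_stabilizer (x : OnePoint F) : Group.IsSolvable (stabilizer PG x) := by
  classical
  obtain ⟨m, hm⟩ := exists_to_infty x
  let ρ : Multiplicative F →* stabilizer PG x :=
    { toFun := fun b => ⟨m * aff 1 b.toAdd * m⁻¹, by
        rw [mem_stabilizer_iff, mul_smul, mul_smul, ← hm, inv_smul_smul, aff_smul_infty]⟩
      map_one' := Subtype.ext (by simp [aff_one])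
      map_mul' := fun a b => Subtype.ext (by
        show _ = (m * aff 1 a.toAdd * m⁻¹) * (m * aff 1 b.toAdd * m⁻¹)
        rw [show (m * aff 1 a.toAdd * m⁻¹) * (m * aff 1 b.toAdd * m⁻¹) = m * (aff 1 a.toAdd * aff 1 b.toAdd) * m⁻¹ by group,
          aff_mul, mul_one, Units.val_one, one_mul, toAdd_mul, add_comm]) }
  refine solvable_of_ker_le_range ρ (multiAt (E := F) x) ?_
  intro g hg
  rw [MonoidHom.mem_ker, multiAt_eq_one_iff p] at hg
  obtain ⟨a, b, hab⟩ := exists_aff (g := m⁻¹ * (g : PG) * m) (by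
    rw [mul_smul, mul_smul, hm, g.2, ← hm, inv_smul_smul])
  have h1 : (m⁻¹ * (g : PG) * m) ^ p = 1 := by
    have e : m⁻¹ * (g : PG) * m = MulAut.conj m⁻¹ (g : PG) := by simp
    rw [e, ← map_pow, hg, map_one]
  rw [hab, aff_pow_char_eq_one_iff] at h1
  refine ⟨Multiplicative.ofAdd b, Subtype.ext ?_⟩
  show m * aff 1 b * m⁻¹ = g
  rw [← h1, ← hab]; group

include p hp in
theorem isSolvable_maxIn (hq : 4 ≤ Fintype.card F)
    (hno5 : ¬ (Fintype.card F % 10 = 1 ∨ Fintype.card F % 10 = 9))
    (hsub : ∀ s r : ℕ, r.Prime → 3 ≤ s → Fintype.card F = s ^ r → s = 3 ∧ Odd r)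
    {M : Subgroup PG} (hM : MaxIn (sln F) M) : Group.IsSolvable M := by
  classical
  have hof : ∀ {X : Type} [Group X], Group.IsSolvable X → Nonempty (M ≃* X) → Group.IsSolvable M := by
    rintro X _ h ⟨e⟩
    haveI := h
    exact solvable_of_solvable_injective (f := e.toMonoidHom) e.injective
  cases maxKind p (Or.inr rfl) hq hM (fun hle => hM.ne (le_antisymm hM.le hle)) with
  | stab x e =>
    haveI := solvable_stabilizer p x
    refine solvable_of_solvable_injective
      (f := Subgroup.inclusion (show M ≤ stabilizer PG x by rw [e]; exact inf_le_right)) ?_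
    exact Subgroup.inclusion_injective _
  | tori c h1 h2 h3 e =>
    obtain ⟨-, -, -, -, -, -, -, hiso, -⟩ := pairStab_data p (Or.inr rfl) hq h1 h2 h3
    rw [← e] at hiso
    exact hof (solvable_dihedral _) hiso
  | a4 _ _ _ _ hiso => exact hof solvable_alt_four hiso
  | s4 _ _ _ _ hiso => exact hof solvable_perm_four hiso
  | a5 _ hmod _ _ => exact absurd hmod hno5
  | pgl A r g hr hd hA hs _ _ =>
    exfalso
    obtain ⟨h3, ho⟩ := hsub _ r hr hA hd
    have := hs (by rw [hd, h3, Nat.pow_mod]; simp) rfl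
    subst this
    exact absurd ho (by decide)
  | psl A r g hr hd _ hodd hr2 hMA =>
    have hA := two_le_card A
    have hA2 : Nat.card A ≠ 2 := fun h => by
      rw [hd, h, Nat.pow_mod] at hodd
      obtain ⟨k, rfl⟩ := hr2
      simp at hodd
    obtain ⟨h3, -⟩ := hsub _ r hr (by omega) hd
    obtain ⟨e₁⟩ := ratPSL_equiv A (RingEquiv.refl A)
    haveI := Fintype.ofFinite A
    obtain ⟨e₂⟩ := Cfsg.Agent.S0251.result (F := A) (by rw [← Nat.card_eq_fintype_card]; exact h3)
    exact hof solvable_alt_four ⟨((conjEquiv g M).trans (MulEquiv.subgroupCongr hMA)).trans (e₁.trans e₂)⟩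

include p hp in
theorem isSolvable_proper (hq : 4 ≤ Fintype.card F)
    (hno5 : ¬ (Fintype.card F % 10 = 1 ∨ Fintype.card F % 10 = 9))
    (hsub : ∀ s r : ℕ, r.Prime → 3 ≤ s → Fintype.card F = s ^ r → s = 3 ∧ Odd r)
    (H : Subgroup PSL) (hH : H ≠ ⊤) : Group.IsSolvable H := by
  have hle : inPGL H ≤ sln F := (Subgroup.map_le_range _ H).trans_eq range_toPGL'
  have hne : inPGL H ≠ sln F := fun e => hH (Subgroup.map_injective ProjectiveSpecialLinearGroup.toPGL_injective (by
    rw [← MonoidHom.range_eq_map, range_toPGL']; exact e))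
  obtain ⟨M, hHM, hM⟩ := exists_proper_ge hle hne
  haveI := isSolvable_maxIn p hq hno5 hsub hM
  exact solvable_of_solvable_injective (f := (Subgroup.inclusion hHM).comp (inPGLEquiv H).toMonoidHom)
    ((Subgroup.inclusion_injective hHM).comp (inPGLEquiv H).injective)
where
  exists_proper_ge {Γ K : Subgroup PG} (hK : K ≤ Γ) (hne : K ≠ Γ) : ∃ M, K ≤ M ∧ MaxIn Γ M := by
    obtain ⟨M, hle, hM⟩ := Set.Finite.exists_le_maximal
      (s := {M : Subgroup PG | K ≤ M ∧ M ≤ Γ ∧ M ≠ Γ}) (Set.toFinite _) ⟨le_rfl, hK, hne⟩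
    exact ⟨M, hle, hM.prop.2.1, hM.prop.2.2,
      fun L hML hL hLne => le_antisymm (hM.le_of_ge ⟨hle.trans hML, hL, hLne⟩ hML) hML⟩

/-- An embedded non-solvable group of another order prevents minimal simplicity. -/
theorem not_minimal_of_embedding {X : Type*} [Group X] (hX : ¬ Group.IsSolvable X) (φ : X →* PSL)
    (hφ : Function.Injective φ) (hne : φ.range ≠ ⊤) : ¬ Cfsg.IsMinimalSimple PSL := by
  rintro ⟨-, -, h⟩
  haveI := h φ.range hne
  exact hX (solvable_of_solvable_injective (f := φ.rangeRestrict) fun a b e => hφ (congrArg Subtype.val e))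

theorem not_solvable_alt_five : ¬ Group.IsSolvable (alternatingGroup (Fin 5)) := fun h => by
  haveI := h
  refine Equiv.Perm.fin_5_not_solvable (solvable_of_ker_le_range (alternatingGroup (Fin 5)).subtype
    (Equiv.Perm.sign : Perm (Fin 5) →* ℤˣ) ?_)
  intro σ hσ
  exact ⟨⟨σ, hσ⟩, rfl⟩

theorem not_solvable_psl {K : Type*} [Field K] [Fintype K] (hK : 4 ≤ Fintype.card K) :
    ¬ Group.IsSolvable (ProjectiveSpecialLinearGroup (Fin 2) K) := by
  intro h
  haveI := psl_fin_isSimpleGroup (F := K) (le_refl 2) (fun _ => hK)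
  have hcomm := IsSimpleGroup.comm_iff_isSolvable.2 h
  classical
  let u : SL(2, K) := ⟨!![1, 1; 0, 1], by simp⟩
  let v : SL(2, K) := ⟨!![1, 0; 1, 1], by simp⟩
  have e := hcomm (u : ProjectiveSpecialLinearGroup (Fin 2) K) v
  rw [← QuotientGroup.mk_mul, ← QuotientGroup.mk_mul, eq_comm, QuotientGroup.eq] at e
  rcases sl2_center_eq e with e' | e'
  · rw [inv_mul_eq_one] at e'
    have := congrArg (fun g : SL(2, K) => (g : Matrix (Fin 2) (Fin 2) K) 0 0) e'
    simp only [CfsgLib.Classical.sl2_coe_mul] at this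
    simp [u, v, Matrix.mul_apply, Fin.sum_univ_two] at this
  · rw [inv_mul_eq_iff_eq_mul, mul_neg_one] at e'
    have h00 := congrArg (fun g : SL(2, K) => (g : Matrix (Fin 2) (Fin 2) K) 0 1) e'
    have h11 := congrArg (fun g : SL(2, K) => (g : Matrix (Fin 2) (Fin 2) K) 0 0) e'
    simp only [Matrix.SpecialLinearGroup.coe_neg, CfsgLib.Classical.sl2_coe_mul] at h00 h11
    simp [u, v, Matrix.mul_apply, Fin.sum_univ_two] at h00 h11
    have h2 : (2 : K) = 0 := by linear_combination h00
    have : (1 : K) = 0 := by linear_combination h11 - h2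
    exact one_ne_zero this

theorem not_minimal_of_subfield {K : Type*} [Field K] [Fintype K] {m : ℕ} (hm : 1 < m)
    (hK : 4 ≤ Fintype.card K) (h : Fintype.card K ^ m = Fintype.card F) : ¬ Cfsg.IsMinimalSimple PSL := by
  classical
  obtain ⟨ι⟩ := CfsgLib.Classical.Quat.exists_ringHom_of_card_pow (K := K) (F := F) hm.le h
  obtain ⟨φ, hφ⟩ := CfsgLib.Classical.Quat.exists_psl_mono ι
  refine not_minimal_of_embedding (not_solvable_psl hK) φ hφ fun e => ?_
  have hcard : Nat.card (ProjectiveSpecialLinearGroup (Fin 2) K) = Nat.card PSL := by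
    rw [Nat.card_congr (MonoidHom.ofInjective hφ).toEquiv, e, Subgroup.card_top]
  have hs : ∀ (L : Type _) [Field L] [Fintype L],
      Nat.card (ProjectiveSpecialLinearGroup (Fin 2) L) * Nat.card (Subgroup.center SL(2, L)) =
        Fintype.card L * ((Fintype.card L - 1) * (Fintype.card L + 1)) := fun L _ _ => by
    rw [← CfsgLib.Classical.card_sl2']
    exact (Subgroup.card_eq_card_quotient_mul_card_subgroup _).symm
  have h1 := hs K
  have h2 := Subgroup.card_eq_card_quotient_mul_card_subgroup (Subgroup.center SL(2, F))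
  rw [CfsgLib.Classical.card_sl2'] at h2
  change _ = Nat.card PSL * _ at h2
  rw [← hcard] at h2
  have hc : Nat.card (Subgroup.center SL(2, F)) ≤ 2 := by
    rw [← SetLike.coe_sort_coe, Nat.card_coe_set_eq]
    refine le_trans (Set.ncard_le_ncard (t := {1, -1}) (fun z hz => sl2_center_eq hz) (Set.toFinite _)) ?_
    exact (Set.ncard_insert_le _ _).trans (by rw [Set.ncard_singleton])
  have hK1 : 1 ≤ Nat.card (Subgroup.center SL(2, K)) := Nat.card_pos
  set s := Fintype.card K
  set N := Nat.card (ProjectiveSpecialLinearGroup (Fin 2) K)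
  have hsq : s * s ≤ Fintype.card F := by
    rw [← h, ← pow_two]; exact Nat.pow_le_pow_right (by omega) hm
  set q := Fintype.card F
  have hle : q * ((q - 1) * (q + 1)) ≤ 2 * (s * ((s - 1) * (s + 1))) := by
    rw [h2]
    calc N * _ ≤ N * 2 := Nat.mul_le_mul_left _ hc
      _ ≤ 2 * (N * Nat.card (Subgroup.center SL(2, K))) := by
        rw [mul_comm N 2]; exact Nat.mul_le_mul_left _ (Nat.le_mul_of_pos_right _ hK1)
      _ = _ := by rw [h1]
  have hsq' : 4 * s ≤ q := (Nat.mul_le_mul_right s hK).trans hsq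
  have h3 : 4 * s * ((s - 1) * (s + 1)) ≤ q * ((q - 1) * (q + 1)) :=
    Nat.mul_le_mul hsq' (Nat.mul_le_mul (by omega) (by omega))
  have hpos : 0 < s * ((s - 1) * (s + 1)) := Nat.mul_pos (by omega) (Nat.mul_pos (by omega) (by omega))
  rw [mul_assoc 4 s] at h3
  omega

theorem not_minimal_of_five (h : 5 ∣ Fintype.card F * (Fintype.card F ^ 2 - 1))
    (hne : Fintype.card F ≠ 4 ∧ Fintype.card F ≠ 5)
    (hA5 : ∃ φ : alternatingGroup (Fin 5) →* PSL, Function.Injective φ)
    (hbig : Nat.card PSL ≠ 60) : ¬ Cfsg.IsMinimalSimple PSL := by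
  obtain ⟨φ, hφ⟩ := hA5
  refine not_minimal_of_embedding not_solvable_alt_five φ hφ fun e => hbig ?_
  rw [← Subgroup.card_top (G := PSL), ← e, ← Nat.card_congr (MonoidHom.ofInjective hφ).toEquiv,
    nat_card_alternatingGroup, Nat.card_fin]
  simp [Nat.factorial]

end CfsgLib.Classical.Dickson
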