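import Cfsg.Agent.Lib.Classical.Dickson.MaxTools

/-!
# `A₄`, `S₄`, `A₅` inside `PGL₂(q)`: standard position and field of definition
-/

set_option autoImplicit false
set_option linter.unusedSectionVars false
set_option linter.style.haveILetI false
set_option linter.unusedVariables false

namespace CfsgLib.Classical.Dickson

open Matrix OnePoint MulAction Equiv
open scoped MatrixGroups

variable {F : Type*} [Field F] [Fintype F] [DecidableEq F]

local notation "PG" => ProjGenLinGroup (Fin 2) F

theorem exps_a5 {G : Subgroup PG} (f : G ≃* alternatingGroup (Fin 5)) :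
    ∀ g ∈ G, g ^ 1 = 1 ∨ g ^ 2 = 1 ∨ g ^ 3 = 1 ∨ g ^ 5 = 1 := by
  have key : ∀ x : alternatingGroup (Fin 5), x ^ 1 = 1 ∨ x ^ 2 = 1 ∨ x ^ 3 = 1 ∨ x ^ 5 = 1 := by
    decide +kernel
  intro g hg
  have := key (f ⟨g, hg⟩)
  simpa [← map_pow, MulEquiv.map_eq_one_iff, Subtype.ext_iff] using this

theorem index_subgroupOf_sln_dvd (G : Subgroup PG) : ((sln F).subgroupOf G).index ≤ 2 := by
  have h := Subgroup.relIndex_dvd_index_of_normal (H := sln F) (K := G)
  have h2 : (sln F).index ≤ 2 := by rw [index_sln]; rcases dd_cases (F := F) with e | e <;> omega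
  exact (Nat.le_of_dvd (Nat.pos_of_ne_zero Subgroup.index_ne_zero_of_finite) h).trans h2

theorem a5_le_sln {G : Subgroup PG} (f : G ≃* alternatingGroup (Fin 5)) : G ≤ sln F := by
  haveI : IsSimpleGroup (alternatingGroup (Fin 5)) := alternatingGroup.isSimpleGroup_five
  haveI : Nontrivial G := f.toEquiv.nontrivial
  haveI : IsSimpleGroup G := IsSimpleGroup.isSimpleGroup_of_surjective (f.symm.toMonoidHom) f.symm.surjective
  rcases IsSimpleGroup.eq_bot_or_eq_top_of_normal ((sln F).subgroupOf G) inferInstance with h | h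
  · exfalso
    have h1 := index_subgroupOf_sln_dvd G
    rw [h, Subgroup.index_bot, Nat.card_congr f.toEquiv, nat_card_alternatingGroup,
      Nat.card_eq_fintype_card, Fintype.card_fin] at h1
    simp [Nat.factorial] at h1
  · exact Subgroup.subgroupOf_eq_top.mp h

theorem a4_le_sln {G : Subgroup PG} (f : G ≃* alternatingGroup (Fin 4)) : G ≤ sln F := by
  classical
  have hcubes : Nat.card {x : alternatingGroup (Fin 4) // x ^ 3 = 1} = 9 := by
    rw [Nat.card_eq_fintype_card]; decide +kernel
  let ι : {x : alternatingGroup (Fin 4) // x ^ 3 = 1} → (sln F).subgroupOf G := fun x =>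
    ⟨f.symm x.1, mem_sln_of_odd (by
      have h : orderOf ((f.symm x.1 : G) : PG) ∣ 3 := by
        rw [Subgroup.orderOf_coe, MulEquiv.orderOf_eq]; exact orderOf_dvd_of_pow_eq_one x.2
      exact Odd.of_dvd_nat (by decide) h)⟩
  have hinj : Function.Injective ι := fun a b e =>
    Subtype.ext (f.symm.injective (congrArg Subtype.val e))
  have h1 := Nat.card_le_card_of_injective ι hinj
  have h2 := ((sln F).subgroupOf G).card_mul_index
  have h3 := index_subgroupOf_sln_dvd G
  have h4 : Nat.card G = 12 := by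
    rw [Nat.card_congr f.toEquiv, nat_card_alternatingGroup, Nat.card_eq_fintype_card, Fintype.card_fin]
    rfl
  rw [hcubes] at h1
  refine Subgroup.subgroupOf_eq_top.mp (Subgroup.index_eq_one.mp ?_)
  rw [h4] at h2
  have hpos := Nat.pos_of_ne_zero (((sln F).subgroupOf G).index_ne_zero_of_finite)
  interval_cases hi : ((sln F).subgroupOf G).index <;> omega

theorem klein_normal_four : ∀ x : Perm (Fin 4),
    x * (swap 0 1 * swap 2 3) * x⁻¹ ∈ ({swap 0 1 * swap 2 3, swap 0 2 * swap 1 3,
      swap 0 1 * swap 2 3 * (swap 0 2 * swap 1 3)} : Finset _) ∧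
    x * (swap 0 2 * swap 1 3) * x⁻¹ ∈ ({swap 0 1 * swap 2 3, swap 0 2 * swap 1 3,
      swap 0 1 * swap 2 3 * (swap 0 2 * swap 1 3)} : Finset _) := by
  decide +kernel

namespace Frame

variable (Φ : Frame F)

theorem std_a4 {G : Subgroup PG} (f : G ≃* alternatingGroup (Fin 4)) :
    ∃ h : PG, G.map (MulAut.conj h).toMonoidHom = Φ.g12 := by
  let emb : G →* Perm (Fin 4) := (alternatingGroup (Fin 4)).subtype.comp f.toMonoidHom
  have hemb : Function.Injective emb := Subtype.val_injective.comp f.injective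
  have hr : ∀ x : Perm (Fin 4), x ∈ alternatingGroup (Fin 4) → x ∈ emb.range := fun x hx =>
    ⟨f.symm ⟨x, hx⟩, by simp [emb]⟩
  obtain ⟨h, -, hle⟩ := Φ.exists_std emb hemb (a := swap 0 1 * swap 2 3) (b := swap 0 2 * swap 1 3)
    (hr _ (Equiv.Perm.mem_alternatingGroup.mpr (by decide))) (hr _ (Equiv.Perm.mem_alternatingGroup.mpr (by decide))) (fun g _ _ => a4_le_sln f g.2)
    (orderOf_eq_prime (by decide) (by decide)) (orderOf_eq_prime (by decide) (by decide))
    (by decide) (by decide)
  refine ⟨h, Φ.g12_unique ?_ (hle ?_)⟩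
  · rw [card_map_conj, Nat.card_congr f.toEquiv, nat_card_alternatingGroup, Nat.card_eq_fintype_card,
      Fintype.card_fin]
    rfl
  · intro x _
    exact klein_normal_four x

theorem std_s4 {G : Subgroup PG} (f : G ≃* Perm (Fin 4)) :
    ∃ h : PG, G.map (MulAut.conj h).toMonoidHom = Φ.g24 := by
  have hsq : ∀ g : G, ∀ c : Perm (Fin 4), f g = c * c → (g : PG) ∈ sln F := by
    intro g c hc
    have : (g : PG) = ((f.symm c : G) : PG) ^ 2 := by
      rw [← Subgroup.coe_pow, ← map_pow, pow_two, ← hc, MulEquiv.symm_apply_apply]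
    rw [this]; exact sq_mem_sln _
  obtain ⟨h, -, hle⟩ := Φ.exists_std f.toMonoidHom f.injective (a := swap 0 1 * swap 2 3)
    (b := swap 0 2 * swap 1 3) ⟨_, f.apply_symm_apply _⟩ ⟨_, f.apply_symm_apply _⟩
    (fun g _ hg => by
      rcases hg with hg | hg
      · exact hsq g (swap 0 2 * swap 2 1 * swap 1 3) (hg.trans (by decide))
      · exact hsq g (swap 0 1 * swap 1 2 * swap 2 3) (hg.trans (by decide)))
    (orderOf_eq_prime (by decide) (by decide)) (orderOf_eq_prime (by decide) (by decide))
    (by decide) (by decide)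
  refine ⟨h, Subgroup.eq_of_le_of_card_ge (hle ?_) ?_⟩
  · intro x _
    exact klein_normal_four x
  · rw [card_map_conj, Φ.card_g24, Nat.card_congr f.toEquiv, Nat.card_perm, Nat.card_eq_fintype_card,
      Fintype.card_fin]
    rfl

theorem std_a5 {G : Subgroup PG} (f : G ≃* alternatingGroup (Fin 5)) :
    ∃ h : PG, Φ.klein ≤ G.map (MulAut.conj h).toMonoidHom := by
  let emb : G →* Perm (Fin 5) := (alternatingGroup (Fin 5)).subtype.comp f.toMonoidHom
  have hemb : Function.Injective emb := Subtype.val_injective.comp f.injective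
  have hr : ∀ x : Perm (Fin 5), x ∈ alternatingGroup (Fin 5) → x ∈ emb.range := fun x hx =>
    ⟨f.symm ⟨x, hx⟩, by simp [emb]⟩
  obtain ⟨h, hk, -⟩ := Φ.exists_std emb hemb (a := swap 0 1 * swap 2 3) (b := swap 0 2 * swap 1 3)
    (hr _ (Equiv.Perm.mem_alternatingGroup.mpr (by decide))) (hr _ (Equiv.Perm.mem_alternatingGroup.mpr (by decide))) (fun g _ _ => a5_le_sln f g.2)
    (orderOf_eq_prime (by decide) (by decide)) (orderOf_eq_prime (by decide) (by decide))
    (by decide) (by decide)
  exact ⟨h, hk⟩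

/-- Two non-commuting elements of order three. -/
theorem g12_noncomm : ∃ a ∈ Φ.g12, ∃ b ∈ Φ.g12, a ^ 3 = 1 ∧ b ^ 3 = 1 ∧ a * b ≠ b * a := by
  obtain ⟨f⟩ := Φ.g12_iso
  obtain ⟨a, b, ha, hb, hab⟩ :
      ∃ a b : alternatingGroup (Fin 4), a ^ 3 = 1 ∧ b ^ 3 = 1 ∧ a * b ≠ b * a := by decide +kernel
  refine ⟨f.symm a, (f.symm a).2, f.symm b, (f.symm b).2, ?_, ?_, fun e => hab (f.symm.injective ?_)⟩
  · rw [← Subgroup.coe_pow, ← map_pow, ha, map_one, Subgroup.coe_one]
  · rw [← Subgroup.coe_pow, ← map_pow, hb, map_one, Subgroup.coe_one]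
  · rw [map_mul, map_mul]; exact Subtype.ext e

end Frame

section Phi

theorem exists_phi (h2 : (2 : F) ≠ 0) (h5 : IsSquare (5 : F)) : ∃ φ : F, φ * φ = φ + 1 := by
  obtain ⟨s, hs⟩ := h5
  refine ⟨(1 + s) / 2, ?_⟩
  field_simp
  linear_combination -hs

theorem isSquare_five (p : ℕ) [hp : Fact p.Prime] [CharP F p] (h2 : (2 : F) ≠ 0) (hp5 : p ≠ 5)
    (hq : Fintype.card F % 10 = 1 ∨ Fintype.card F % 10 = 9) : IsSquare (5 : F) := by
  haveI := Fact.mk (show Nat.Prime 5 by norm_num)
  have hF : ringChar F ≠ 2 := by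
    rw [ringChar.eq F p]; exact prime_ne_two p h2
  have h := (FiniteField.isSquare_odd_prime_iff (F := F) hF (p := 5) (by norm_num)).mpr ?_
  · simpa using h
  · have h4 : Fintype.card F % 4 = 1 ∨ Fintype.card F % 4 = 3 := by omega
    rcases hq with hq | hq <;> rcases h4 with h4 | h4
    · rw [ZMod.χ₄_nat_one_mod_four h4, ← ZMod.natCast_mod,
        show Fintype.card F % 5 = 1 by omega]
      rw [ne_eq, quadraticChar_neg_one_iff_not_isSquare, not_not]
      exact ⟨1, by rfl⟩
    · rw [ZMod.χ₄_nat_three_mod_four h4, ← ZMod.natCast_mod,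
        show Fintype.card F % 5 = 1 by omega]
      rw [ne_eq, quadraticChar_neg_one_iff_not_isSquare, not_not]
      exact ⟨2, by rfl⟩
    · rw [ZMod.χ₄_nat_one_mod_four h4, ← ZMod.natCast_mod,
        show Fintype.card F % 5 = 4 by omega]
      rw [ne_eq, quadraticChar_neg_one_iff_not_isSquare, not_not]
      exact ⟨2, by rfl⟩
    · rw [ZMod.χ₄_nat_three_mod_four h4, ← ZMod.natCast_mod,
        show Fintype.card F % 5 = 4 by omega]
      rw [ne_eq, quadraticChar_neg_one_iff_not_isSquare, not_not]
      exact ⟨1, by rfl⟩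

theorem trace_mem_of_phi (h2 : (2 : F) ≠ 0) (s : SL(2, F)) {B : Subfield F} {φ : F}
    (hφ : φ * φ = φ + 1) (hφB : φ ∈ B) {n : ℕ} (hn : n = 1 ∨ n = 2 ∨ n = 3 ∨ n = 5)
    (he : SpecialLinearGroup.toPGL s ^ n = 1) : s.1.trace ∈ B := by
  set t := s.1.trace with ht
  have hone : (1 : F) ∈ B := one_mem _
  have htwo : (2 : F) ∈ B := by rw [← one_add_one_eq_two]; exact add_mem hone hone
  have small : (t = 0 ∨ t = 1 ∨ t = -1 ∨ t = 2 ∨ t = -2) → t ∈ B := by
    rintro (e | e | e | e | e) <;> rw [e]
    exacts [zero_mem _, hone, neg_mem hone, htwo, neg_mem htwo]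
  rcases hn with rfl | rfl | rfl | rfl
  · rw [pow_one] at he
    exact small (trace_of_square h2 s (by rw [he, one_pow]))
  · exact small (trace_of_square h2 s he)
  · exact small (trace_of_cube s he)
  · rcases trace_cases h2 s (n := 5) (by simp) he with ⟨-, h⟩ | h
    · exact small h
    · rcases h with e | e | e | e | e | e
      · exact small (Or.inl e)
      · exact small (Or.inr (Or.inr (Or.inr (Or.inl e))))
      · exact small (Or.inr (Or.inr (Or.inr (Or.inr e))))
      · -- `t² = 2` does not occur with exponent five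
        exfalso
        have h22 : (s * s).1.trace = 0 := by
          show (s.1 * s.1).trace = 0
          rw [CfsgLib.Classical.sl2_sq s, trace_sub, trace_smul,
            trace_one, Fintype.card_fin]
          simp only [smul_eq_mul]
          rw [← ht]
          push_cast
          linear_combination e
        have h4 := (CfsgLib.Classical.sl2_mul_self_eq_neg_one_iff (s * s)).mpr h22
        have h4' : SpecialLinearGroup.toPGL s ^ 4 = 1 := by
          rw [← map_pow, show s ^ 4 = -1 by rw [← h4]; simp [pow_succ, mul_assoc], toPGL_neg, map_one]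
        have h1 : SpecialLinearGroup.toPGL s = 1 := by
          rw [← he, pow_succ, h4', one_mul]
        rcases sl_scalar_of_toPGL_one h1 with rfl | rfl
        · simp [ht, trace_one] at e
          exact h2 (by linear_combination e)
        · simp [ht, trace_one] at e
          exact h2 (by linear_combination e)
      · have : (t + φ) * (t + 1 - φ) = 0 := by linear_combination e - hφ
        rcases mul_eq_zero.mp this with e | e
        · rw [eq_neg_of_add_eq_zero_left e]; exact neg_mem hφB
        · rw [show t = φ - 1 by linear_combination e]; exact sub_mem hφB hone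
      · have : (t - φ) * (t - 1 + φ) = 0 := by linear_combination e - hφ
        rcases mul_eq_zero.mp this with e | e
        · rw [sub_eq_zero.mp e]; exact hφB
        · rw [show t = 1 - φ by linear_combination e]; exact sub_mem hone hφB

end Phi

end CfsgLib.Classical.Dickson
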