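import Cfsg.Agent.Lib.Classical.Dickson.Models

/-!
# Normal form of four-groups; rationality through traces
-/

set_option autoImplicit false
set_option linter.unusedSectionVars false
set_option linter.style.haveILetI false

namespace CfsgLib.Classical.Dickson

open Matrix OnePoint MulAction
open scoped MatrixGroups

variable {F : Type*} [Field F] [Fintype F] [DecidableEq F]

theorem sl_scalar_of_toPGL_one {s : SL(2, F)} (h : SpecialLinearGroup.toPGL s = 1) : s = 1 ∨ s = -1 := by
  have h' : s ∈ (SpecialLinearGroup.toPGL (n := Fin 2) (R := F)).ker := h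
  rw [SpecialLinearGroup.toPGL_ker] at h'
  exact CfsgLib.Classical.sl2_center_eq h'

theorem toPGL_neg (s : SL(2, F)) : SpecialLinearGroup.toPGL (-s) = SpecialLinearGroup.toPGL s := by
  rw [show -s = (-1 : SL(2, F)) * s by simp, map_mul]
  have : (SpecialLinearGroup.toPGL (n := Fin 2) (R := F)) (-1) = 1 := by
    rw [← MonoidHom.mem_ker, SpecialLinearGroup.toPGL_ker]; exact CfsgLib.Classical.sl2_neg_one_central
  rw [this, one_mul]

theorem involution_lift {g : ProjGenLinGroup (Fin 2) F} (hg : g ∈ sln F) (ho : orderOf g = 2)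
    (h2 : (2 : F) ≠ 0) : ∃ s : SL(2, F), SpecialLinearGroup.toPGL s = g ∧ s * s = -1 := by
  obtain ⟨s, rfl⟩ := hg
  refine ⟨s, rfl, ?_⟩
  have h1 : SpecialLinearGroup.toPGL (s * s) = 1 := by
    rw [map_mul, ← pow_two]; exact orderOf_dvd_iff_pow_eq_one.mp (dvd_of_eq ho)
  refine (sl_scalar_of_toPGL_one h1).resolve_left fun e => ?_
  have hs : SpecialLinearGroup.toPGL s = 1 := by
    by_cases hs1 : s = 1
    · rw [hs1, map_one]
    · rw [CfsgLib.Classical.sl2_eq_neg_one h2 hs1 e, toPGL_neg, map_one]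
  rw [hs, orderOf_one] at ho
  omega

namespace Frame

variable (Φ : Frame F)

/-- Every four-group of `PSL₂` is conjugate to the standard one. -/
theorem exists_conj_klein {a b : ProjGenLinGroup (Fin 2) F} (ha : a ∈ sln F) (hb : b ∈ sln F)
    (hao : orderOf a = 2) (hbo : orderOf b = 2) (hne : a ≠ b) (hab : a * b = b * a) :
    ∃ h : ProjGenLinGroup (Fin 2) F, MulAut.conj h a = Φ.vI ∧ MulAut.conj h b = Φ.vJ := by
  obtain ⟨x, hx, hxx⟩ := involution_lift ha hao Φ.two_ne
  obtain ⟨y, hy, hyy⟩ := involution_lift hb hbo Φ.two_ne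
  have hxy : x * y = -(y * x) := by
    have h1 : SpecialLinearGroup.toPGL ((x * y) * (y * x)⁻¹) = 1 := by
      rw [map_mul, map_inv, map_mul, map_mul, hx, hy, hab, mul_inv_cancel]
    rcases sl_scalar_of_toPGL_one h1 with e | e
    · exfalso
      have e' : x * y = y * x := mul_inv_eq_one.mp e
      have hsq : x * y * (x * y) = 1 := by
        calc x * y * (x * y) = x * y * (y * x) := by rw [e']
          _ = x * (y * y) * x := by group
          _ = 1 := by rw [hyy]; simp [mul_neg, neg_mul, hxx]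
      have hxy1 : SpecialLinearGroup.toPGL (x * y) = 1 := by
        by_cases h : x * y = 1
        · rw [h, map_one]
        · rw [CfsgLib.Classical.sl2_eq_neg_one Φ.two_ne h hsq, toPGL_neg, map_one]
      rw [map_mul, hx, hy] at hxy1
      exact hne ((inv_eq_of_mul_eq_one_right (show a * a = 1 by
        rw [← pow_two]; exact orderOf_dvd_iff_pow_eq_one.mp (dvd_of_eq hao))).symm.trans
          (inv_eq_of_mul_eq_one_right hxy1))
    · rw [mul_inv_eq_iff_eq_mul] at e
      rw [e]; simp
  set X : Matrix (Fin 2) (Fin 2) F := x.1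
  set Y : Matrix (Fin 2) (Fin 2) F := y.1
  have X2 : X * X = -1 := by
    have := congrArg (fun s : SL(2, F) => s.1) hxx
    simpa using this
  have Y2 : Y * Y = -1 := by
    have := congrArg (fun s : SL(2, F) => s.1) hyy
    simpa using this
  have XY : X * Y = -(Y * X) := by
    have := congrArg (fun s : SL(2, F) => s.1) hxy
    simpa using this
  have tX : X 0 0 + X 1 1 = 0 := by
    have := (CfsgLib.Classical.sl2_mul_self_eq_neg_one_iff x).mp hxx
    simpa [trace_fin_two] using this
  have tY : Y 0 0 + Y 1 1 = 0 := by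
    have := (CfsgLib.Classical.sl2_mul_self_eq_neg_one_iff y).mp hyy
    simpa [trace_fin_two] using this
  have hdet : (Y - Φ.b₀ • X - Φ.a₀ • (1 : Matrix (Fin 2) (Fin 2) F)).det = 0 := by
    have eX := congrFun (congrFun X2 0) 0
    have eY := congrFun (congrFun Y2 0) 0
    have eXY := congrFun (congrFun XY 0) 0
    have r := Φ.rel
    simp [Matrix.mul_apply, Fin.sum_univ_two] at eX eY eXY
    rw [det_fin_two]
    simp
    rw [eq_neg_of_add_eq_zero_right tX, eq_neg_of_add_eq_zero_right tY]
    linear_combination r - eY - Φ.b₀ ^ 2 * eX + Φ.b₀ * eXY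
  obtain ⟨v, hv, hMv⟩ := Matrix.exists_mulVec_eq_zero_iff.mpr hdet
  have hYv : Y *ᵥ v = Φ.a₀ • v + Φ.b₀ • (X *ᵥ v) := by
    rw [sub_mulVec, sub_mulVec, smul_mulVec, smul_mulVec, one_mulVec] at hMv
    linear_combination (norm := module) hMv
  have hXXv : X *ᵥ (X *ᵥ v) = -v := by rw [mulVec_mulVec, X2, neg_mulVec, one_mulVec]
  have hYXv : Y *ᵥ (X *ᵥ v) = Φ.b₀ • v - Φ.a₀ • (X *ᵥ v) := by
    rw [mulVec_mulVec, show Y * X = -(X * Y) by rw [XY, neg_neg], neg_mulVec, ← mulVec_mulVec, hYv,
      mulVec_add, mulVec_smul, mulVec_smul, hXXv]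
    module
  set w := X *ᵥ v
  let G : Matrix (Fin 2) (Fin 2) F := !![v 0, w 0; v 1, w 1]
  have hG : G.det ≠ 0 := by
    intro h0
    simp [G, det_fin_two] at h0
    -- `w` would be a multiple of `v`
    obtain ⟨l, hl⟩ : ∃ l : F, w = l • v := by
      by_cases hv0 : v 0 = 0
      · have hv1 : v 1 ≠ 0 := fun e => hv (funext fun i => by fin_cases i <;> simp [hv0, e])
        refine ⟨w 1 / v 1, funext fun i => ?_⟩
        fin_cases i
        · rw [hv0] at h0; simp at h0
          simp [hv0, h0.resolve_right hv1]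
        · simp [hv1]
      · refine ⟨w 0 / v 0, funext fun i => ?_⟩
        fin_cases i
        · simp [hv0]
        · simp; field_simp; linear_combination h0
    obtain ⟨i, hi⟩ : ∃ i, v i ≠ 0 := by
      by_contra h
      push Not at h
      exact hv (funext h)
    have e1 : (l * l + 1) * v i = 0 := by
      have := congrFun hXXv i
      rw [hl, mulVec_smul, show X *ᵥ v = w from rfl, hl] at this
      simp at this
      linear_combination this
    have hl2 : l * l + 1 = 0 := (mul_eq_zero.mp e1).resolve_right hi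
    have e2 : (2 : F) * (l * (Φ.a₀ + Φ.b₀ * l)) * v i = 0 := by
      have h3 := congrFun hYXv i
      rw [hl, mulVec_smul, hYv, hl] at h3
      simp at h3
      linear_combination h3 + (Φ.b₀ * v i) * hl2
    have hl0 : l ≠ 0 := fun e => by rw [e] at hl2; simp at hl2
    have hμ : Φ.a₀ + Φ.b₀ * l = 0 :=
      (mul_eq_zero.mp ((mul_eq_zero.mp ((mul_eq_zero.mp e2).resolve_right hi)).resolve_left Φ.two_ne)).resolve_left hl0
    have r := Φ.rel
    exact one_ne_zero (α := F) (by linear_combination r - (Φ.a₀ - Φ.b₀ * l) * hμ - Φ.b₀ ^ 2 * hl2)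
  let g := GeneralLinearGroup.mkOfDetNeZero G hG
  have key : ∀ (s : SL(2, F)) (Z : F × F × F × F), fnorm Z ≠ 0 →
      (s.1 * G = G * Φ.qmat Z) →
      MulAut.conj (ProjGenLinGroup.mk g)⁻¹ (SpecialLinearGroup.toPGL s) = Φ.qpg Z := by
    intro s Z hn he
    rw [qpg, dif_pos hn, MulAut.conj_apply, inv_inv, mul_assoc, inv_mul_eq_iff_eq_mul, SpecialLinearGroup.toPGL,
      MonoidHom.comp_apply, ← map_mul, ← map_mul]
    exact congrArg ProjGenLinGroup.mk (Units.ext he)
  refine ⟨(ProjGenLinGroup.mk g)⁻¹, ?_, ?_⟩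
  · rw [← hx]
    refine key x (0, 1, 0, 0) (by simp [fnorm]) ?_
    ext i j
    fin_cases j
    · simp [G, qmat, Matrix.mul_apply, Fin.sum_univ_two]
      fin_cases i <;> simp [w, X, mulVec, dotProduct, Fin.sum_univ_two]
    · have h1 := congrFun hXXv i
      simp [mulVec, dotProduct, Fin.sum_univ_two] at h1
      fin_cases i <;> simp [G, qmat, Matrix.mul_apply, Fin.sum_univ_two] at h1 ⊢ <;> linear_combination h1
  · rw [← hy]
    refine key y (0, 0, 1, 0) (by simp [fnorm]) ?_
    ext i j
    fin_cases j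
    · have h1 := congrFun hYv i
      simp [mulVec, dotProduct, Fin.sum_univ_two] at h1
      fin_cases i <;> simp [G, qmat, Matrix.mul_apply, Fin.sum_univ_two] at h1 ⊢ <;> linear_combination h1
    · have h1 := congrFun hYXv i
      simp [mulVec, dotProduct, Fin.sum_univ_two] at h1
      fin_cases i <;> simp [G, qmat, Matrix.mul_apply, Fin.sum_univ_two] at h1 ⊢ <;> linear_combination h1

end Frame

section Rational

variable (p : ℕ) [hp : Fact p.Prime] [CharP F p]

/-- The fixed field of `x ↦ x ^ (p ^ k)`. -/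
def fixField (k : ℕ) : Subfield F := (iterateFrobenius F p k).eqLocusField (RingHom.id F)

theorem mem_fixField {k : ℕ} {x : F} : x ∈ fixField p k ↔ x ^ p ^ k = x := by
  show iterateFrobenius F p k x = x ↔ _
  rw [iterateFrobenius_def]

theorem trace_cases (h2 : (2 : F) ≠ 0) (s : SL(2, F)) {n : ℕ}
    (hn : n ∈ [1, 2, 3, 4, 5]) (he : SpecialLinearGroup.toPGL s ^ n = 1) :
    (n ≤ 3 ∧ (s.1.trace = 0 ∨ s.1.trace = 1 ∨ s.1.trace = -1 ∨ s.1.trace = 2 ∨ s.1.trace = -2)) ∨
      (s.1.trace = 0 ∨ s.1.trace = 2 ∨ s.1.trace = -2 ∨ s.1.trace ^ 2 = 2 ∨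
        s.1.trace ^ 2 + s.1.trace = 1 ∨ s.1.trace ^ 2 - s.1.trace = 1) := by
  set t := s.1.trace with ht
  have hsc : ∀ c d : F, s.1 * (c • (1 : Matrix (Fin 2) (Fin 2) F)) = c • s.1 := fun c d => by simp
  by_cases hs : s.1 0 1 = 0 ∧ s.1 1 0 = 0 ∧ s.1 0 0 = s.1 1 1
  · -- scalar
    have hd : s.1.det = 1 := s.2
    rw [det_fin_two, hs.1, hs.2.1, hs.2.2] at hd
    simp at hd
    have htt : t = 2 * s.1 1 1 := by rw [ht, trace_fin_two, hs.2.2]; ring
    rcases mul_self_eq_one_iff.mp hd with e | e
    · right; right; left; rw [htt, e, mul_one]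
    · right; right; right; left; rw [htt, e]; ring
  -- powers of `s` are combinations of `s` and `1`
  have hpow : ∀ m : ℕ, ∃ A B : F, (s.1) ^ m = A • s.1 + B • 1 ∧
      (m = 1 → A = 1) ∧ (m = 2 → A = t) ∧ (m = 3 → A = t ^ 2 - 1) ∧ (m = 4 → A = t ^ 3 - 2 * t) ∧
      (m = 5 → A = t ^ 4 - 3 * t ^ 2 + 1) := by
    have step : ∀ {m : ℕ} {A B : F}, (s.1) ^ m = A • s.1 + B • 1 →
        (s.1) ^ (m + 1) = (A * t + B) • s.1 + (-A) • 1 := by
      intro m A B e
      rw [pow_succ, e, add_mul, smul_mul_assoc, smul_mul_assoc, one_mul, CfsgLib.Classical.sl2_sq s, ← ht]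
      module
    have e1 : (s.1) ^ 1 = (1 : F) • s.1 + (0 : F) • 1 := by simp
    have e2 := step e1
    have e3 := step e2
    have e4 := step e3
    have e5 := step e4
    intro m
    match m with
    | 0 => exact ⟨0, 1, by simp, by simp, by simp, by simp, by simp, by simp⟩
    | 1 => exact ⟨_, _, e1, by simp, by simp, by simp, by simp, by simp⟩
    | 2 => exact ⟨_, _, e2, by simp, by simp, by simp, by simp, by simp⟩
    | 3 => exact ⟨_, _, e3, by simp, by simp, by intro; ring, by simp, by simp⟩
    | 4 => exact ⟨_, _, e4, by simp, by simp, by simp, by intro; ring, by simp⟩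
    | 5 => exact ⟨_, _, e5, by simp, by simp, by simp, by simp, by intro; ring⟩
    | k + 6 =>
      obtain ⟨A, B, e⟩ : ∃ A B : F, (s.1) ^ (k + 6) = A • s.1 + B • 1 := by
        induction k with
        | zero => exact ⟨_, _, step e5⟩
        | succ k ih => obtain ⟨A, B, e⟩ := ih; exact ⟨_, _, step e⟩
      exact ⟨A, B, e, by omega, by omega, by omega, by omega, by omega⟩
  obtain ⟨A, B, hAB, h1, h2', h3, h4, h5⟩ := hpow n
  have hA : A = 0 := by
    rw [← map_pow] at he
    have hc : (s.1) ^ n = 1 ∨ (s.1) ^ n = -1 := by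
      rcases sl_scalar_of_toPGL_one he with e | e
      · exact Or.inl (by rw [← Matrix.SpecialLinearGroup.coe_pow, e]; rfl)
      · exact Or.inr (by rw [← Matrix.SpecialLinearGroup.coe_pow, e]; simp)
    have key : ∀ c : F, A • s.1 + B • (1 : Matrix (Fin 2) (Fin 2) F) = c • 1 → A = 0 := by
      intro c e
      by_contra hA0
      apply hs
      have e01 := congrFun (congrFun e 0) 1
      have e10 := congrFun (congrFun e 1) 0
      have e00 := congrFun (congrFun e 0) 0
      have e11 := congrFun (congrFun e 1) 1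
      simp [hA0] at e01 e10 e00 e11
      exact ⟨e01, e10, mul_left_cancel₀ hA0 (by linear_combination e00 - e11)⟩
    rcases hc with e | e <;> rw [hAB] at e
    · exact key 1 (by rw [e, one_smul])
    · exact key (-1) (by rw [e, neg_smul, one_smul])
  simp at hn
  rcases hn with rfl | rfl | rfl | rfl | rfl
  · exact absurd (hA ▸ h1 rfl) zero_ne_one
  · exact Or.inl ⟨by norm_num, Or.inl ((h2' rfl).symm.trans hA)⟩
  · refine Or.inl ⟨le_rfl, ?_⟩
    have : (t - 1) * (t + 1) = 0 := by linear_combination (h3 rfl).symm.trans hA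
    rcases mul_eq_zero.mp this with e | e
    · exact Or.inr (Or.inl (sub_eq_zero.mp e))
    · exact Or.inr (Or.inr (Or.inl (eq_neg_of_add_eq_zero_left e)))
  · right
    have : t * (t ^ 2 - 2) = 0 := by linear_combination (h4 rfl).symm.trans hA
    rcases mul_eq_zero.mp this with e | e
    · exact Or.inl e
    · exact Or.inr (Or.inr (Or.inr (Or.inl (sub_eq_zero.mp e))))
  · right
    have : (t ^ 2 + t - 1) * (t ^ 2 - t - 1) = 0 := by linear_combination (h5 rfl).symm.trans hA
    rcases mul_eq_zero.mp this with e | e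
    · exact Or.inr (Or.inr (Or.inr (Or.inr (Or.inl (sub_eq_zero.mp e)))))
    · exact Or.inr (Or.inr (Or.inr (Or.inr (Or.inr (sub_eq_zero.mp e)))))

theorem trace_of_square (h2 : (2 : F) ≠ 0) (s : SL(2, F)) (he : SpecialLinearGroup.toPGL s ^ 2 = 1) :
    s.1.trace = 0 ∨ s.1.trace = 1 ∨ s.1.trace = -1 ∨ s.1.trace = 2 ∨ s.1.trace = -2 := by
  rw [← map_pow] at he
  rcases sl_scalar_of_toPGL_one he with e | e
  · by_cases hs1 : s = 1
    · subst hs1; simp
    · rw [CfsgLib.Classical.sl2_eq_neg_one h2 hs1 (by rw [← pow_two]; exact e)]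
      simp
  · rw [pow_two] at e
    exact Or.inl ((CfsgLib.Classical.sl2_mul_self_eq_neg_one_iff s).mp e)

theorem trace_of_cube (s : SL(2, F)) (he : SpecialLinearGroup.toPGL s ^ 3 = 1) :
    s.1.trace = 0 ∨ s.1.trace = 1 ∨ s.1.trace = -1 ∨ s.1.trace = 2 ∨ s.1.trace = -2 := by
  set t := s.1.trace with ht
  by_cases hs : s.1 0 1 = 0 ∧ s.1 1 0 = 0 ∧ s.1 0 0 = s.1 1 1
  · have hd : s.1.det = 1 := s.2
    rw [det_fin_two, hs.1, hs.2.1, hs.2.2] at hd
    simp at hd
    have htt : t = 2 * s.1 1 1 := by rw [ht, trace_fin_two, hs.2.2]; ring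
    rcases mul_self_eq_one_iff.mp hd with e | e
    · right; right; right; left; rw [htt, e, mul_one]
    · right; right; right; right; rw [htt, e]; ring
  · have h3 : (s.1) ^ 3 = (t * t - 1) • s.1 + (-t) • 1 := by
      rw [pow_succ, pow_two, CfsgLib.Classical.sl2_sq s, ← ht, sub_mul, smul_mul_assoc, one_mul,
        CfsgLib.Classical.sl2_sq s, ← ht]
      module
    rw [← map_pow] at he
    have hc : ∃ c : F, (s.1) ^ 3 = c • 1 := by
      rcases sl_scalar_of_toPGL_one he with e | e
      · exact ⟨1, by rw [← Matrix.SpecialLinearGroup.coe_pow, e, one_smul]; rfl⟩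
      · exact ⟨-1, by rw [← Matrix.SpecialLinearGroup.coe_pow, e]; simp⟩
    obtain ⟨c, hc⟩ := hc
    rw [h3] at hc
    have h0 : t * t - 1 = 0 := by
      by_contra hA0
      apply hs
      have e01 := congrFun (congrFun hc 0) 1
      have e10 := congrFun (congrFun hc 1) 0
      have e00 := congrFun (congrFun hc 0) 0
      have e11 := congrFun (congrFun hc 1) 1
      simp [hA0] at e01 e10 e00 e11
      exact ⟨e01, e10, mul_left_cancel₀ hA0 (by linear_combination e00 - e11)⟩
    rcases mul_self_eq_one_iff.mp (sub_eq_zero.mp h0) with e | e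
    · exact Or.inr (Or.inl e)
    · exact Or.inr (Or.inr (Or.inl e))

include hp in
theorem trace_mem_fixField (h2 : (2 : F) ≠ 0) (s : SL(2, F)) {n k : ℕ} (hn : n ∈ [1, 2, 3, 4, 5])
    (hk : (k = 1 ∧ n ≤ 3) ∨ k = 2) (he : SpecialLinearGroup.toPGL s ^ n = 1) :
    s.1.trace ∈ fixField p k := by
  set t := s.1.trace
  have hone : (1 : F) ∈ fixField p k := one_mem _
  have htwo : (2 : F) ∈ fixField p k := by rw [← one_add_one_eq_two]; exact add_mem hone hone
  have small : (t = 0 ∨ t = 1 ∨ t = -1 ∨ t = 2 ∨ t = -2) → t ∈ fixField p k := by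
    rintro (e | e | e | e | e) <;> rw [e]
    exacts [zero_mem _, hone, neg_mem hone, htwo, neg_mem htwo]
  rcases hk with ⟨rfl, hn3⟩ | rfl
  · -- only the small traces occur
    rcases trace_cases h2 s hn he with ⟨-, h⟩ | h
    · exact small h
    · simp at hn
      have hn' : n = 1 ∨ n = 2 ∨ n = 3 := by omega
      -- refine with the exponent six
      have he6 : SpecialLinearGroup.toPGL s ^ 3 = 1 ∨ SpecialLinearGroup.toPGL s ^ 2 = 1 := by
        rcases hn' with rfl | rfl | rfl
        · exact Or.inr (by rw [pow_one] at he; rw [he, one_pow])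
        · exact Or.inr he
        · exact Or.inl he
      rcases he6 with he6 | he6
      · rcases trace_cases h2 s (n := 3) (by simp) he6 with ⟨-, h'⟩ | h'
        · exact small h'
        · rcases h' with e | e | e | e | e | e
          · exact small (Or.inl e)
          · exact small (Or.inr (Or.inr (Or.inr (Or.inl e))))
          · exact small (Or.inr (Or.inr (Or.inr (Or.inr e))))
          all_goals exact small (trace_of_cube s he6)
      · exact small (trace_of_square h2 s he6)
  · have hp0 : t ^ p ^ 2 = (t ^ p) ^ p := by rw [← pow_mul, pow_two]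
    have hfin : ∀ c d : F, c ^ p = c → d ^ p = d → t ^ 2 + c * t + d = 0 → t ∈ fixField p 2 := by
      intro c d hc hd h
      rw [mem_fixField, hp0]
      have h' : (t ^ p) ^ 2 + c * t ^ p + d = 0 := by
        have := congrArg (frobenius F p) h
        rw [map_add, map_add, map_mul, map_pow, map_zero] at this
        simp only [frobenius_def, hc, hd] at this
        exact this
      have : (t ^ p - t) * (t ^ p + t + c) = 0 := by linear_combination h' - h
      rcases mul_eq_zero.mp this with e | e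
      · rw [sub_eq_zero.mp e, sub_eq_zero.mp e]
      · have e' : t ^ p = -t - c := by linear_combination e
        have hfr : (-t - c) ^ p = -(t ^ p) - c ^ p := by
          rw [show (-t - c) ^ p = frobenius F p (-t - c) from rfl, map_sub, map_neg]; rfl
        rw [e', hfr, e', hc]; ring
    have hp1 : (1 : F) ^ p = 1 := one_pow _
    have hpn : (-1 : F) ^ p = -1 := by
      rw [show (-1 : F) ^ p = frobenius F p (-1) from rfl, map_neg, map_one]
    have hp2 : (-2 : F) ^ p = -2 := by
      rw [show (-2 : F) ^ p = frobenius F p (-2) from rfl, map_neg, map_ofNat]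
    rcases trace_cases h2 s hn he with ⟨-, h⟩ | h
    · exact small h
    · rcases h with e | e | e | e | e | e
      · exact small (Or.inl e)
      · exact small (Or.inr (Or.inr (Or.inr (Or.inl e))))
      · exact small (Or.inr (Or.inr (Or.inr (Or.inr e))))
      · exact hfin 0 (-2) (zero_pow hp.out.ne_zero) hp2 (by linear_combination e)
      · exact hfin 1 (-1) hp1 hpn (by linear_combination e)
      · exact hfin (-1) (-1) hpn hpn (by linear_combination e)

end Rational

end CfsgLib.Classical.Dickson
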