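import Mathlib

/-!
# `A₄`, `S₄`, `A₅` inside `PGL₂`: quaternion models
-/

set_option autoImplicit false
set_option linter.unusedSectionVars false
set_option linter.style.haveILetI false

namespace CfsgLib.Classical.Dickson

open Matrix OnePoint MulAction
open scoped MatrixGroups

/-- `ℤ[φ]`, `φ² = φ + 1`. -/
structure Zphi where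
  /-- constant -/
  u : ℤ
  /-- coefficient of `φ` -/
  v : ℤ
  deriving DecidableEq

instance : Add Zphi := ⟨fun a b => ⟨a.u + b.u, a.v + b.v⟩⟩
instance : Sub Zphi := ⟨fun a b => ⟨a.u - b.u, a.v - b.v⟩⟩
instance : Mul Zphi := ⟨fun a b => ⟨a.u * b.u + a.v * b.v, a.u * b.v + a.v * b.u + a.v * b.v⟩⟩
instance : Zero Zphi := ⟨⟨0, 0⟩⟩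

/-- Quaternion coordinates. -/
abbrev Q4 (R : Type) := R × R × R × R

/-- Quaternion product. -/
def qmul {R : Type} [Add R] [Sub R] [Mul R] : Q4 R → Q4 R → Q4 R
  | (a, b, c, d), (e, f, g, h) =>
    (a * e - b * f - c * g - d * h, a * f + b * e + c * h - d * g,
      a * g - b * h + c * e + d * f, a * h + b * g - c * f + d * e)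

/-- Scaling. -/
def qsmul {R : Type} [Mul R] (l : R) : Q4 R → Q4 R
  | (a, b, c, d) => (l * a, l * b, l * c, l * d)

/-- Norm. -/
def qnorm {R : Type} [Add R] [Mul R] : Q4 R → R
  | (a, b, c, d) => a * a + b * b + c * c + d * d

/-- Imaginary part vanishes. -/
def qscalar {R : Type} [Zero R] [DecidableEq R] : Q4 R → Bool
  | (_, b, c, d) => decide (b = 0) && decide (c = 0) && decide (d = 0)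

/-- Powers. -/
def qpow {R : Type} [Add R] [Sub R] [Mul R] (one : Q4 R) (X : Q4 R) : ℕ → Q4 R
  | 0 => one
  | n + 1 => qmul (qpow one X n) X

/-- The table is closed, contains the unit, has norms among `ns`, element exponents among `es`. -/
def checkTable {R : Type} [Add R] [Sub R] [Mul R] [Zero R] [DecidableEq R]
    (one : Q4 R) (ls ns : List R) (es : List ℕ) (gens tbl : List (Q4 R)) : Bool :=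
  (gens.all fun g => decide (g ∈ tbl)) && decide (one ∈ tbl) &&
  (tbl.all fun X => decide (qnorm X ∈ ns) && (es.any fun n => qscalar (qpow one X n)) &&
    gens.all fun g => tbl.any fun Z => ls.any fun l => decide (qmul X g = qsmul l Z))

def tbl12 : List (Q4 ℤ) :=
  [(1, 0, 0, 0), (0, 1, 0, 0),
   (0, 0, 1, 0), (1, -1, -1, -1),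
   (0, 0, 0, 1), (1, 1, 1, -1),
   (1, -1, 1, 1), (1, 1, -1, 1),
   (1, 1, 1, 1), (1, -1, 1, -1),
   (1, -1, -1, 1), (1, 1, -1, -1)]

def tbl24 : List (Q4 ℤ) :=
  [(1, 0, 0, 0), (0, 1, 0, 0),
   (0, 0, 1, 0), (1, -1, -1, -1),
   (1, 1, 0, 0), (0, 0, 0, 1),
   (1, 1, 1, -1), (1, -1, 0, 0),
   (1, -1, 1, 1), (0, 0, 1, -1),
   (1, 1, -1, 1), (1, 1, 1, 1),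
   (1, 0, -1, 0), (0, 0, 1, 1),
   (1, 0, 0, -1), (1, -1, 1, -1),
   (0, 1, 0, -1), (0, 1, 1, 0),
   (1, -1, -1, 1), (1, 0, 1, 0),
   (0, 1, -1, 0), (1, 1, -1, -1),
   (0, 1, 0, 1), (1, 0, 0, 1)]

def tbl60 : List (Q4 Zphi) :=
  [(⟨2, 0⟩, ⟨0, 0⟩, ⟨0, 0⟩, ⟨0, 0⟩), (⟨0, 0⟩, ⟨2, 0⟩, ⟨0, 0⟩, ⟨0, 0⟩),
   (⟨0, 0⟩, ⟨0, 0⟩, ⟨2, 0⟩, ⟨0, 0⟩), (⟨1, 0⟩, ⟨-1, 0⟩, ⟨-1, 0⟩, ⟨-1, 0⟩),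
   (⟨0, 1⟩, ⟨-1, 1⟩, ⟨1, 0⟩, ⟨0, 0⟩), (⟨0, 0⟩, ⟨0, 0⟩, ⟨0, 0⟩, ⟨2, 0⟩),
   (⟨1, 0⟩, ⟨1, 0⟩, ⟨1, 0⟩, ⟨-1, 0⟩), (⟨1, -1⟩, ⟨0, 1⟩, ⟨0, 0⟩, ⟨1, 0⟩),
   (⟨1, 0⟩, ⟨-1, 0⟩, ⟨1, 0⟩, ⟨1, 0⟩), (⟨1, 0⟩, ⟨0, 0⟩, ⟨0, -1⟩, ⟨-1, 1⟩),
   (⟨1, 0⟩, ⟨1, 0⟩, ⟨-1, 0⟩, ⟨1, 0⟩), (⟨1, 0⟩, ⟨1, 0⟩, ⟨1, 0⟩, ⟨1, 0⟩),
   (⟨0, 1⟩, ⟨0, 0⟩, ⟨1, -1⟩, ⟨-1, 0⟩), (⟨1, -1⟩, ⟨0, 1⟩, ⟨0, 0⟩, ⟨-1, 0⟩),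
   (⟨1, 0⟩, ⟨0, 0⟩, ⟨0, -1⟩, ⟨1, -1⟩), (⟨0, 1⟩, ⟨-1, 0⟩, ⟨0, 0⟩, ⟨1, -1⟩),
   (⟨1, -1⟩, ⟨-1, 0⟩, ⟨0, -1⟩, ⟨0, 0⟩), (⟨0, 0⟩, ⟨1, 0⟩, ⟨1, -1⟩, ⟨0, -1⟩),
   (⟨1, 0⟩, ⟨-1, 0⟩, ⟨1, 0⟩, ⟨-1, 0⟩), (⟨0, 0⟩, ⟨0, 1⟩, ⟨1, 0⟩, ⟨1, -1⟩),
   (⟨0, 1⟩, ⟨-1, 1⟩, ⟨-1, 0⟩, ⟨0, 0⟩), (⟨0, 0⟩, ⟨1, 0⟩, ⟨-1, 1⟩, ⟨0, -1⟩),
   (⟨1, 0⟩, ⟨0, 1⟩, ⟨-1, 1⟩, ⟨0, 0⟩), (⟨1, 0⟩, ⟨1, -1⟩, ⟨0, 0⟩, ⟨0, -1⟩),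
   (⟨1, 0⟩, ⟨-1, 0⟩, ⟨-1, 0⟩, ⟨1, 0⟩), (⟨1, -1⟩, ⟨1, 0⟩, ⟨0, -1⟩, ⟨0, 0⟩),
   (⟨0, 0⟩, ⟨1, 0⟩, ⟨-1, 1⟩, ⟨0, 1⟩), (⟨0, 1⟩, ⟨1, -1⟩, ⟨1, 0⟩, ⟨0, 0⟩),
   (⟨0, 0⟩, ⟨1, -1⟩, ⟨0, 1⟩, ⟨1, 0⟩), (⟨0, 1⟩, ⟨0, 0⟩, ⟨1, -1⟩, ⟨1, 0⟩),
   (⟨1, 0⟩, ⟨1, 0⟩, ⟨-1, 0⟩, ⟨-1, 0⟩), (⟨1, 0⟩, ⟨-1, 1⟩, ⟨0, 0⟩, ⟨0, 1⟩),
   (⟨0, 0⟩, ⟨1, -1⟩, ⟨0, -1⟩, ⟨-1, 0⟩), (⟨0, 0⟩, ⟨0, 1⟩, ⟨-1, 0⟩, ⟨-1, 1⟩),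
   (⟨0, 1⟩, ⟨1, 0⟩, ⟨0, 0⟩, ⟨1, -1⟩), (⟨0, 0⟩, ⟨1, 0⟩, ⟨1, -1⟩, ⟨0, 1⟩),
   (⟨0, 0⟩, ⟨1, -1⟩, ⟨0, -1⟩, ⟨1, 0⟩), (⟨1, 0⟩, ⟨0, -1⟩, ⟨-1, 1⟩, ⟨0, 0⟩),
   (⟨1, -1⟩, ⟨0, 0⟩, ⟨-1, 0⟩, ⟨0, -1⟩), (⟨1, 0⟩, ⟨0, 1⟩, ⟨1, -1⟩, ⟨0, 0⟩),
   (⟨0, 0⟩, ⟨0, 1⟩, ⟨1, 0⟩, ⟨-1, 1⟩), (⟨0, 1⟩, ⟨0, 0⟩, ⟨-1, 1⟩, ⟨-1, 0⟩),
   (⟨1, 0⟩, ⟨1, -1⟩, ⟨0, 0⟩, ⟨0, 1⟩), (⟨1, -1⟩, ⟨1, 0⟩, ⟨0, 1⟩, ⟨0, 0⟩),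
   (⟨1, 0⟩, ⟨0, 0⟩, ⟨0, 1⟩, ⟨1, -1⟩), (⟨1, -1⟩, ⟨0, -1⟩, ⟨0, 0⟩, ⟨-1, 0⟩),
   (⟨1, -1⟩, ⟨0, 0⟩, ⟨1, 0⟩, ⟨0, -1⟩), (⟨0, 0⟩, ⟨0, 1⟩, ⟨-1, 0⟩, ⟨1, -1⟩),
   (⟨1, -1⟩, ⟨0, 0⟩, ⟨-1, 0⟩, ⟨0, 1⟩), (⟨0, 1⟩, ⟨0, 0⟩, ⟨-1, 1⟩, ⟨1, 0⟩),
   (⟨1, 0⟩, ⟨0, -1⟩, ⟨1, -1⟩, ⟨0, 0⟩), (⟨1, 0⟩, ⟨0, 0⟩, ⟨0, 1⟩, ⟨-1, 1⟩),
   (⟨1, -1⟩, ⟨0, 0⟩, ⟨1, 0⟩, ⟨0, 1⟩), (⟨0, 1⟩, ⟨1, 0⟩, ⟨0, 0⟩, ⟨-1, 1⟩),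
   (⟨0, 0⟩, ⟨1, -1⟩, ⟨0, 1⟩, ⟨-1, 0⟩), (⟨0, 1⟩, ⟨-1, 0⟩, ⟨0, 0⟩, ⟨-1, 1⟩),
   (⟨1, -1⟩, ⟨-1, 0⟩, ⟨0, 1⟩, ⟨0, 0⟩), (⟨1, 0⟩, ⟨-1, 1⟩, ⟨0, 0⟩, ⟨0, -1⟩),
   (⟨1, -1⟩, ⟨0, -1⟩, ⟨0, 0⟩, ⟨1, 0⟩), (⟨0, 1⟩, ⟨1, -1⟩, ⟨-1, 0⟩, ⟨0, 0⟩)]

/-- scalars -/
def lsZ : List ℤ := [1, -1, 2, -2, 4, -4]

/-- scalars -/
def lsP : List Zphi := lsZ.map fun n => ⟨n, 0⟩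

/-- generators of `A₄` -/
def gens12 : List (Q4 ℤ) := [(0, 1, 0, 0), (0, 0, 1, 0), (1, -1, -1, -1)]

/-- generators of `S₄` -/
def gens24 : List (Q4 ℤ) := [(0, 1, 0, 0), (0, 0, 1, 0), (1, -1, -1, -1), (1, 1, 0, 0)]

/-- generators of `A₅` -/
def gens60 : List (Q4 Zphi) :=
  [(0, ⟨2, 0⟩, 0, 0), (0, 0, ⟨2, 0⟩, 0), (⟨1, 0⟩, ⟨-1, 0⟩, ⟨-1, 0⟩, ⟨-1, 0⟩), (⟨0, 1⟩, ⟨-1, 1⟩, ⟨1, 0⟩, 0)]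

theorem check12 : checkTable (1, 0, 0, 0) lsZ [1, 4] [1, 2, 3] gens12 tbl12 = true := by decide +kernel

theorem check24 : checkTable (1, 0, 0, 0) lsZ [1, 2, 4] [1, 2, 3, 4] gens24 tbl24 = true := by decide +kernel

theorem check60 : checkTable (⟨2, 0⟩, 0, 0, 0) lsP [⟨4, 0⟩] [1, 2, 3, 5] gens60 tbl60 = true := by
  decide +kernel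

end CfsgLib.Classical.Dickson
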