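import Cfsg.Agent.Lib.Classical.Dickson.Torus
import Cfsg.Agent.Lib.Classical.Dickson.Tables

/-!
# `A₄`, `S₄` and `A₅` in `PGL₂(q)`, `q` odd
-/

set_option autoImplicit false
set_option linter.unusedSectionVars false
set_option linter.style.haveILetI false

namespace CfsgLib.Classical.Dickson

open Matrix OnePoint MulAction
open scoped MatrixGroups

variable {F : Type*} [Field F] [Fintype F] [DecidableEq F]

/-- A standard quaternion frame. -/
structure Frame (F : Type*) [Field F] where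
  /-- first entry -/
  a₀ : F
  /-- second entry -/
  b₀ : F
  rel : a₀ * a₀ + b₀ * b₀ = -1
  two_ne : (2 : F) ≠ 0

theorem exists_frame (h2 : (2 : F) ≠ 0) : Nonempty (Frame F) := by
  obtain ⟨a, b, h⟩ := FiniteField.exists_root_sum_quadratic (R := F)
    (f := Polynomial.X ^ 2) (g := Polynomial.X ^ 2 + Polynomial.C 1)
    (Polynomial.degree_X_pow 2) (Polynomial.degree_X_pow_add_C (by norm_num) 1)
    (CfsgLib.Classical.sl2_odd_of_two h2)
  refine ⟨⟨a, b, ?_, h2⟩⟩
  simp at h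
  linear_combination h

namespace Frame

variable (Φ : Frame F)

/-- The matrix of a quaternion. -/
def qmat (X : F × F × F × F) : Matrix (Fin 2) (Fin 2) F :=
  !![X.1 + X.2.2.1 * Φ.a₀ - X.2.2.2 * Φ.b₀, -X.2.1 + X.2.2.1 * Φ.b₀ + X.2.2.2 * Φ.a₀;
     X.2.1 + X.2.2.1 * Φ.b₀ + X.2.2.2 * Φ.a₀, X.1 - X.2.2.1 * Φ.a₀ + X.2.2.2 * Φ.b₀]

/-- product -/
def fmul : F × F × F × F → F × F × F × F → F × F × F × F
  | (a, b, c, d), (e, f, g, h) =>
    (a * e - b * f - c * g - d * h, a * f + b * e + c * h - d * g,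
      a * g - b * h + c * e + d * f, a * h + b * g - c * f + d * e)

/-- norm -/
def fnorm : F × F × F × F → F
  | (a, b, c, d) => a * a + b * b + c * c + d * d

theorem qmat_mul (X Y : F × F × F × F) : Φ.qmat X * Φ.qmat Y = Φ.qmat (fmul X Y) := by
  obtain ⟨a, b, c, d⟩ := X
  obtain ⟨e, f, g, h⟩ := Y
  have r := Φ.rel
  ext i j
  fin_cases i <;> fin_cases j <;> simp [qmat, fmul, Matrix.mul_apply, Fin.sum_univ_two]
  · linear_combination (c * g + d * h) * r
  · linear_combination (c * h - d * g) * r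
  · linear_combination (d * g - c * h) * r
  · linear_combination (c * g + d * h) * r

theorem det_qmat (X : F × F × F × F) : (Φ.qmat X).det = fnorm X := by
  obtain ⟨a, b, c, d⟩ := X
  have r := Φ.rel
  simp [qmat, fnorm, det_fin_two]
  linear_combination -(c * c + d * d) * r

/-- The projective class of a quaternion. -/
noncomputable def qpg (X : F × F × F × F) : ProjGenLinGroup (Fin 2) F :=
  if h : fnorm X ≠ 0 then
    ProjGenLinGroup.mk (GeneralLinearGroup.mkOfDetNeZero (Φ.qmat X) (by rwa [det_qmat]))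
  else 1

theorem fnorm_mul (X Y : F × F × F × F) : fnorm (fmul X Y) = fnorm X * fnorm Y := by
  obtain ⟨a, b, c, d⟩ := X
  obtain ⟨e, f, g, h⟩ := Y
  simp [fnorm, fmul]; ring

theorem qpg_mul {X Y : F × F × F × F} (hX : fnorm X ≠ 0) (hY : fnorm Y ≠ 0) :
    Φ.qpg X * Φ.qpg Y = Φ.qpg (fmul X Y) := by
  rw [qpg, qpg, qpg, dif_pos hX, dif_pos hY, dif_pos (by rw [fnorm_mul]; exact mul_ne_zero hX hY),
    ← map_mul]
  congr 1
  exact Units.ext (Φ.qmat_mul X Y)

/-- scaling -/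
def fsmul (l : F) : F × F × F × F → F × F × F × F
  | (a, b, c, d) => (l * a, l * b, l * c, l * d)

theorem qpg_smul {l : F} (hl : l ≠ 0) {X : F × F × F × F} (hX : fnorm X ≠ 0) :
    Φ.qpg (fsmul l X) = Φ.qpg X := by
  obtain ⟨a, b, c, d⟩ := X
  have h' : fnorm (fsmul l (a, b, c, d)) ≠ 0 := by
    have : fnorm (fsmul l (a, b, c, d)) = l * l * fnorm (a, b, c, d) := by simp [fnorm, fsmul]; ring
    rw [this]; exact mul_ne_zero (mul_ne_zero hl hl) hX
  rw [qpg, qpg, dif_pos hX, dif_pos h', eq_comm, ProjGenLinGroup.mk_eq_mk_iff]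
  refine ⟨Units.mk0 l hl, Units.ext ?_⟩
  ext i j
  fin_cases i <;> fin_cases j <;>
    simp [qmat, fsmul, GeneralLinearGroup.coe_scalar, Matrix.mul_apply, Fin.sum_univ_two] <;> ring

theorem qpg_one : Φ.qpg (1, 0, 0, 0) = 1 := by
  rw [qpg, dif_pos (by simp [fnorm]), show (GeneralLinearGroup.mkOfDetNeZero (Φ.qmat (1, 0, 0, 0)) _) = 1 from
    Units.ext (by ext i j; fin_cases i <;> fin_cases j <;> simp [qmat]), map_one]

theorem qpg_scalar {a : F} (ha : a ≠ 0) : Φ.qpg (a, 0, 0, 0) = 1 := by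
  have h := Φ.qpg_smul ha (X := (1, 0, 0, 0)) (by simp [fnorm])
  simpa [fsmul, Φ.qpg_one] using h

/-- A coefficient map. -/
structure EvMap (R : Type) [Add R] [Sub R] [Mul R] [Zero R] (F : Type*) [Field F] where
  /-- the map -/
  ev : R → F
  add : ∀ x y, ev (x + y) = ev x + ev y
  sub : ∀ x y, ev (x - y) = ev x - ev y
  mul : ∀ x y, ev (x * y) = ev x * ev y
  zero : ev 0 = 0

variable {R : Type} [Add R] [Sub R] [Mul R] [Zero R] [DecidableEq R] (e : EvMap R F)

/-- coordinates -/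
def ev4 : Q4 R → F × F × F × F
  | (a, b, c, d) => (e.ev a, e.ev b, e.ev c, e.ev d)

theorem ev4_mul (X Y : Q4 R) : ev4 e (qmul X Y) = fmul (ev4 e X) (ev4 e Y) := by
  obtain ⟨a, b, c, d⟩ := X
  obtain ⟨x, f, g, h⟩ := Y
  simp [ev4, qmul, fmul, e.add, e.sub, e.mul]

theorem fnorm_ev4 (X : Q4 R) : fnorm (ev4 e X) = e.ev (qnorm X) := by
  obtain ⟨a, b, c, d⟩ := X
  simp [ev4, qnorm, fnorm, e.add, e.mul]

theorem ev4_smul (l : R) (X : Q4 R) : ev4 e (qsmul l X) = fsmul (e.ev l) (ev4 e X) := by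
  obtain ⟨a, b, c, d⟩ := X
  simp [ev4, qsmul, fsmul, e.mul]

/-- The element of `PGL₂` of a table entry. -/
noncomputable def el (X : Q4 R) : ProjGenLinGroup (Fin 2) F := Φ.qpg (ev4 e X)

/-- The subgroup generated by a list of table entries. -/
noncomputable def gen (gens : List (Q4 R)) : Subgroup (ProjGenLinGroup (Fin 2) F) :=
  Subgroup.closure {g | ∃ X ∈ gens, Φ.el e X = g}

theorem table_facts {one : Q4 R} {ls ns : List R} {es : List ℕ} {gens tbl : List (Q4 R)}
    (hc : checkTable one ls ns es gens tbl = true) (hls : ∀ l ∈ ls, e.ev l ≠ 0) (hns : ∀ n ∈ ns, e.ev n ≠ 0)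
    {u : F} (hu : u ≠ 0) (hone : ev4 e one = (u, 0, 0, 0)) :
    Nat.card (Φ.gen e gens) ≤ tbl.length ∧
      (∀ g ∈ Φ.gen e gens, ∃ n ∈ es, g ^ n = 1) := by
  classical
  simp only [checkTable, Bool.and_eq_true, List.all_eq_true, decide_eq_true_eq, List.any_eq_true] at hc
  obtain ⟨⟨hgens, h1⟩, hall⟩ := hc
  have hn0 : ∀ X ∈ tbl, fnorm (ev4 e X) ≠ 0 := fun X hX => by
    rw [fnorm_ev4]; exact hns _ (hall X hX).1.1
  have hclosed : ∀ X ∈ tbl, ∀ g ∈ gens, ∃ Z ∈ tbl, Φ.el e X * Φ.el e g = Φ.el e Z := by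
    intro X hX g hg
    obtain ⟨Z, hZ, l, hl, heq⟩ := (hall X hX).2 g hg
    refine ⟨Z, hZ, ?_⟩
    rw [el, el, el, Φ.qpg_mul (hn0 X hX) (hn0 g (hgens g hg)), ← ev4_mul, heq, ev4_smul,
      Φ.qpg_smul (hls l hl) (hn0 Z hZ)]
  have honeel : Φ.el e one = 1 := by rw [el, hone, Φ.qpg_scalar hu]
  -- the table is the whole group
  have hsub : ∀ g ∈ Φ.gen e gens, ∃ X ∈ tbl, Φ.el e X = g := by
    intro g hg
    have hfin : Subgroup.closure {g | ∃ X ∈ gens, Φ.el e X = g} =
        Subgroup.closure {g | ∃ X ∈ gens, Φ.el e X = g} := rfl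
    have hmon : g ∈ Submonoid.closure {g | ∃ X ∈ gens, Φ.el e X = g} := by
      rw [← Subgroup.closure_toSubmonoid_of_finite]; exact hg
    induction hmon using Submonoid.closure_induction_right with
    | one => exact ⟨one, h1, honeel⟩
    | mul_right x hx y hy ih =>
      obtain ⟨Y, hY, rfl⟩ := hy
      have hxg : x ∈ Φ.gen e gens := by
        show x ∈ Subgroup.closure _
        rw [← Subgroup.mem_toSubmonoid, Subgroup.closure_toSubmonoid_of_finite]; exact hx
      obtain ⟨X, hX, rfl⟩ := ih hxg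
      obtain ⟨Z, hZ, e'⟩ := hclosed X hX Y hY
      exact ⟨Z, hZ, e'.symm⟩
  refine ⟨?_, fun g hg => ?_⟩
  · let S : Finset (ProjGenLinGroup (Fin 2) F) := tbl.toFinset.image (Φ.el e)
    calc Nat.card (Φ.gen e gens) ≤ Nat.card S := by
          refine Nat.card_le_card_of_injective (fun g => ⟨g.1, ?_⟩) fun a b h => Subtype.ext ?_
          · obtain ⟨X, hX, hXg⟩ := hsub g.1 g.2
            exact Finset.mem_image.mpr ⟨X, List.mem_toFinset.mpr hX, hXg⟩
          · exact congrArg (fun u : {x // x ∈ S} => u.1) h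
      _ = S.card := Nat.card_eq_finsetCard S
      _ ≤ tbl.toFinset.card := Finset.card_image_le
      _ ≤ tbl.length := List.toFinset_card_le tbl
  · obtain ⟨X, hX, rfl⟩ := hsub g hg
    obtain ⟨n, hn, hsc⟩ := (hall X hX).1.2
    refine ⟨n, hn, ?_⟩
    have hpow : ∀ m, fnorm (ev4 e (qpow one X m)) ≠ 0 ∧ Φ.el e X ^ m = Φ.el e (qpow one X m) := by
      intro m
      induction m with
      | zero =>
        refine ⟨?_, by rw [qpow, pow_zero, honeel]⟩
        rw [qpow, hone]; simpa [fnorm] using hu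
      | succ m ih =>
        refine ⟨?_, ?_⟩
        · rw [qpow, ev4_mul, fnorm_mul]; exact mul_ne_zero ih.1 (hn0 X hX)
        · rw [qpow, pow_succ, ih.2, el, el, el, Φ.qpg_mul ih.1 (hn0 X hX), ev4_mul]
    obtain ⟨h0, h1'⟩ := hpow n
    rw [h1', el]
    generalize qpow one X n = W at h0 hsc h1' ⊢
    obtain ⟨a, b, c, d⟩ := W
    simp only [qscalar, Bool.and_eq_true, decide_eq_true_eq] at hsc
    obtain ⟨⟨rfl, rfl⟩, rfl⟩ := hsc
    simp only [ev4, e.zero] at h0 ⊢
    exact Φ.qpg_scalar (by simpa [fnorm] using h0)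

theorem mem_gen {gens : List (Q4 R)} {X : Q4 R} (h : X ∈ gens) : Φ.el e X ∈ Φ.gen e gens :=
  Subgroup.subset_closure ⟨X, h, rfl⟩

end Frame

end CfsgLib.Classical.Dickson
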