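import Cfsg.Agent.Lib.Classical.Dickson.NormalForm

/-!
# Rational forms, trace invariant, standard position
-/

set_option autoImplicit false
set_option linter.unusedSectionVars false
set_option linter.style.haveILetI false

namespace CfsgLib.Classical.Dickson

open Matrix OnePoint MulAction
open scoped MatrixGroups

variable {F : Type*} [Field F] [Fintype F] [DecidableEq F]

/-- The rational points of a subfield. -/
def ratPGL (B : Subfield F) : Subgroup (ProjGenLinGroup (Fin 2) F) :=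
  (ProjGenLinGroup.map (n := Fin 2) B.subtype).range

theorem mk_mem_ratPGL {B : Subfield F} {g : GL (Fin 2) F} (h : ∀ i j, g i j ∈ B) :
    ProjGenLinGroup.mk g ∈ ratPGL B := by
  let M : Matrix (Fin 2) (Fin 2) B := fun i j => ⟨g i j, h i j⟩
  have hd : M.det ≠ 0 := fun e => g.det_ne_zero (by
    have := congrArg B.subtype e
    rw [det_fin_two, map_sub, map_mul, map_mul, map_zero] at this
    rw [det_fin_two]; exact this)
  refine ⟨ProjGenLinGroup.mk (GeneralLinearGroup.mkOfDetNeZero M hd), ?_⟩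
  rw [ProjGenLinGroup.map_mk]
  exact congrArg ProjGenLinGroup.mk (Units.ext (by ext i j; rfl))

theorem card_ratPGL (B : Subfield F) :
    Nat.card (ratPGL B) = (Nat.card B + 1) * Nat.card B * (Nat.card B - 1) := by
  rw [ratPGL, ← Nat.card_congr (MonoidHom.ofInjective (map_injective_subfield B)).toEquiv, card_pgl2]

/-- The invariant `tr² / det`. -/
noncomputable def tinv (g : ProjGenLinGroup (Fin 2) F) : F :=
  Quotient.liftOn' g (fun M : GL (Fin 2) F => (M : Matrix (Fin 2) (Fin 2) F).trace ^ 2 / (M : Matrix (Fin 2) (Fin 2) F).det)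
    (fun M N h => by
      have h' : (ProjGenLinGroup.mk M : ProjGenLinGroup (Fin 2) F) = ProjGenLinGroup.mk N := Quotient.sound' h
      obtain ⟨u, rfl⟩ := ProjGenLinGroup.mk_eq_mk_iff.mp h'
      have hd := M.det_ne_zero
      simp [GeneralLinearGroup.coe_scalar, trace_fin_two, det_fin_two] at hd ⊢
      field_simp)

theorem tinv_mk (M : GL (Fin 2) F) : tinv (ProjGenLinGroup.mk M) =
    (M : Matrix (Fin 2) (Fin 2) F).trace ^ 2 / (M : Matrix (Fin 2) (Fin 2) F).det := rfl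

theorem tinv_conj (h g : ProjGenLinGroup (Fin 2) F) : tinv (MulAut.conj h g) = tinv g := by
  induction h using ProjGenLinGroup.induction_on with | mk h =>
  induction g using ProjGenLinGroup.induction_on with | mk g =>
  rw [MulAut.conj_apply, ← map_inv, ← map_mul, ← map_mul, tinv_mk, tinv_mk]
  simp [Units.val_mul, Matrix.trace_mul_cycle, Matrix.det_mul]
  rw [mul_comm (h : Matrix (Fin 2) (Fin 2) F).det, mul_assoc, mul_inv_cancel₀ h.det_ne_zero, mul_one]

theorem tinv_mem {B : Subfield F} {g : ProjGenLinGroup (Fin 2) F} (hg : g ∈ ratPGL B) : tinv g ∈ B := by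
  obtain ⟨m, rfl⟩ := hg
  induction m using ProjGenLinGroup.induction_on with | mk m =>
  rw [ProjGenLinGroup.map_mk, tinv_mk, trace_fin_two, det_fin_two]
  simp
  exact div_mem (pow_mem (add_mem (SetLike.coe_mem _) (SetLike.coe_mem _)) 2)
    (sub_mem (mul_mem (SetLike.coe_mem _) (SetLike.coe_mem _)) (mul_mem (SetLike.coe_mem _) (SetLike.coe_mem _)))

/-- The rational points of `PSL₂` of a subfield. -/
def ratPSL (A : Subfield F) : Subgroup (ProjGenLinGroup (Fin 2) F) :=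
  ((ProjGenLinGroup.map (n := Fin 2) A.subtype).comp (SpecialLinearGroup.toPGL (n := Fin 2) (R := A))).range

theorem ratPSL_le (A : Subfield F) : ratPSL A ≤ ratPGL A := by
  rintro _ ⟨s, rfl⟩; exact ⟨SpecialLinearGroup.toPGL s, rfl⟩

theorem card_ratPSL (A : Subfield F) :
    Nat.gcd 2 (Nat.card A - 1) * Nat.card (ratPSL A) = (Nat.card A + 1) * Nat.card A * (Nat.card A - 1) := by
  rw [ratPSL, MonoidHom.range_comp, Subgroup.card_map_of_injective (map_injective_subfield A)]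
  exact card_range_toPGL A

/-- Containment of rational groups forces containment of fields. -/
theorem subfield_le_of_conj {A B : Subfield F} {h : ProjGenLinGroup (Fin 2) F}
    (hle : (ratPSL A).map (MulAut.conj h).toMonoidHom ≤ ratPGL B) : A ≤ B := by
  have key : ∀ a : A, ((2 : F) + a) ^ 2 ∈ B := by
    intro a
    let s : SL(2, A) := ⟨!![1, a; 1, 1 + a], by simp [det_fin_two]⟩
    have hm := tinv_mem (hle ⟨_, ⟨s, rfl⟩, rfl⟩)
    simp only [MulEquiv.coe_toMonoidHom, tinv_conj, MonoidHom.comp_apply, SpecialLinearGroup.toPGL,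
      ProjGenLinGroup.map_mk, tinv_mk] at hm
    simp [trace_fin_two, det_fin_two, s, SpecialLinearGroup.toGL] at hm
    convert hm using 1
    ring
  have hsq : ∀ b : A, (b : F) ^ 2 ∈ B := fun b => by
    have := key ⟨(b : F) - 2, sub_mem b.2 (by rw [← one_add_one_eq_two]; exact add_mem (one_mem A) (one_mem A))⟩
    simpa using this
  intro a ha
  by_cases h2 : (2 : F) = 0
  · -- every element of a finite field of characteristic two is a square
    haveI : CharP F 2 := CharTwo.of_one_ne_zero_of_two_eq_zero one_ne_zero h2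
    haveI : CharP A 2 := (RingHom.charP_iff A.subtype A.subtype.injective 2).mpr inferInstance
    haveI := Fintype.ofFinite A
    obtain ⟨b, hb⟩ := (bijective_frobenius A 2).2 ⟨a, ha⟩
    have := hsq b
    have e : (b : F) ^ 2 = a := congrArg Subtype.val hb
    rwa [e] at this
  · have h1 := sub_mem (sub_mem (hsq ⟨a + 1, add_mem ha (one_mem A)⟩) (hsq ⟨a, ha⟩)) (one_mem B)
    have h2' : (2 : F) ∈ B := by rw [← one_add_one_eq_two]; exact add_mem (one_mem B) (one_mem B)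
    have := div_mem h1 h2'
    convert this using 1
    field_simp
    ring

section Fields

variable (p : ℕ) [hp : Fact p.Prime] [CharP F p]

include hp in
theorem exists_prime_frame (h2 : (2 : F) ≠ 0) :
    ∃ Φ : Frame F, Φ.a₀ ∈ fixField p 1 ∧ Φ.b₀ ∈ fixField p 1 := by
  have h2' : (2 : ZMod p) ≠ 0 := fun e => h2 (by
    have := congrArg (ZMod.castHom dvd_rfl F) e
    rwa [map_ofNat, map_zero] at this)
  obtain ⟨Ψ⟩ := exists_frame h2'
  refine ⟨⟨ZMod.castHom dvd_rfl F Ψ.a₀, ZMod.castHom dvd_rfl F Ψ.b₀, ?_, h2⟩, ?_, ?_⟩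
  · rw [← map_mul, ← map_mul, ← map_add, Ψ.rel, map_neg, map_one]
  all_goals rw [mem_fixField, pow_one, ← map_pow, ZMod.pow_card]

variable {p}

include hp in
theorem card_fixField_le (k : ℕ) (hk : 1 ≤ k) : Nat.card (fixField (F := F) p k) ≤ p ^ k := by
  classical
  have hgt : 1 < p ^ k := Nat.one_lt_pow (by omega) hp.out.one_lt
  let f : Polynomial F := Polynomial.X ^ p ^ k - Polynomial.X
  have hdeg : f.natDegree = p ^ k := FiniteField.X_pow_card_sub_X_natDegree_eq F hgt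
  have hf : f ≠ 0 := FiniteField.X_pow_card_sub_X_ne_zero F hgt
  calc Nat.card (fixField (F := F) p k) ≤ Nat.card f.roots.toFinset := by
        refine Nat.card_le_card_of_injective (fun x => ⟨x.1, ?_⟩) fun a b h => ?_
        · rw [Multiset.mem_toFinset, Polynomial.mem_roots hf]
          simp [f, (mem_fixField p).mp x.2]
        · exact Subtype.ext (congrArg (fun u : f.roots.toFinset => u.1) h)
    _ = f.roots.toFinset.card := Nat.card_eq_finsetCard _
    _ ≤ p ^ k := (Multiset.toFinset_card_le _).trans (hdeg ▸ Polynomial.card_roots' f)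

theorem fixField_one_le (k : ℕ) : fixField (F := F) p 1 ≤ fixField p k := by
  intro x hx
  rw [mem_fixField, pow_one] at hx
  rw [mem_fixField]
  induction k with
  | zero => simp
  | succ k ih => rw [pow_succ, pow_mul, ih, hx]

theorem phi_mem_fixField (h2 : (2 : F) ≠ 0) {φ : F} (hφ : φ * φ = φ + 1) : φ ∈ fixField p 2 := by
  rw [mem_fixField, pow_two, pow_mul]
  have h' : φ ^ p * φ ^ p = φ ^ p + 1 := by
    have := congrArg (frobenius F p) hφ
    rw [map_mul, map_add, map_one] at this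
    exact this
  have : (φ ^ p - φ) * (φ ^ p + φ - 1) = 0 := by linear_combination h' - hφ
  rcases mul_eq_zero.mp this with e | e
  · rw [sub_eq_zero.mp e, sub_eq_zero.mp e]
  · have e' : φ ^ p = 1 - φ := by linear_combination e
    have hfr : (1 - φ) ^ p = 1 - φ ^ p := by
      rw [show (1 - φ) ^ p = frobenius F p (1 - φ) from rfl, map_sub, map_one]; rfl
    rw [e', hfr, e']; ring

end Fields

namespace Frame

variable (Φ : Frame F)

theorem qpg_mem_ratPGL {B : Subfield F} (ha : Φ.a₀ ∈ B) (hb : Φ.b₀ ∈ B) {X : F × F × F × F}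
    (h1 : X.1 ∈ B) (h2 : X.2.1 ∈ B) (h3 : X.2.2.1 ∈ B) (h4 : X.2.2.2 ∈ B) : Φ.qpg X ∈ ratPGL B := by
  unfold qpg
  split
  · refine mk_mem_ratPGL fun i j => ?_
    have e1 := add_mem (add_mem h1 (mul_mem h3 ha)) (neg_mem (mul_mem h4 hb))
    have e2 := add_mem (add_mem (neg_mem h2) (mul_mem h3 hb)) (mul_mem h4 ha)
    have e3 := add_mem (add_mem h2 (mul_mem h3 hb)) (mul_mem h4 ha)
    have e4 := add_mem (add_mem h1 (neg_mem (mul_mem h3 ha))) (mul_mem h4 hb)
    fin_cases i <;> fin_cases j <;> simp [qmat, sub_eq_add_neg] at e1 e2 e3 e4 ⊢ <;> assumption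
  · exact one_mem _

theorem g24_rational {B : Subfield F} (ha : Φ.a₀ ∈ B) (hb : Φ.b₀ ∈ B) : Φ.g24 ≤ ratPGL B := by
  refine (Subgroup.closure_le _).mpr ?_
  rintro g ⟨⟨a, b, c, d⟩, -, rfl⟩
  exact Φ.qpg_mem_ratPGL ha hb (intCast_mem B a) (intCast_mem B b) (intCast_mem B c) (intCast_mem B d)

theorem g60_rational {B : Subfield F} (ha : Φ.a₀ ∈ B) (hb : Φ.b₀ ∈ B) (φ : F) (hφ : φ * φ = φ + 1)
    (hφB : φ ∈ B) : Φ.g60 φ hφ ≤ ratPGL B := by
  refine (Subgroup.closure_le _).mpr ?_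
  rintro g ⟨⟨a, b, c, d⟩, -, rfl⟩
  have hev : ∀ x, (evP φ hφ).ev x ∈ B := fun x => add_mem (intCast_mem B _) (mul_mem (intCast_mem B _) hφB)
  exact Φ.qpg_mem_ratPGL ha hb (hev a) (hev b) (hev c) (hev d)

theorem g12_le60 (φ : F) (hφ : φ * φ = φ + 1) : Φ.g12 ≤ Φ.g60 φ hφ := by
  refine (Subgroup.closure_le _).mpr ?_
  rintro g ⟨X, hX, rfl⟩
  have hk := Φ.klein_le60 φ hφ
  simp [gens12] at hX
  rcases hX with rfl | rfl | rfl
  · refine hk (Or.inr (Or.inl ?_))
    simp [el, ev4, evZ, vI]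
  · refine hk (Or.inr (Or.inr (Or.inl ?_)))
    simp [el, ev4, evZ, vJ]
  · have hm := Φ.mem_gen (evP φ hφ) (gens := gens60) (X := (⟨1, 0⟩, ⟨-1, 0⟩, ⟨-1, 0⟩, ⟨-1, 0⟩)) (by simp [gens60])
    simp [el, ev4, evP] at hm
    show Φ.el evZ (1, -1, -1, -1) ∈ Φ.g60 φ hφ
    simp [el, ev4, evZ]
    exact hm

theorem klein_eq_sq {g : ProjGenLinGroup (Fin 2) F} (hg : g ∈ Φ.g12) (h : g ^ 2 = 1) : g ∈ Φ.klein := by
  classical
  obtain ⟨f⟩ := Φ.g12_iso
  have hA4 : Fintype.card {g : alternatingGroup (Fin 4) // g ^ 2 = 1} = 4 := by decide +kernel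
  let ι : Φ.klein → {g : alternatingGroup (Fin 4) // g ^ 2 = 1} := fun v =>
    ⟨f ⟨v.1, Φ.klein_le12 v.2⟩, by
      rw [← map_pow, MulEquiv.map_eq_one_iff]
      apply Subtype.ext
      show v.1 ^ 2 = 1
      rcases v.2 with e | e | e | e
      · rw [e, one_pow]
      · rw [e, pow_two, Φ.vI_sq]
      · rw [show v.1 = Φ.vJ from e, pow_two, Φ.vJ_sq]
      · rw [show v.1 = Φ.vI * Φ.vJ from e, pow_two,
          show Φ.vI * Φ.vJ * (Φ.vI * Φ.vJ) = Φ.vI * (Φ.vJ * Φ.vI) * Φ.vJ by group, ← Φ.vI_comm_vJ,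
          show Φ.vI * (Φ.vI * Φ.vJ) * Φ.vJ = (Φ.vI * Φ.vI) * (Φ.vJ * Φ.vJ) by group, Φ.vI_sq, Φ.vJ_sq, one_mul]⟩
  have hinj : Function.Injective ι := fun a b e => by
    have := f.injective (congrArg Subtype.val e)
    exact Subtype.ext (congrArg (fun u : Φ.g12 => u.1) this)
  haveI := Fintype.ofFinite Φ.klein
  have hsurj : Function.Surjective ι := ((Fintype.bijective_iff_injective_and_card ι).mpr
    ⟨hinj, by rw [hA4, ← Nat.card_eq_fintype_card, Φ.card_klein]⟩).2
  obtain ⟨v, hv⟩ := hsurj ⟨f ⟨g, hg⟩, by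
    rw [← map_pow, MulEquiv.map_eq_one_iff]; exact Subtype.ext h⟩
  have := f.injective (congrArg Subtype.val hv)
  have e : (v : ProjGenLinGroup (Fin 2) F) = g := congrArg (fun u : Φ.g12 => u.1) this
  rw [← e]; exact v.2

theorem normalizer_klein_eq :
    Subgroup.normalizer (Φ.klein : Set (ProjGenLinGroup (Fin 2) F)) = Φ.g24 := by
  refine (Subgroup.eq_of_le_of_card_ge ?_ (by rw [Φ.card_g24]; exact Φ.card_normalizer_klein)).symm
  intro g hg
  haveI : (Φ.g12.subgroupOf Φ.g24).Normal := Subgroup.normal_of_index_eq_two (by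
    have := (Φ.g12.subgroupOf Φ.g24).card_mul_index
    rw [Nat.card_congr (Subgroup.subgroupOfEquivOfLe Φ.g12_le24).toEquiv, Φ.card_g12, Φ.card_g24] at this
    omega)
  have key : ∀ g ∈ Φ.g24, ∀ v ∈ Φ.klein, g * v * g⁻¹ ∈ Φ.klein := by
    intro g hg v hv
    have hv12 := Φ.klein_le12 hv
    have h12 : g * v * g⁻¹ ∈ Φ.g12 :=
      Subgroup.Normal.conj_mem (H := Φ.g12.subgroupOf Φ.g24) inferInstance ⟨v, Φ.g12_le24 hv12⟩ hv12 ⟨g, hg⟩
    refine Φ.klein_eq_sq h12 ?_
    rw [conj_pow]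
    have hsq : v ^ 2 = 1 := by
      rcases hv with e | e | e | e
      · rw [e, one_pow]
      · rw [e, pow_two, Φ.vI_sq]
      · rw [show v = Φ.vJ from e, pow_two, Φ.vJ_sq]
      · rw [show v = Φ.vI * Φ.vJ from e, pow_two,
          show Φ.vI * Φ.vJ * (Φ.vI * Φ.vJ) = Φ.vI * (Φ.vJ * Φ.vI) * Φ.vJ by group, ← Φ.vI_comm_vJ,
          show Φ.vI * (Φ.vI * Φ.vJ) * Φ.vJ = (Φ.vI * Φ.vI) * (Φ.vJ * Φ.vJ) by group, Φ.vI_sq, Φ.vJ_sq, one_mul]
    rw [hsq]; simp
  rw [Subgroup.mem_normalizer_iff]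
  intro v
  refine ⟨key g hg v, fun h => ?_⟩
  have := key g⁻¹ (inv_mem hg) _ h
  simpa [mul_assoc] using this

/-- Subgroups isomorphic to `A₄`, `S₄`, `A₅`: move their four-group to standard position. -/
theorem exists_std {G : Subgroup (ProjGenLinGroup (Fin 2) F)} {n : ℕ}
    (emb : G →* Equiv.Perm (Fin n)) (hemb : Function.Injective emb) {a b : Equiv.Perm (Fin n)}
    (ha : a ∈ emb.range) (hb : b ∈ emb.range) (hL : ∀ g : G, orderOf g = 2 → (emb g = a ∨ emb g = b) → (g : ProjGenLinGroup (Fin 2) F) ∈ sln F)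
    (ha2 : orderOf a = 2) (hb2 : orderOf b = 2) (hne : a ≠ b) (hab : a * b = b * a) :
    ∃ h : ProjGenLinGroup (Fin 2) F, Φ.klein ≤ G.map (MulAut.conj h).toMonoidHom ∧
      ((∀ x ∈ emb.range, x * a * x⁻¹ ∈ ({a, b, a * b} : Finset _) ∧ x * b * x⁻¹ ∈ ({a, b, a * b} : Finset _)) →
        G.map (MulAut.conj h).toMonoidHom ≤ Φ.g24) := by
  obtain ⟨A, rfl⟩ := ha
  obtain ⟨B, rfl⟩ := hb
  rw [orderOf_injective emb hemb] at ha2 hb2
  obtain ⟨h, hA, hB⟩ := Φ.exists_conj_klein (hL A ha2 (Or.inl rfl)) (hL B hb2 (Or.inr rfl))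
    (by rw [Subgroup.orderOf_coe]; exact ha2) (by rw [Subgroup.orderOf_coe]; exact hb2)
    (fun e => hne (congrArg emb (Subtype.ext e)))
    (congrArg Subtype.val (hemb (by rw [map_mul, map_mul]; exact hab) : A * B = B * A))
  have hk : Φ.klein ≤ G.map (MulAut.conj h).toMonoidHom := by
    intro g hg
    rcases hg with rfl | rfl | rfl | rfl
    · exact one_mem _
    · exact ⟨A, A.2, hA⟩
    · exact ⟨B, B.2, hB⟩
    · exact ⟨A * B, (A * B).2, by show MulAut.conj h (↑A * ↑B) = _; rw [map_mul, hA, hB]⟩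
  refine ⟨h, hk, fun hN => ?_⟩
  rintro _ ⟨x, hx, rfl⟩
  rw [← Φ.normalizer_klein_eq]
  have hmem : ∀ (y : G), emb y ∈ ({emb A, emb B, emb A * emb B} : Finset _) →
      MulAut.conj h (y : ProjGenLinGroup (Fin 2) F) ∈ Φ.klein := by
    intro y hy
    simp only [Finset.mem_insert, Finset.mem_singleton, ← map_mul] at hy
    rcases hy with e | e | e
    · rw [hemb e]; exact Or.inr (Or.inl hA)
    · rw [hemb e]; exact Or.inr (Or.inr (Or.inl hB))
    · rw [hemb e, Subgroup.coe_mul, map_mul, hA, hB]; exact Or.inr (Or.inr (Or.inr rfl))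
  have key : ∀ (y : G) (v : ProjGenLinGroup (Fin 2) F), v ∈ Φ.klein →
      MulAut.conj h y * v * (MulAut.conj h y)⁻¹ ∈ Φ.klein := by
    intro y v hv
    have hcA : MulAut.conj h (y : ProjGenLinGroup (Fin 2) F) * Φ.vI * (MulAut.conj h y)⁻¹ ∈ Φ.klein := by
      rw [← hA, ← map_inv, ← map_mul, ← map_mul]
      exact hmem (y * A * y⁻¹) (by rw [map_mul, map_mul, map_inv]; exact (hN _ ⟨y, rfl⟩).1)
    have hcB : MulAut.conj h (y : ProjGenLinGroup (Fin 2) F) * Φ.vJ * (MulAut.conj h y)⁻¹ ∈ Φ.klein := by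
      rw [← hB, ← map_inv, ← map_mul, ← map_mul]
      exact hmem (y * B * y⁻¹) (by rw [map_mul, map_mul, map_inv]; exact (hN _ ⟨y, rfl⟩).2)
    rcases hv with rfl | rfl | rfl | rfl
    · simp
    · exact hcA
    · exact hcB
    · rw [← conj_mul]; exact mul_mem hcA hcB
  rw [Subgroup.mem_normalizer_iff]
  intro v
  refine ⟨key ⟨x, hx⟩ v, fun hv => ?_⟩
  have := key ⟨x, hx⟩⁻¹ _ hv
  rw [Subgroup.coe_inv, map_inv] at this
  simpa [mul_assoc] using this

theorem g12_unique {G : Subgroup (ProjGenLinGroup (Fin 2) F)} (hG : Nat.card G = 12) (hle : G ≤ Φ.g24) :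
    G = Φ.g12 := by
  obtain ⟨f⟩ := Φ.g24_iso
  have key : ∀ H : Subgroup (ProjGenLinGroup (Fin 2) F), Nat.card H = 12 → H ≤ Φ.g24 →
      (H.subgroupOf Φ.g24).map f.toMonoidHom = alternatingGroup (Fin 4) := by
    intro H hH hle
    apply Equiv.Perm.eq_alternatingGroup_of_index_eq_two
    rw [Subgroup.index_map_of_bijective f.bijective]
    have := (H.subgroupOf Φ.g24).card_mul_index
    rw [Nat.card_congr (Subgroup.subgroupOfEquivOfLe hle).toEquiv, hH, Φ.card_g24] at this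
    omega
  have := Subgroup.map_injective f.injective ((key G hG hle).trans (key _ Φ.card_g12 Φ.g12_le24).symm)
  exact le_antisymm (fun g hg => (Subgroup.ext_iff.mp this ⟨g, hle hg⟩).mp hg)
    (fun g hg => (Subgroup.ext_iff.mp this ⟨g, Φ.g12_le24 hg⟩).mpr hg)

include Φ in
/-- Rationality through traces. -/
theorem rational_of_traces {B : Subfield F} {G : Subgroup (ProjGenLinGroup (Fin 2) F)}
    (ha : Φ.a₀ ∈ B) (hb : Φ.b₀ ∈ B) (hG : G ≤ sln F) (hK : Φ.klein ≤ G)
    (htrace : ∀ s : SL(2, F), SpecialLinearGroup.toPGL s ∈ G → s.1.trace ∈ B) : G ≤ ratPGL B := by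
  intro g hg
  obtain ⟨s, rfl⟩ := hG hg
  obtain ⟨⟨a, b, c, d⟩, hX⟩ := Φ.exists_qmat s.1
  have htr : ∀ (Z : F × F × F × F), fnorm Z = 1 → Φ.qpg Z ∈ G → (Φ.qmat Z).trace ∈ B := by
    intro Z hn hZG
    let u : SL(2, F) := ⟨Φ.qmat Z, by rw [Φ.det_qmat, hn]⟩
    have hu : SpecialLinearGroup.toPGL u = Φ.qpg Z := by
      rw [qpg, dif_pos (by rw [hn]; exact one_ne_zero)]
      exact congrArg ProjGenLinGroup.mk (Units.ext rfl)
    exact htrace u (hu ▸ hZG)
  have hn1 : fnorm (a, b, c, d) = 1 := by rw [← Φ.det_qmat, hX]; exact s.2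
  have hsg : SpecialLinearGroup.toPGL s = Φ.qpg (a, b, c, d) := by
    rw [qpg, dif_pos (by rw [hn1]; exact one_ne_zero)]
    exact congrArg ProjGenLinGroup.mk (Units.ext hX.symm)
  rw [hsg] at hg ⊢
  have hmul : ∀ Z : F × F × F × F, fnorm Z = 1 → Φ.qpg Z ∈ G →
      (Φ.qmat (fmul (a, b, c, d) Z)).trace ∈ B := by
    intro Z hZ hZG
    refine htr _ (by rw [fnorm_mul, hn1, hZ, one_mul]) ?_
    rw [← Φ.qpg_mul (by rw [hn1]; exact one_ne_zero) (by rw [hZ]; exact one_ne_zero)]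
    exact mul_mem hg hZG
  have two : (2 : F) ∈ B := by rw [← one_add_one_eq_two]; exact add_mem (one_mem _) (one_mem _)
  have half : ∀ x : F, 2 * x ∈ B → x ∈ B := fun x hx => by
    have := div_mem hx two
    rwa [mul_div_cancel_left₀ x Φ.two_ne] at this
  have t0 := htr _ hn1 hg
  have t1 := hmul (0, 1, 0, 0) (by simp [fnorm]) (hK (Or.inr (Or.inl rfl)))
  have t2 := hmul (0, 0, 1, 0) (by simp [fnorm]) (hK (Or.inr (Or.inr (Or.inl rfl))))
  have t3 := hmul (0, 0, 0, 1) (by simp [fnorm]) (by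
    have h' : Φ.vI * Φ.vJ ∈ G := hK (Or.inr (Or.inr (Or.inr rfl)))
    rw [vI, vJ, Φ.qpg_mul (by simp [fnorm]) (by simp [fnorm])] at h'
    simpa [fmul] using h')
  simp [qmat, fmul, trace_fin_two] at t0 t1 t2 t3
  refine Φ.qpg_mem_ratPGL ha hb (half _ ?_) (half _ ?_) (half _ ?_) (half _ ?_)
  · convert t0 using 1; ring
  · convert neg_mem t1 using 1; ring
  · convert neg_mem t2 using 1; ring
  · convert neg_mem t3 using 1; ring

include Φ in
/-- Rationality through element orders. -/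
theorem rational_of_exps (p : ℕ) [hp : Fact p.Prime] [CharP F p] {k : ℕ} {G : Subgroup (ProjGenLinGroup (Fin 2) F)}
    (ha : Φ.a₀ ∈ fixField p k) (hb : Φ.b₀ ∈ fixField p k) (hk : k = 2) (hG : G ≤ sln F) (hK : Φ.klein ≤ G)
    (hexp : ∀ g ∈ G, ∃ n ∈ [1, 2, 3, 4, 5], g ^ n = 1) : G ≤ ratPGL (fixField p k) := by
  refine Φ.rational_of_traces ha hb hG hK fun s hs => ?_
  obtain ⟨n, hn, he⟩ := hexp _ hs
  exact trace_mem_fixField p Φ.two_ne s hn (Or.inr hk) he

end Frame

end CfsgLib.Classical.Dickson
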