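import Cfsg.Agent.Lib.Classical.Dickson.Big

/-!
# Tori and their normalisers in `PGL₂(q)` and `PSL₂(q)`
-/

set_option autoImplicit false
set_option linter.unusedSectionVars false
set_option linter.style.haveILetI false

namespace CfsgLib.Classical.Dickson

open Matrix OnePoint MulAction
open scoped MatrixGroups

variable {F : Type*} [Field F] [Fintype F] [DecidableEq F] (p : ℕ) [hp : Fact p.Prime] [CharP F p]

local notation "E2" => FiniteField.Extension F p 2
local notation "PG" => ProjGenLinGroup (Fin 2) F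

/-- `Γ` is `PGL₂` or `PSL₂`. -/
def IsBig (Γ : Subgroup PG) : Prop := Γ = ⊤ ∨ Γ = sln F

theorem IsBig.sln_le {Γ : Subgroup PG} (h : IsBig Γ) : sln F ≤ Γ := by
  rcases h with rfl | rfl
  exacts [le_top, le_rfl]

theorem IsBig.index_pos {Γ : Subgroup PG} : 0 < Γ.index :=
  Nat.pos_of_ne_zero Subgroup.index_ne_zero_of_finite

theorem IsBig.card_mul {Γ : Subgroup PG} (_h : IsBig Γ) :
    Nat.card Γ * Γ.index = (Fintype.card F + 1) * Fintype.card F * (Fintype.card F - 1) := by
  rw [Γ.card_mul_index, card_pgl_eq]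

theorem IsBig.index_le {Γ : Subgroup PG} (h : IsBig Γ) : Γ.index ≤ 2 := by
  rcases h with rfl | rfl
  · rw [Subgroup.index_top]; norm_num
  · rw [index_sln]; rcases dd_cases (F := F) with e | e <;> omega

theorem IsBig.two_mul_lt {Γ : Subgroup PG} (h : IsBig Γ) (hq : 4 ≤ Fintype.card F) :
    2 * (Fintype.card F + 1) < Nat.card Γ := by
  have h1 := h.card_mul
  have h2 := h.index_le
  have h3 : Nat.card Γ * Γ.index ≤ Nat.card Γ * 2 := Nat.mul_le_mul_left _ h2
  have h4 : (Fintype.card F + 1) * 4 * 3 ≤ (Fintype.card F + 1) * Fintype.card F * (Fintype.card F - 1) :=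
    Nat.mul_le_mul (Nat.mul_le_mul_left _ hq) (by omega)
  omega

/-- `c` fixes `z` in the extended line. -/
def FixE (c : PG) (z : OnePoint E2) : Prop := toExt p c • z = z

/-- The torus of `c` in `Γ`. -/
def torus (Γ : Subgroup PG) (c : PG) : Subgroup PG where
  carrier := {g | g ∈ Γ ∧ ∀ z, FixE p c z → FixE p g z}
  one_mem' := ⟨one_mem _, fun z _ => by rw [FixE, map_one, one_smul]⟩
  mul_mem' := fun {a b} ha hb => ⟨mul_mem ha.1 hb.1, fun z hz => by
    rw [FixE, map_mul, mul_smul, hb.2 z hz, ha.2 z hz]⟩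
  inv_mem' := fun {a} ha => ⟨inv_mem ha.1, fun z hz => by
    rw [FixE, map_inv, inv_smul_eq_iff]; exact (ha.2 z hz).symm⟩

/-- The setwise stabiliser in `Γ` of the fixed pair of `c`. -/
def pairStab (Γ : Subgroup PG) (c : PG) : Subgroup PG where
  carrier := {g | g ∈ Γ ∧ ∀ z, FixE p c z ↔ FixE p c (toExt p g • z)}
  one_mem' := ⟨one_mem _, fun z => by rw [map_one, one_smul]⟩
  mul_mem' := fun {a b} ha hb => ⟨mul_mem ha.1 hb.1, fun z => by
    rw [map_mul, mul_smul]; exact (hb.2 z).trans (ha.2 _)⟩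
  inv_mem' := fun {a} ha => ⟨inv_mem ha.1, fun z => by
    have := ha.2 (toExt p a⁻¹ • z)
    rw [← mul_smul, ← map_mul, mul_inv_cancel, map_one, one_smul] at this
    exact this.symm⟩

variable {p}
variable {Γ : Subgroup (ProjGenLinGroup (Fin 2) F)} {c : ProjGenLinGroup (Fin 2) F}

theorem torus_le_pairStab (hcp : c ^ p ≠ 1) : torus p Γ c ≤ pairStab p Γ c := by
  intro g hg
  refine ⟨hg.1, fun z => ⟨fun hz => ?_, fun hz => ?_⟩⟩
  · rw [hg.2 z hz]; exact hz
  · have h := (inv_mem hg).2 _ hz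
    rw [FixE, map_inv, inv_smul_smul] at h
    exact h ▸ hz

theorem normalizing_mem_pairStab {g : PG} (hg : g ∈ Γ) (h : g * c * g⁻¹ ∈ Subgroup.zpowers c)
    (h' : g⁻¹ * c * g ∈ Subgroup.zpowers c) : g ∈ pairStab p Γ c := by
  have key : ∀ {w : PG} {z : OnePoint E2}, w ∈ Subgroup.zpowers c → FixE p c z → toExt p w • z = z :=
    fun {w z} hw hz => (Subgroup.zpowers_le.mpr
      (show c ∈ (stabilizer (ProjGenLinGroup (Fin 2) E2) z).comap (toExt p) from hz)) hw
  refine ⟨hg, fun z => ⟨fun hz => ?_, fun hz => ?_⟩⟩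
  · have := key h' hz
    rw [map_mul, map_mul, mul_smul, mul_smul, map_inv, inv_smul_eq_iff] at this
    exact this
  · have := key h hz
    rw [map_mul, map_mul, mul_smul, mul_smul, map_inv, inv_smul_smul] at this
    exact MulAction.injective (toExt p g) this

theorem pow_ne_one_of_semisimple (hc : ¬ p ∣ orderOf c) (hc1 : c ≠ 1) : c ^ p ≠ 1 := fun h => by
  rcases (Nat.dvd_prime hp.out).mp (orderOf_dvd_of_pow_eq_one h) with e | e
  · exact hc1 (orderOf_eq_one_iff.mp e)
  · exact hc (e ▸ dvd_rfl)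

theorem toExt_ne_one (hc1 : c ≠ 1) : toExt p c ≠ 1 :=
  fun e => hc1 (toExt_injective p (e.trans (map_one _).symm))

/-- The two fixed points of a semisimple element. -/
theorem exists_pair (hcp : c ^ p ≠ 1) :
    ∃ z z' : OnePoint E2, z ≠ z' ∧ FixE p c z ∧ FixE p c z' ∧ ∀ w, FixE p c w → w = z ∨ w = z' := by
  obtain ⟨z, hz⟩ := exists_fixed_ext p c
  have hcp' : toExt p c ^ p ≠ 1 := fun h => hcp ((toExt_pow_eq_one_iff p c p).mp h)
  obtain ⟨z', hne, hz'⟩ := two_fix_of_not_unip p hcp' hz
  exact ⟨z, z', hne.symm, hz, hz', fun w hw =>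
    eq_or_eq_of_fix (fun e => hcp' (by rw [e, one_pow])) hne.symm hz hz' hw⟩

theorem not_unip_of_torus (hcp : c ^ p ≠ 1) {g : PG} (hg : g ∈ torus p Γ c) (hgp : g ^ p = 1) : g = 1 := by
  by_contra h1
  obtain ⟨z, z', hne, hz, hz', -⟩ := exists_pair hcp
  exact hne (fix_of_unip p (toExt_ne_one h1) ((toExt_pow_eq_one_iff p g p).mpr hgp)
    (hg.2 z' hz') (hg.2 z hz))

theorem not_dvd_torus (hcp : c ^ p ≠ 1) : ¬ p ∣ Nat.card (torus p Γ c) := by
  intro h
  obtain ⟨g, hg⟩ := exists_prime_orderOf_dvd_card' p h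
  have := not_unip_of_torus hcp g.2 (by
    rw [← Subgroup.coe_pow]
    exact congrArg Subtype.val (orderOf_dvd_iff_pow_eq_one.mp hg.dvd))
  rw [← orderOf_eq_one_iff, Subgroup.orderOf_coe, hg] at this
  exact hp.out.one_lt.ne' this

theorem isCyclic_torus (hcp : c ^ p ≠ 1) : IsCyclic (torus p Γ c) := by
  classical
  obtain ⟨z, z', hne, hz, -, -⟩ := exists_pair hcp
  let f : torus p Γ c →* (FiniteField.Extension F p 2)ˣ := (multiAt z).comp
    { toFun := fun g => ⟨toExt p g.1, g.2.2 z hz⟩
      map_one' := Subtype.ext (map_one _)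
      map_mul' := fun a b => Subtype.ext (map_mul _ _ _) }
  refine isCyclic_of_injective f ?_
  rw [injective_iff_map_eq_one]
  intro g hg
  rw [MonoidHom.comp_apply, multiAt_eq_one_iff p] at hg
  exact Subtype.ext (not_unip_of_torus hcp g.2 ((toExt_pow_eq_one_iff p g.1 p).mp hg))

theorem commute_torus (hcp : c ^ p ≠ 1) (hcΓ : c ∈ Γ) {g : PG} (hg : g ∈ torus p Γ c) : g * c = c * g := by
  obtain ⟨t, ht⟩ := (isCyclic_torus (Γ := Γ) hcp).exists_generator
  obtain ⟨i, hi⟩ := Subgroup.mem_zpowers_iff.mp (ht ⟨g, hg⟩)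
  obtain ⟨j, hj⟩ := Subgroup.mem_zpowers_iff.mp (ht ⟨c, hcΓ, fun z hz => hz⟩)
  exact congrArg Subtype.val (show (⟨g, hg⟩ : torus p Γ c) * ⟨c, hcΓ, fun z hz => hz⟩ =
    ⟨c, hcΓ, fun z hz => hz⟩ * ⟨g, hg⟩ by rw [← hi, ← hj]; exact ((Commute.refl t).zpow_zpow i j).eq)

variable (p)

/-- Split or nonsplit. -/
theorem torus_data (hΓ : IsBig Γ) (hq : 4 ≤ Fintype.card F) (hc : ¬ p ∣ orderOf c) (hc1 : c ≠ 1) (hcΓ : c ∈ Γ) :
    ∃ (z z' : OnePoint E2), z ≠ z' ∧ (∀ w, FixE p c w ↔ w = z ∨ w = z') ∧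
      (∃ h ∈ Γ, toExt p h • z = z' ∧ toExt p h • z' = z) ∧
      (((∃ x y : OnePoint F, x ≠ y ∧ c • x = x ∧ c • y = y) ∧
          Nat.card (torus p Γ c) * Γ.index = Fintype.card F - 1) ∨
       ((∀ x : OnePoint F, c • x ≠ x) ∧ Nat.card (torus p Γ c) * Γ.index = Fintype.card F + 1)) := by
  classical
  set q := Fintype.card F with hqdef
  have hcp := pow_ne_one_of_semisimple hc hc1
  set T := torus p Γ c
  have hcT : c ∈ T := ⟨hcΓ, fun z hz => hz⟩
  haveI := isCyclic_torus (Γ := Γ) hcp
  obtain ⟨t, ht⟩ := IsCyclic.exists_generator (α := T)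
  have htcard : orderOf (t : PG) = Nat.card T := by
    rw [Subgroup.orderOf_coe, orderOf_eq_card_of_forall_mem_zpowers ht]
  have ht1 : (t : PG) ≠ 1 := fun e => hc1 (by
    obtain ⟨j, hj⟩ := Subgroup.mem_zpowers_iff.mp (ht ⟨c, hcT⟩)
    have := congrArg Subtype.val hj
    rw [Subgroup.coe_zpow, e, _root_.one_zpow] at this
    exact this.symm)
  have htp : ¬ p ∣ orderOf (t : PG) := htcard ▸ not_dvd_torus hcp
  have hord := order_dvd_fix p htp ht1
  -- the parity refinement inside `PSL₂`
  have hrefine : Γ ≠ ⊤ → orderOf (t : PG) ∣ (q - 1) / dd F ∨ orderOf (t : PG) ∣ (q + 1) / dd F := by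
    intro hne
    have hΓL : Γ = sln F := hΓ.resolve_left hne
    obtain ⟨s, hs⟩ : (t : PG) ∈ sln F := hΓL ▸ t.2.1
    rw [← hs] at htp ⊢
    exact order_dvd_psl p s htp
  obtain ⟨z, z', hne, hz, hz', hall⟩ := exists_pair hcp
  have hiff : ∀ w, FixE p c w ↔ w = z ∨ w = z' :=
    fun w => ⟨hall w, fun h => h.elim (fun e => e ▸ hz) (fun e => e ▸ hz')⟩
  have hTfix : ∀ w, FixE p c w → ∀ g ∈ T, toExt p g • w = w := fun w hw g hg => hg.2 w hw
  rcases order_dvd_fix p hc hc1 with ⟨-, x, y, hxy, hx, hy⟩ | ⟨-, hnone⟩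
  · -- split
    have hxz : ptExt p x = z ∨ ptExt p x = z' := hall _ (by rw [FixE, toExt_smul, hx])
    have hyz : ptExt p y = z ∨ ptExt p y = z' := hall _ (by rw [FixE, toExt_smul, hy])
    have hxy' : ptExt p x ≠ ptExt p y := fun e => hxy (ptExt_injective p e)
    obtain ⟨hsw, hsw1, hsw2, hsw3⟩ := exists_sln_swap hxy
    refine ⟨ptExt p x, ptExt p y, hxy', fun w => ?_, ⟨hsw, hΓ.sln_le hsw1, by rw [toExt_smul, hsw2],
      by rw [toExt_smul, hsw3]⟩, Or.inl ⟨⟨x, y, hxy, hx, hy⟩, ?_⟩⟩
    · rw [hiff]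
      rcases hxz with e1 | e1 <;> rcases hyz with e2 | e2
      · exact absurd (e1.trans e2.symm) hxy'
      · rw [e1, e2]
      · rw [e1, e2]; exact or_comm
      · exact absurd (e1.trans e2.symm) hxy'
    -- lower bound
    have hTeq : T = stabIn Γ x ⊓ stabilizer PG y := by
      ext g
      constructor
      · intro hg
        exact ⟨⟨hg.1, ptExt_injective p (by rw [← toExt_smul]; exact hTfix _ (by rw [FixE, toExt_smul, hx]) g hg)⟩,
          ptExt_injective p (by rw [← toExt_smul]; exact hTfix _ (by rw [FixE, toExt_smul, hy]) g hg)⟩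
      · rintro ⟨⟨hgΓ, hgx⟩, hgy⟩
        refine ⟨hgΓ, fun w hw => ?_⟩
        rcases hxz with e1 | e1 <;> rcases hyz with e2 | e2
        · exact absurd (e1.trans e2.symm) hxy'
        · rcases hall w hw with rfl | rfl
          · rw [FixE, ← e1, toExt_smul]; exact congrArg _ hgx
          · rw [FixE, ← e2, toExt_smul]; exact congrArg _ hgy
        · rcases hall w hw with rfl | rfl
          · rw [FixE, ← e2, toExt_smul]; exact congrArg _ hgy
          · rw [FixE, ← e1, toExt_smul]; exact congrArg _ hgx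
        · exact absurd (e1.trans e2.symm) hxy'
    have hlow : q - 1 ≤ Nat.card T * Γ.index := by
      let S := stabIn Γ x
      have h1 := TwoFixed.o_mul_e (G := S) y
      have ho : TwoFixed.o (G := S) y ≤ q := by
        have hsub : orbit S y ⊆ {w | w ≠ x} := by
          rintro _ ⟨g, rfl⟩ e
          exact hxy (MulAction.injective (g : PG) ((g.2.2).trans e.symm))
        have := Set.ncard_le_ncard hsub (Set.toFinite _)
        rw [← Nat.card_coe_set_eq] at this
        refine this.trans ?_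
        rw [show {w : OnePoint F | w ≠ x} = Set.univ \ {x} by ext; simp,
          Set.ncard_sdiff (by simp) (Set.toFinite _), Set.ncard_univ, Set.ncard_singleton, natCard_points,
          Nat.card_eq_fintype_card]
        omega
      have he : TwoFixed.e (G := S) y = Nat.card T := by
        rw [hTeq]
        exact Nat.card_congr
          { toFun := fun g => ⟨g.1.1, g.1.2, g.2⟩
            invFun := fun g => ⟨⟨g.1, g.2.1⟩, g.2.2⟩
            left_inv := fun _ => rfl
            right_inv := fun _ => rfl }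
      have h2 := card_stabIn hΓ.sln_le x
      have h3 := hΓ.card_mul
      rw [he] at h1
      have h4 : Nat.card S * Γ.index = q * (q - 1) := by
        apply Nat.eq_of_mul_eq_mul_left (show 0 < q + 1 by omega)
        calc (q + 1) * (Nat.card S * Γ.index) = Nat.card S * (q + 1) * Γ.index := by ring
          _ = _ := by rw [h2, h3, mul_assoc]
      have h5 : q * (q - 1) ≤ q * (Nat.card T * Γ.index) := by
        rw [← h4, ← h1, mul_assoc]
        exact Nat.mul_le_mul_right _ ho
      exact Nat.le_of_mul_le_mul_left h5 (by omega)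
    have hsplit : orderOf (t : PG) ∣ q - 1 := by
      rcases hord with ⟨h, -⟩ | ⟨-, h⟩
      · exact h
      · exact absurd (ptExt_injective p (by
          rw [← toExt_smul]; exact hTfix _ (by rw [FixE, toExt_smul, hx]) _ t.2)) (h x)
    rw [htcard] at hsplit hrefine
    have hle := Nat.le_of_dvd (by omega) hsplit
    by_cases htop : Γ = ⊤
    · rw [htop, Subgroup.index_top, mul_one] at hlow ⊢
      omega
    · rw [show Γ.index = dd F by rw [hΓ.resolve_left htop, index_sln]] at hlow ⊢
      rcases dd_cases (F := F) with ⟨hd, -⟩ | ⟨hd, hodd⟩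
      · rw [hd, mul_one] at hlow ⊢; omega
      · rw [hd] at hlow hrefine ⊢
        rcases hrefine htop with h | h
        · have := Nat.le_of_dvd (by omega) h; omega
        · exfalso
          have h2 : Nat.card T ∣ 2 := by
            have hh : Nat.card T ∣ q + 1 := h.trans (Nat.div_dvd_of_dvd (by omega))
            have := Nat.dvd_sub hh hsplit
            rwa [show q + 1 - (q - 1) = 2 by omega] at this
          have := Nat.le_of_dvd (by norm_num) h2
          have h6 := Nat.le_of_dvd (by omega) h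
          by_cases hq5 : q = 5
          · rw [hq5] at hlow h
            interval_cases hh : Nat.card T <;> omega
          · omega
  · -- nonsplit
    have hirr : ∀ w, FixE p c w → w ∈ (Set.range (ptExt (F := F) p))ᶜ := by
      rintro w hw ⟨x, rfl⟩
      exact hnone x (ptExt_injective p (by rw [← toExt_smul]; exact hw))
    let J : Subgroup (ProjGenLinGroup (Fin 2) E2) := Γ.map (toExt p)
    have hstab_fix : ∀ w, FixE p c w → ∀ g ∈ Γ, toExt p g • w = w → g ∈ T := by
      intro w hw g hg hgw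
      refine ⟨hg, fun v hv => ?_⟩
      by_cases hvw : v = w
      · rw [hvw]; exact hgw
      by_cases hg1 : g = 1
      · rw [FixE, hg1, map_one, one_smul]
      -- `g` is semisimple, so it commutes with `c`
      have hgp : g ^ p ≠ 1 := fun h => hirr w hw (unip_fix_rational p hg1 h hgw)
      obtain ⟨t', ht'⟩ : ∃ t' : ProjGenLinGroup (Fin 2) E2, t' = toExt p g := ⟨_, rfl⟩
      haveI hcy : IsCyclic (stabilizer J w) := isCyclic_stabilizer p J (by
        rw [Nat.card_eq_one_iff_unique]
        refine ⟨⟨?_⟩, ⟨1⟩⟩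
        rintro ⟨⟨_, a, ha, rfl⟩, hua⟩ ⟨⟨_, b, hb, rfl⟩, hub⟩
        have ha1 : a = 1 := by
          by_contra h1
          exact hirr w hw (unip_fix_rational p h1 ((toExt_pow_eq_one_iff p a p).mp hua.2) hua.1)
        have hb1 : b = 1 := by
          by_contra h1
          exact hirr w hw (unip_fix_rational p h1 ((toExt_pow_eq_one_iff p b p).mp hub.2) hub.1)
        subst ha1 hb1; rfl)
      obtain ⟨u, hu⟩ := IsCyclic.exists_generator (α := stabilizer J w)
      obtain ⟨i, hi⟩ := Subgroup.mem_zpowers_iff.mp (hu ⟨⟨toExt p g, g, hg, rfl⟩, hgw⟩)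
      obtain ⟨j, hj⟩ := Subgroup.mem_zpowers_iff.mp (hu ⟨⟨toExt p c, c, hcΓ, rfl⟩, hw⟩)
      have hcom : toExt p c * toExt p g = toExt p g * toExt p c := by
        have := ((Commute.refl u).zpow_zpow j i).eq
        rw [hi, hj] at this
        exact congrArg (fun u : stabilizer J w => ((u : J) : ProjGenLinGroup (Fin 2) E2)) this
      have hfix : toExt p c • toExt p g • v = toExt p g • v := by rw [← mul_smul, hcom, mul_smul, hv]
      rcases eq_or_eq_of_fix (toExt_ne_one hc1) (Ne.symm hvw) hw hv hfix with e | e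
      · exact absurd (MulAction.injective (toExt p g) (e.trans hgw.symm)) hvw
      · exact e
    have horb : ∀ w, FixE p c w →
        Nat.card T * Nat.card (orbit J w) = Nat.card Γ ∧ orbit J w ⊆ (Set.range (ptExt (F := F) p))ᶜ := by
      intro w hw
      refine ⟨?_, ?_⟩
      · have h1 := TwoFixed.o_mul_e (G := J) w
        have h2 : Nat.card J = Nat.card Γ := Subgroup.card_map_of_injective (toExt_injective p)
        have h3 : TwoFixed.e (G := J) w = Nat.card T := by
          refine (Nat.card_congr (Equiv.ofBijective (fun g : T => (⟨⟨toExt p g.1, g.1, g.2.1, rfl⟩,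
            hTfix w hw g.1 g.2⟩ : stabilizer J w)) ⟨?_, ?_⟩)).symm
          · intro a b e
            exact Subtype.ext (toExt_injective p (congrArg (fun u : stabilizer J w => ((u : J) : ProjGenLinGroup (Fin 2) E2)) e))
          · rintro ⟨⟨_, g, hg, rfl⟩, hgw⟩
            exact ⟨⟨g, hstab_fix w hw g hg hgw⟩, rfl⟩
        rw [h3, h2, mul_comm] at h1
        exact h1
      · rintro _ ⟨⟨_, g, hg, rfl⟩, rfl⟩ ⟨x, hx⟩
        exact hirr w hw ⟨g⁻¹ • x, by
          rw [← toExt_smul, map_inv, inv_smul_eq_iff]; exact hx⟩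
    have hirr_card : (Set.range (ptExt (F := F) p))ᶜ.ncard = q * q - q := by
      rw [Set.ncard_compl, ← Set.image_univ, Set.ncard_image_of_injective _ (ptExt_injective p),
        Set.ncard_univ, natCard_points, natCard_points, FiniteField.natCard_extension,
        Nat.card_eq_fintype_card, sq, ← hqdef]
      have : q ≤ q * q := Nat.le_mul_self q
      omega
    have hTcard : Nat.card T * Γ.index = q + 1 := by
      have hns : orderOf (t : PG) ∣ q + 1 := by
        rcases hord with ⟨-, x, -, -, hx, -⟩ | ⟨h, -⟩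
        · exfalso
          have hx' : toExt p (t : PG) • ptExt p x = ptExt p x := by rw [toExt_smul, hx]
          rcases eq_or_eq_of_fix (toExt_ne_one ht1) hne (hTfix z hz _ t.2) (hTfix z' hz' _ t.2) hx' with e | e
          · exact hirr z hz ⟨x, e⟩
          · exact hirr z' hz' ⟨x, e⟩
        · exact h
      obtain ⟨h1, h2⟩ := horb z hz
      have h3 := Set.ncard_le_ncard h2 (Set.toFinite _)
      rw [← Nat.card_coe_set_eq, hirr_card] at h3
      have hlow : q + 1 ≤ Nat.card T * Γ.index := by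
        have h4 := hΓ.card_mul
        rw [← h1] at h4
        have h5 : (q + 1) * q * (q - 1) ≤ Nat.card T * Γ.index * (q * q - q) := by
          rw [← h4, mul_right_comm]
          exact Nat.mul_le_mul_left _ h3
        rw [show q * q - q = q * (q - 1) by rw [Nat.mul_sub, mul_one], mul_assoc (q + 1)] at h5
        exact Nat.le_of_mul_le_mul_right h5 (Nat.mul_pos (by omega) (by omega))
      rw [htcard] at hns hrefine
      have hle := Nat.le_of_dvd (by omega) hns
      by_cases htop : Γ = ⊤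
      · rw [htop, Subgroup.index_top, mul_one] at hlow ⊢
        omega
      · rw [show Γ.index = dd F by rw [hΓ.resolve_left htop, index_sln]] at hlow ⊢
        rcases dd_cases (F := F) with ⟨hd, -⟩ | ⟨hd, hodd⟩
        · rw [hd, mul_one] at hlow ⊢; omega
        · rw [hd] at hlow hrefine ⊢
          rcases hrefine htop with h | h
          · have := Nat.le_of_dvd (by omega) h; omega
          · have := Nat.le_of_dvd (by omega) h; omega
    refine ⟨z, z', hne, hiff, ?_, Or.inr ⟨hnone, hTcard⟩⟩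
    -- transitivity on irrational points
    obtain ⟨h1, h2⟩ := horb z hz
    have heq : orbit J z = (Set.range (ptExt (F := F) p))ᶜ := by
      refine Set.eq_of_subset_of_ncard_le h2 ?_ (Set.toFinite _)
      rw [hirr_card, ← Nat.card_coe_set_eq]
      have h4 := hΓ.card_mul
      rw [← h1, mul_right_comm, hTcard, mul_assoc, Nat.mul_sub, mul_one] at h4
      rw [Nat.eq_of_mul_eq_mul_left (by omega) h4]
    obtain ⟨⟨_, h, hhΓ, rfl⟩, hh⟩ : z' ∈ orbit J z := heq ▸ hirr z' hz'
    have hh' : toExt p h • z = z' := hh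
    refine ⟨h, hhΓ, hh', ?_⟩
    -- `h` carries the torus to itself
    have hconj : h⁻¹ * c * h ∈ T := by
      refine hstab_fix z hz _ (mul_mem (mul_mem (inv_mem hhΓ) hcΓ) hhΓ) ?_
      rw [map_mul, map_mul, mul_smul, mul_smul, hh', hz', ← hh', map_inv, inv_smul_smul]
    have hfx : FixE p c (toExt p h • z') := by
      have := hTfix z' hz' _ hconj
      rw [map_mul, map_mul, mul_smul, mul_smul, map_inv, inv_smul_eq_iff] at this
      exact this
    rcases hall _ hfx with e | e
    · exact e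
    · exact absurd (MulAction.injective (toExt p h) (hh'.trans e.symm)) hne

/-- The normaliser of a torus is dihedral. -/
theorem pairStab_data (hΓ : IsBig Γ) (hq : 4 ≤ Fintype.card F) (hc : ¬ p ∣ orderOf c) (hc1 : c ≠ 1) (hcΓ : c ∈ Γ) :
    ∃ h ∈ pairStab p Γ c, h ∉ torus p Γ c ∧ h * h = 1 ∧ (∀ t ∈ torus p Γ c, h * t * h⁻¹ = t⁻¹) ∧
      (∀ g ∈ pairStab p Γ c, g ∉ torus p Γ c → g * g = 1) ∧
      Nat.card (pairStab p Γ c) = 2 * Nat.card (torus p Γ c) ∧
      Nonempty (pairStab p Γ c ≃* DihedralGroup (Nat.card (torus p Γ c))) ∧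
      pairStab p Γ c ≠ Γ := by
  classical
  obtain ⟨z, z', hne, hiff, ⟨h, hhΓ, hh1, hh2⟩, hcases⟩ := torus_data p hΓ hq hc hc1 hcΓ
  have hcp := pow_ne_one_of_semisimple hc hc1
  set T := torus p Γ c
  set N := pairStab p Γ c
  have hTN : T ≤ N := torus_le_pairStab hcp
  have hhN : h ∈ N := by
    refine ⟨hhΓ, fun w => ?_⟩
    rw [hiff, hiff]
    constructor
    · rintro (rfl | rfl)
      exacts [Or.inr hh1, Or.inl hh2]
    · rintro (e | e)
      · exact Or.inr (MulAction.injective (toExt p h) (e.trans hh2.symm))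
      · exact Or.inl (MulAction.injective (toExt p h) (e.trans hh1.symm))
  have hhT : h ∉ T := fun e => hne ((e.2 z ((hiff z).mpr (Or.inl rfl))).symm.trans hh1)
  -- elements outside the torus swap the pair
  have hswap : ∀ g ∈ N, g ∉ T → toExt p g • z = z' ∧ toExt p g • z' = z := by
    intro g hg hgT
    have a1 := (hiff _).mp ((hg.2 z).mp ((hiff z).mpr (Or.inl rfl)))
    have a2 := (hiff _).mp ((hg.2 z').mp ((hiff z').mpr (Or.inr rfl)))
    rcases a1 with a1 | a1 <;> rcases a2 with a2 | a2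
    · exact absurd (MulAction.injective (toExt p g) (a1.trans a2.symm)) hne
    · exact absurd ⟨hg.1, fun w hw => by rcases (hiff w).mp hw with rfl | rfl <;> assumption⟩ hgT
    · exact ⟨a1, a2⟩
    · exact absurd (MulAction.injective (toExt p g) (a1.trans a2.symm)) hne
  have hinv : ∀ g ∈ N, g ∉ T → g * g = 1 := by
    intro g hg hgT
    obtain ⟨a1, a2⟩ := hswap g hg hgT
    obtain ⟨w, hw⟩ := exists_fixed_ext p g
    apply toExt_injective p
    rw [map_one]
    refine eq_one_of_fix_three hne (z := w) ?_ ?_ ?_ ?_ ?_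
    · rintro rfl; exact hne (hw.symm.trans a1)
    · rintro rfl; exact hne (a2.symm.trans hw)
    · rw [map_mul, mul_smul, a1, a2]
    · rw [map_mul, mul_smul, a2, a1]
    · rw [map_mul, mul_smul, hw, hw]
  have hh_sq := hinv h hhN hhT
  have hinvt : ∀ t ∈ T, h * t * h⁻¹ = t⁻¹ := by
    intro t ht
    have e := hinv (h * t) (mul_mem hhN (hTN ht)) (fun e => hhT (by
      have := mul_mem e (inv_mem ht); rwa [mul_inv_cancel_right] at this))
    rw [show h⁻¹ = h from inv_eq_of_mul_eq_one_right hh_sq]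
    exact eq_inv_of_mul_eq_one_left (by rw [← e]; group)
  have hidx : (T.subgroupOf N).index = 2 := by
    refine Subgroup.index_eq_two_iff.mpr ⟨⟨h, hhN⟩, fun g => ?_⟩
    by_cases hg : (g : PG) ∈ T
    · refine Or.inr ⟨hg, fun e => hhT ?_⟩
      have := mul_mem (inv_mem hg) (show (g : PG) * h ∈ T from e)
      rwa [inv_mul_cancel_left] at this
    · refine Or.inl ⟨show (g : PG) * h ∈ T from ?_, fun e => hg e⟩
      obtain ⟨a1, a2⟩ := hswap g g.2 hg
      refine ⟨mul_mem g.2.1 hhΓ, fun w hw => ?_⟩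
      rcases (hiff w).mp hw with rfl | rfl
      · rw [FixE, map_mul, mul_smul, hh1, a2]
      · rw [FixE, map_mul, mul_smul, hh2, a1]
  have hcard : Nat.card N = 2 * Nat.card T := by
    have := (T.subgroupOf N).card_mul_index
    rw [hidx, Nat.card_congr (Subgroup.subgroupOfEquivOfLe hTN).toEquiv] at this
    omega
  refine ⟨h, hhN, hhT, hh_sq, hinvt, hinv, hcard, ?_, ?_⟩
  · haveI := isCyclic_torus (Γ := Γ) hcp
    obtain ⟨t, ht⟩ := IsCyclic.exists_generator (α := T)
    refine CfsgLib.TwoGroups.CyclicMax.dihedral_iso (a := (⟨t.1, hTN t.2⟩ : N)) (b := ⟨h, hhN⟩) ?_ hcard ?_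
      (Subtype.ext hh_sq) (Subtype.ext (hinvt t.1 t.2))
    · rw [← Subgroup.orderOf_coe, Subgroup.orderOf_coe t, orderOf_eq_card_of_forall_mem_zpowers ht]
    · intro hmem
      obtain ⟨j, hj⟩ := Subgroup.mem_zpowers_iff.mp hmem
      apply hhT
      have := congrArg Subtype.val hj
      rw [Subgroup.coe_zpow] at this
      change (t : PG) ^ j = h at this
      rw [← this]
      exact zpow_mem t.2 j
  · intro e
    rw [e] at hcard
    have hlt := hΓ.two_mul_lt hq
    have := hΓ.card_mul
    have hpos : 0 < Γ.index := IsBig.index_pos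
    have hT : Nat.card T ≤ Nat.card T * Γ.index := Nat.le_mul_of_pos_right _ hpos
    rcases hcases with ⟨-, hh⟩ | ⟨-, hh⟩ <;> omega

end CfsgLib.Classical.Dickson
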